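import Cfsg.Agent.Lib.PhanSmall.Small
import Mathlib.LinearAlgebra.Matrix.Charpoly.Basic

/-!
# Common eigenframes in four dimensions
-/

set_option autoImplicit false
set_option linter.unusedSectionVars false

namespace CfsgLib.PhanSmall

open Matrix Cfsg
open CfsgLib.Classical.Herm
open CfsgLib.Classical.Phan hiding two_mul
open CfsgLib.ClassicalAut (Unitary.Conj Unitary.space Unitary.herm_apply)

variable {F : Type*} [Field F] [Finite F] {q : ℕ} (K : Unitary.Conj F q)

local notation "H" => hermForm 4 F q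

include K in
/-- A norm one vector with vanishing first coordinates is the image of an axis. -/
theorem exists_sphere_four {k : ℕ} (hk : k ≤ 2) {v : Fin 4 → F} (hv : v ∈ W k) (h1 : H v v = 1) :
    ∃ g ∈ (CfsgLib.Classical.Phan.Fix k : Subgroup (SU 4 F q)), app g (bv k : Fin 4 → F) = v := by
  by_cases hsp : q = 2 ∧ k = 1
  · obtain ⟨g, -, hfix, hg⟩ := exists_move_sphere_special K hsp.1 (show 1 ≤ k by omega)
      (show 4 = k + 3 by omega) hv h1
    refine ⟨g, fun i hi => ?_, by rw [bv, dif_pos (show k < 4 by omega)]; exact hg⟩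
    rw [bv, dif_pos (show i < 4 by omega)]
    exact hfix _ hi
  · obtain ⟨g, hg, hgv⟩ := exists_move_sphere K (show k + 2 ≤ 4 by omega)
      (fun h2 h3 => hsp ⟨h2, by omega⟩) hv h1
    refine ⟨g, fun i hi => ?_, by rw [bv, dif_pos (show k < 4 by omega)]; exact hgv⟩
    rw [bv, dif_pos (show i < 4 by omega)]
    exact gen_fix_W K hg hi

include K in
/-- Three orthonormal vectors are the images of the first axes. -/
theorem exists_frame (f : ℕ → Fin 4 → F)
    (h : ∀ a b, a < 3 → b < 3 → H (f a) (f b) = if a = b then 1 else 0) :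
    ∃ g : SU 4 F q, ∀ a, a < 3 → app g (bv a : Fin 4 → F) = f a := by
  suffices ∀ k, k ≤ 3 → ∃ g : SU 4 F q, ∀ a, a < k → app g (bv a : Fin 4 → F) = f a from this 3 le_rfl
  intro k
  induction k with
  | zero => exact fun _ => ⟨1, fun a ha => absurd ha (Nat.not_lt_zero a)⟩
  | succ k ih =>
    intro hk
    obtain ⟨g, hg⟩ := ih (by omega)
    set v := app g⁻¹ (f k)
    have hvW : v ∈ W k := mem_W.2 fun i hi => by
      rw [← h_bv K, show (bv i : Fin 4 → F) = app g⁻¹ (f i) by rw [← hg i hi, app_inv], h_app,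
        h k i (by omega) (by omega), if_neg (by omega)]
    obtain ⟨p, hp, hpv⟩ := exists_sphere_four K (show k ≤ 2 by omega) hvW
      (by rw [h_app, h k k (by omega) (by omega), if_pos rfl])
    refine ⟨g * p, fun a ha => ?_⟩
    rw [app_mul]
    rcases Nat.lt_succ_iff_lt_or_eq.1 ha with ha | rfl
    · rw [hp a ha, hg a ha]
    · rw [hpv, app_inv']

/-- The eigenspace. -/
def Eig (x : SU 4 F q) (c : F) : Submodule F (Fin 4 → F) where
  carrier := {v | app x v = c • v}
  add_mem' {a b} ha hb := by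
    simp only [Set.mem_ofPred_eq] at ha hb ⊢
    rw [app_add, ha, hb, smul_add]
  zero_mem' := by simp [app_zero']
  smul_mem' t v hv := by
    simp only [Set.mem_ofPred_eq] at hv ⊢
    rw [app_smul, hv, smul_comm]

theorem mem_Eig {x : SU 4 F q} {c : F} {v : Fin 4 → F} : v ∈ Eig x c ↔ app x v = c • v := Iff.rfl

variable (hq : q = 2 ∨ q = 3) {l : F} (hl : nm K l = 1) (hl' : K.bar l ≠ l)

include K hl in
theorem l_pow : l ^ (q + 1) = 1 := by
  rw [nm, K.bar_apply] at hl
  rw [pow_succ']; exact hl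

include K hq hl hl' in
theorem l_pow_ne {k : ℕ} (h0 : 0 < k) (hk : k < q + 1) : l ^ k ≠ 1 := by
  intro e
  apply hl'
  rw [K.bar_apply]
  obtain ⟨r2, r3⟩ := bar_root K hq hl hl'
  rcases hq with h | h
  · rcases (show k = 1 ∨ k = 2 by omega) with rfl | rfl
    · rw [show l = 1 by simpa using e, one_pow]
    · exfalso
      obtain ⟨r, -⟩ := r2 h
      exact one_ne_zero (α := F) (by linear_combination -e + l * (r - e) - l * two_eq_zero K h)
  · rcases (show k = 1 ∨ k = 2 ∨ k = 3 by omega) with rfl | rfl | rfl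
    · rw [show l = 1 by simpa using e, one_pow]
    · exfalso
      obtain ⟨r, -⟩ := r3 h
      exact one_ne_zero (α := F) (by linear_combination three_eq_zero K h - r + e)
    · obtain ⟨r, -⟩ := r3 h
      rw [show l = -1 by linear_combination -e + l * r]
      rw [show q = 2 * 1 + 1 by omega, Odd.neg_one_pow ⟨1, rfl⟩]

include K hq hl hl' in
theorem l_pow_inj {a b : ℕ} (ha : a < q + 1) (hb : b < q + 1) (e : l ^ a = l ^ b) : a = b := by
  have l0 : l ≠ 0 := fun h => by rw [h, nm_zero] at hl; exact zero_ne_one hl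
  by_contra hne
  rcases Nat.lt_or_gt_of_ne hne with h | h
  · refine l_pow_ne K hq hl hl' (k := b - a) (by omega) (by omega) ?_
    refine mul_right_cancel₀ (pow_ne_zero a l0) ?_
    rw [← pow_add, Nat.sub_add_cancel h.le, one_mul, e]
  · refine l_pow_ne K hq hl hl' (k := a - b) (by omega) (by omega) ?_
    refine mul_right_cancel₀ (pow_ne_zero b l0) ?_
    rw [← pow_add, Nat.sub_add_cancel h.le, one_mul, e]

include K in
theorem app_sum {ι : Type*} (x : SU 4 F q) (s : Finset ι) (f : ι → Fin 4 → F) :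
    app x (∑ i ∈ s, f i) = ∑ i ∈ s, app x (f i) := mulVec_sum _ _ _

include K hq hl hl' in
/-- A non-null vector has a non-null eigencomponent. -/
theorem exists_eigen {x : SU 4 F q} (hx : x ^ (q + 1) = 1) {p : Submodule F (Fin 4 → F)}
    (hp : ∀ v ∈ p, app x v ∈ p) {v : Fin 4 → F} (hv : v ∈ p) (hne : H v v ≠ 0) :
    ∃ w ∈ p, H w w ≠ 0 ∧ ∃ c : F, nm K c = 1 ∧ app x w = c • w := by
  classical
  set S := Unitary.space (n := 4) K
  set η := K.bar l
  have hη : nm K η = 1 := by rw [nm_bar, hl]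
  have hη' : K.bar η ≠ η := fun e => hl' (by rw [show K.bar η = l from K.bar_bar l] at e; exact e.symm)
  have h1 : ((q + 1 : ℕ) : F) = 1 := by
    rcases hq with h | h
    · rw [h]; push_cast; linear_combination two_eq_zero K h
    · rw [h]; push_cast; linear_combination three_eq_zero K h
  let P : ℕ → Fin 4 → F := fun i => ∑ k ∈ Finset.range (q + 1), (η ^ i) ^ k • app (x ^ k) v
  have hk : ∀ k : ℕ, app (x ^ k) v ∈ p := fun k => by
    induction k with
    | zero => rw [pow_zero, app_one]; exact hv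
    | succ k ih => rw [pow_succ', app_mul]; exact hp _ ih
  have hPp : ∀ i, P i ∈ p := fun i => Submodule.sum_mem _ fun k _ => p.smul_mem _ (hk k)
  have hll : l * η = 1 := hl
  have hxP : ∀ i, app x (P i) = l ^ i • P i := fun i => by
    set f : ℕ → Fin 4 → F := fun k => (η ^ i) ^ k • app (x ^ k) v
    have hf : f (q + 1) = f 0 := by
      simp only [f, hx, pow_zero]
      rw [← pow_mul, mul_comm i, pow_mul, l_pow K hη, one_pow]
    have e1 : ∑ k ∈ Finset.range (q + 1), f (k + 1) = ∑ k ∈ Finset.range (q + 1), f k := by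
      have h1' := Finset.sum_range_succ' f (q + 1)
      rw [Finset.sum_range_succ, hf] at h1'
      exact (add_right_cancel h1').symm
    show app x (∑ k ∈ _, f k) = l ^ i • ∑ k ∈ _, f k
    conv_rhs => rw [← e1]
    rw [app_sum K, Finset.smul_sum]
    refine Finset.sum_congr rfl fun k _ => ?_
    simp only [f]
    rw [app_smul, ← app_mul, ← pow_succ', smul_smul, pow_succ (η ^ i), mul_left_comm, ← mul_pow, hll,
      one_pow, mul_one]
  have hsum : ∑ i ∈ Finset.range (q + 1), P i = v := by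
    simp only [P]
    rw [Finset.sum_comm, Finset.sum_eq_single 0]
    · simp only [pow_zero, app_one]
      rw [Finset.sum_const, Finset.card_range, ← Nat.cast_smul_eq_nsmul F, h1, one_smul, one_smul]
    · intro k hk hk0
      rw [← Finset.sum_smul]
      have : ∑ i ∈ Finset.range (q + 1), (η ^ i) ^ k = 0 := by
        have hne : η ^ k ≠ 1 := l_pow_ne K hq hη hη' (Nat.pos_of_ne_zero hk0) (Finset.mem_range.1 hk)
        have hg := geom_sum_mul (η ^ k) (q + 1)
        rw [← pow_mul, mul_comm k, pow_mul, l_pow K hη, one_pow, sub_self] at hg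
        rw [Finset.sum_congr rfl fun i _ => show (η ^ i) ^ k = (η ^ k) ^ i by
          rw [← pow_mul, mul_comm, pow_mul]]
        exact (mul_eq_zero.1 hg).resolve_right (sub_ne_zero.2 hne)
      rw [this, zero_smul]
    · simp
  have horth : ∀ i < q + 1, ∀ j < q + 1, i ≠ j → H (P i) (P j) = 0 := by
    intro i hi j hj hij
    have h := h_app x (P i) (P j)
    rw [hxP, hxP] at h
    change S.h (l ^ i • P i) (l ^ j • P j) = S.h (P i) (P j) at h
    rw [S.smul_left, S.smul_right] at h
    refine (mul_eq_zero.1 (show (l ^ i * K.bar (l ^ j) - 1) * H (P i) (P j) = 0 by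
      show (l ^ i * K.bar (l ^ j) - 1) * S.h (P i) (P j) = 0
      rw [show S.bar = K.bar from rfl] at h
      linear_combination h)).resolve_left fun e => hij (l_pow_inj K hq hl hl' hi hj ?_)
    have hj' : l ^ j * K.bar (l ^ j) = 1 := by rw [map_pow, ← mul_pow, show l * K.bar l = 1 from hl, one_pow]
    linear_combination (l ^ j) * e - l ^ i * hj'
  obtain ⟨i, hi, hPi⟩ : ∃ i < q + 1, H (P i) (P i) ≠ 0 := by
    by_contra hc
    push Not at hc
    refine hne ?_
    rw [← hsum]
    show S.h _ _ = 0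
    have sl : ∀ (w : Fin 4 → F) (f : ℕ → Fin 4 → F) (t : Finset ℕ),
        S.h (∑ i ∈ t, f i) w = ∑ i ∈ t, S.h (f i) w := fun w f t =>
      map_sum (AddMonoidHom.mk' (fun z => S.h z w) (fun a b => S.add_left a b w)) f t
    have sr : ∀ (w : Fin 4 → F) (f : ℕ → Fin 4 → F) (t : Finset ℕ),
        S.h w (∑ i ∈ t, f i) = ∑ i ∈ t, S.h w (f i) := fun w f t =>
      map_sum (AddMonoidHom.mk' (fun z => S.h w z) (fun a b => S.add_right w a b)) f t
    rw [sl]
    refine Finset.sum_eq_zero fun i hi => ?_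
    rw [sr]
    refine Finset.sum_eq_zero fun j hj => ?_
    by_cases e : i = j
    · subst e; exact hc i (Finset.mem_range.1 hi)
    · exact horth i (Finset.mem_range.1 hi) j (Finset.mem_range.1 hj) e
  refine ⟨P i, hPp i, hPi, l ^ i, ?_, hxP i⟩
  rw [nm, map_pow, ← mul_pow, show l * K.bar l = 1 from hl, one_pow]

/-- Acts on the axes by scalars. -/
def IsDg (x : SU 4 F q) (d : ℕ → F) : Prop :=
  ∀ i, i < 4 → app x (bv i : Fin 4 → F) = d i • bv i

theorem IsDg.mul {x y : SU 4 F q} {d e : ℕ → F} (hx : IsDg x d) (hy : IsDg y e) :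
    IsDg (x * y) fun i => d i * e i := fun i hi => by
  show app (x * y) _ = (d i * e i) • _
  rw [app_mul, hy i hi, app_smul, hx i hi, smul_smul, mul_comm]

theorem IsDg.inv {x : SU 4 F q} {d e : ℕ → F} (hx : IsDg x d) (h : ∀ i, i < 4 → e i * d i = 1) :
    IsDg x⁻¹ e := fun i hi => by
  conv_rhs => rw [← app_inv x (bv i), hx i hi, app_smul, smul_smul, h i hi, one_smul]

theorem IsDg.eq {x y : SU 4 F q} {d e : ℕ → F} (hx : IsDg x d) (hy : IsDg y e)
    (h : ∀ i, i < 4 → d i = e i) : x = y :=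
  eq_of_basis fun i hi => by rw [hx i hi, hy i hi, h i hi]

theorem IsDg.mat {x : SU 4 F q} {d : ℕ → F} (hx : IsDg x d) :
    CfsgLib.Classical.Phan.mat x = Matrix.diagonal fun i : Fin 4 => d i := by
  refine Matrix.ext fun i j => ?_
  rw [mat_apply, hx j j.2, cd_smul, cd_bv, Matrix.diagonal_apply]
  by_cases h : i = j
  · subst h; simp [i.2]
  · rw [if_neg h, if_neg (fun e => h (Fin.ext e.1)), mul_zero]

theorem IsDg.prod {x : SU 4 F q} {d : ℕ → F} (hx : IsDg x d) : d 0 * d 1 * d 2 * d 3 = 1 := by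
  have h := x.1.det_coe
  rw [show ((x.1 : Matrix.SpecialLinearGroup (Fin 4) F) : Matrix (Fin 4) (Fin 4) F) = _ from hx.mat,
    Matrix.det_diagonal, Fin.prod_univ_four] at h
  exact h

include K in
theorem IsDg.nm {x : SU 4 F q} {d : ℕ → F} (hx : IsDg x d) {i : ℕ} (hi : i < 4) :
    CfsgLib.Classical.Phan.nm K (d i) = 1 := by
  have h := h_app x (bv i : Fin 4 → F) (bv i)
  rw [hx i hi] at h
  change (Unitary.space (n := 4) K).h (d i • bv i) (d i • bv i) = _ at h
  rw [(Unitary.space (n := 4) K).smul_left, (Unitary.space (n := 4) K).smul_right] at h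
  change d i * (K.bar (d i) * H (bv i) (bv i)) = H (bv i) (bv i) at h
  rw [h_bv K, cd_bv, if_pos ⟨rfl, hi⟩, mul_one] at h
  exact h

/-- Conjugate diagonal elements have the same eigenvalues. -/
theorem dg_roots {x y g : SU 4 F q} {d e : ℕ → F} (hx : IsDg x d) (hy : IsDg y e)
    (h : g * x = y * g) :
    (Finset.univ : Finset (Fin 4)).val.map (fun i : Fin 4 => d i) =
      (Finset.univ : Finset (Fin 4)).val.map (fun i : Fin 4 => e i) := by
  have hy' : y = g * x * g⁻¹ := by rw [h, mul_inv_cancel_right]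
  have e1 : (CfsgLib.Classical.Phan.mat y).charpoly = (CfsgLib.Classical.Phan.mat x).charpoly := by
    rw [hy', mat_mul, mat_mul, Matrix.charpoly_mul_comm, ← Matrix.mul_assoc, ← mat_mul,
      inv_mul_cancel, show CfsgLib.Classical.Phan.mat (1 : SU 4 F q) = 1 from rfl, Matrix.one_mul]
  rw [hx.mat, hy.mat, Matrix.charpoly_diagonal, Matrix.charpoly_diagonal] at e1
  have r : ∀ f : Fin 4 → F, (∏ i, (Polynomial.X - Polynomial.C (f i))).roots =
      (Finset.univ : Finset (Fin 4)).val.map f := fun f => by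
    have := Polynomial.roots_multiset_prod_X_sub_C ((Finset.univ : Finset (Fin 4)).val.map f)
    rwa [Multiset.map_map] at this
  rw [← r, ← r, e1]

include K hq hl hl' in
/-- Commuting elements of exponent `q + 1` have a common orthonormal eigenframe. -/
theorem exists_diag {a b c : SU 4 F q} (ha : a ^ (q + 1) = 1) (hb : b ^ (q + 1) = 1)
    (hc : c ^ (q + 1) = 1) (hab : Commute a b) (hac : Commute a c) (hbc : Commute b c) :
    ∃ g : SU 4 F q, ∀ x, x = a ∨ x = b ∨ x = c → ∃ d, IsDg (g⁻¹ * x * g) d := by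
  classical
  set S := Unitary.space (n := 4) K
  suffices h : ∀ k, k ≤ 3 → ∃ g : SU 4 F q, ∀ x, x = a ∨ x = b ∨ x = c →
      ∀ i, i < k → ∃ t : F, app (g⁻¹ * x * g) (bv i : Fin 4 → F) = t • bv i by
    obtain ⟨g, hg⟩ := h 3 le_rfl
    refine ⟨g, fun x hx => ?_⟩
    set y := g⁻¹ * x * g
    have key : ∀ i, i < 4 → ∃ t : F, app y (bv i : Fin 4 → F) = t • bv i := fun i hi => by
      by_cases h3 : i < 3
      · exact hg x hx i h3
      obtain rfl : i = 3 := by omega
      refine ⟨cd (app y (bv 3 : Fin 4 → F)) 3, ext_cd fun m hm => ?_⟩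
      rw [cd_smul, cd_bv]
      by_cases e : m = 3
      · subst e; rw [if_pos ⟨rfl, hm⟩, mul_one]
      rw [if_neg (fun c => e c.1), mul_zero]
      obtain ⟨t, ht⟩ := hg x hx m (by omega)
      have h1 := h_app y (bv 3 : Fin 4 → F) (bv m)
      rw [ht] at h1
      change S.h (app y (bv 3)) (t • bv m) = _ at h1
      rw [S.smul_right] at h1
      change K.bar t * H (app y (bv 3)) (bv m) = H (bv 3) (bv m) at h1
      rw [h_bv K, h_bv K, cd_bv, if_neg (fun c => e c.1)] at h1
      refine (mul_eq_zero.1 h1).resolve_left fun h0 => ?_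
      rw [map_eq_zero] at h0
      rw [h0, zero_smul] at ht
      have h2 := congrArg (app y⁻¹) ht
      rw [app_inv, app_zero'] at h2
      have := congrArg (fun v => cd v m) h2
      simp only [cd_bv, hm, and_self, if_true] at this
      exact one_ne_zero (this.trans (by simp [cd]))
    choose t ht using key
    exact ⟨fun i => if hi : i < 4 then t i hi else 0, fun i hi => by simpa [hi] using ht i hi⟩
  intro k
  induction k with
  | zero => exact fun _ => ⟨1, fun x _ i hi => absurd hi (Nat.not_lt_zero i)⟩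
  | succ k ih =>
    intro hk
    obtain ⟨g, hg⟩ := ih (by omega)
    let φ := MulAut.conj g⁻¹
    have hφ : ∀ x, φ x = g⁻¹ * x * g := fun x => by simp [φ]
    have inv : ∀ x, x = a ∨ x = b ∨ x = c → ∀ v ∈ W (F := F) (n := 4) k, app (φ x) v ∈ W k := by
      intro x hx v hv
      refine mem_W.2 fun i hi => ?_
      obtain ⟨t, ht⟩ := hg x hx i hi
      rw [← hφ] at ht
      have h1 := h_app (φ x) v (bv i)
      rw [ht] at h1
      change S.h (app (φ x) v) (t • bv i) = _ at h1
      rw [S.smul_right] at h1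
      change K.bar t * H (app (φ x) v) (bv i) = H v (bv i) at h1
      rw [h_bv K, h_bv K, mem_W.1 hv i hi] at h1
      refine (mul_eq_zero.1 h1).resolve_left fun h0 => ?_
      rw [map_eq_zero] at h0
      rw [h0, zero_smul] at ht
      have h2 := congrArg (app (φ x)⁻¹) ht
      rw [app_inv, app_zero'] at h2
      have := congrArg (fun v => cd v i) h2
      simp only [cd_bv, show i < 4 by omega, and_self, if_true] at this
      exact one_ne_zero (this.trans (by simp [cd]))
    have hpow : ∀ x : SU 4 F q, x ^ (q + 1) = 1 → (φ x) ^ (q + 1) = 1 := fun x hx => by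
      rw [← map_pow, hx, map_one]
    obtain ⟨w1, hw1, hn1, ca, -, hca⟩ := exists_eigen K hq hl hl' (hpow a ha) (p := W k)
      (inv a (.inl rfl)) (v := bv k) (bv_mem_W le_rfl)
      (by rw [h_bv K, cd_bv, if_pos ⟨rfl, by omega⟩]; exact one_ne_zero)
    obtain ⟨w2, hw2, hn2, cb, -, hcb⟩ := exists_eigen K hq hl hl' (hpow b hb)
      (p := W k ⊓ Eig (φ a) ca) (fun v hv => ⟨inv b (.inr (.inl rfl)) v hv.1, by
        rw [SetLike.mem_coe, mem_Eig, ← app_mul, ← map_mul, hab.eq, map_mul, app_mul, mem_Eig.1 hv.2,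
          app_smul]⟩) (v := w1) ⟨hw1, hca⟩ hn1
    obtain ⟨w3, hw3, hn3, cc, -, hcc⟩ := exists_eigen K hq hl hl' (hpow c hc)
      (p := W k ⊓ Eig (φ a) ca ⊓ Eig (φ b) cb) (fun v hv => ⟨⟨inv c (.inr (.inr rfl)) v hv.1.1, by
        rw [SetLike.mem_coe, mem_Eig, ← app_mul, ← map_mul, hac.eq, map_mul, app_mul, mem_Eig.1 hv.1.2,
          app_smul]⟩, by
        rw [SetLike.mem_coe, mem_Eig, ← app_mul, ← map_mul, hbc.eq, map_mul, app_mul, mem_Eig.1 hv.2,
          app_smul]⟩) (v := w2) ⟨hw2, hcb⟩ hn2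
    obtain ⟨⟨hw3W, hw3a⟩, hw3b⟩ := hw3
    obtain ⟨s, hs⟩ := exists_nm K (s := (H w3 w3)⁻¹) (by rw [map_inv₀, ← h_swap K w3 w3])
    obtain ⟨p, hp, hpv⟩ := exists_sphere_four K (show k ≤ 2 by omega) (v := s • w3)
      ((W k).smul_mem _ hw3W) (by
        show S.h _ _ = 1
        rw [S.smul_left, S.smul_right]
        show s * (K.bar s * H w3 w3) = 1
        rw [← mul_assoc, show s * K.bar s = _ from hs, inv_mul_cancel₀ hn3])
    refine ⟨g * p, fun x hx i hi => ?_⟩
    rw [show (g * p)⁻¹ * x * (g * p) = p⁻¹ * φ x * p by rw [hφ]; group, app_mul, app_mul]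
    rcases Nat.lt_succ_iff_lt_or_eq.1 hi with hi' | rfl
    · obtain ⟨t, ht⟩ := hg x hx i hi'
      refine ⟨t, ?_⟩
      rw [hp i hi', hφ, ht, app_smul]
      conv_lhs => rw [← hp i hi', app_inv]
    · have key : ∃ t : F, app (φ x) w3 = t • w3 := by
        rcases hx with rfl | rfl | rfl
        exacts [⟨ca, hw3a⟩, ⟨cb, hw3b⟩, ⟨cc, hcc⟩]
      obtain ⟨t, ht⟩ := key
      refine ⟨t, ?_⟩
      rw [hpv, app_smul, ht, smul_comm, ← hpv, app_smul, app_inv]

end CfsgLib.PhanSmall
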