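import Cfsg.Agent.Lib.Classical.Phan.Amalgam

/-!
# The two-dimensional groups over the fields with four and nine elements
-/

set_option autoImplicit false
set_option linter.unusedSectionVars false

namespace CfsgLib.PhanSmall

open Matrix Cfsg
open CfsgLib.Classical.Herm
open CfsgLib.Classical.Phan hiding two_mul
open CfsgLib.ClassicalAut (Unitary.Conj Unitary.space Unitary.herm_apply)

variable {F : Type*} [Field F] [Finite F] {q : ℕ} (K : Unitary.Conj F q)

include K in
theorem tmul (A B : SU 2 F q) :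
    mat (A * B) 0 0 = mat A 0 0 * mat B 0 0 - K.bar (mat A 1 0) * mat B 1 0 ∧
      mat (A * B) 1 0 = mat A 1 0 * mat B 0 0 + K.bar (mat A 0 0) * mat B 1 0 :=
  CfsgLib.Classical.Phan.two_mul K A B

include K in
theorem tone : mat (1 : SU 2 F q) 0 0 = 1 ∧ mat (1 : SU 2 F q) 1 0 = 0 := by
  simp [show mat (1 : SU 2 F q) = 1 from rfl]

include K in
theorem tnorm (A : SU 2 F q) : mat A 0 0 * K.bar (mat A 0 0) + mat A 1 0 * K.bar (mat A 1 0) = 1 :=
  (mat_two K A).2

include K in
theorem tinv (A : SU 2 F q) : mat A⁻¹ 0 0 = K.bar (mat A 0 0) ∧ mat A⁻¹ 1 0 = -mat A 1 0 := by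
  obtain ⟨B, hB0, hB1⟩ := exists_two K (α := K.bar (mat A 0 0)) (β := -mat A 1 0)
    (by rw [nm_bar, nm_neg]; exact (mat_two K A).2)
  have : A⁻¹ = B := inv_eq_of_mul_eq_one_right (two_ext K
    (by rw [(tmul K A B).1, hB0, hB1, (tone K).1]; linear_combination tnorm K A)
    (by rw [(tmul K A B).2, hB0, hB1, (tone K).2]; ring))
  rw [this]
  exact ⟨hB0, hB1⟩

include K in
/-- A norm one element outside the fixed field. -/
theorem exists_gen : ∃ l : F, nm K l = 1 ∧ K.bar l ≠ l := by
  by_contra hc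
  push Not at hc
  have h := root_bound K (P := Polynomial.X ^ 2 - Polynomial.C (1 : F))
    (Polynomial.X_pow_sub_C_ne_zero (by norm_num) 1)
    (fun c : {c : F // c * K.bar c = 1} => (c : F)) Subtype.val_injective
    (fun c => by
      have := c.2
      rw [hc c.1 c.2] at this
      simp [sq, this])
  rw [card_norm_one K, Polynomial.natDegree_X_pow_sub_C] at h
  have := K.two_le
  omega

variable (hq : q = 2 ∨ q = 3)

include K in
theorem three_eq_zero (h3 : q = 3) : (3 : F) = 0 := by
  cases nonempty_fintype F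
  have h9 : ((9 : ℕ) : F) = 0 := by
    rw [show 9 = Fintype.card F by rw [← Nat.card_eq_fintype_card, K.card, h3]; norm_num]
    exact Nat.cast_card_eq_zero F
  refine mul_self_eq_zero.1 ?_
  rw [← h9]; norm_num

include K hq in
theorem bar_root {c : F} (hc : nm K c = 1) (hc' : K.bar c ≠ c) :
    (q = 2 → c * c + c + 1 = 0 ∧ K.bar c = c * c) ∧ (q = 3 → c * c = -1 ∧ K.bar c = -c) := by
  have hb := K.bar_apply c
  refine ⟨fun h2 => ?_, fun h3 => ?_⟩
  · simp only [h2, sq] at hb
    refine ⟨?_, hb⟩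
    refine (mul_eq_zero.1 (show (c - 1) * (c * c + c + 1) = 0 by
      rw [nm, hb] at hc; linear_combination hc)).resolve_left fun h => hc' ?_
    rw [sub_eq_zero.1 h, map_one]
  · simp only [h3] at hb
    have e : c * c * (c * c) = 1 := by rw [nm, hb] at hc; linear_combination hc
    have h : c * c = -1 := (mul_self_eq_one_iff.1 e).resolve_left fun h => hc' (by
      rw [hb, pow_three, h, mul_one])
    exact ⟨h, by rw [hb, pow_three, h, mul_neg_one]⟩

include K hq in
/-- The norm one elements. -/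
theorem norm_one_cases {c l : F} (hc : nm K c = 1) (hc' : K.bar c ≠ c) (hl : nm K l = 1)
    (hl' : K.bar l ≠ l) : c = l ∨ c = K.bar l := by
  obtain ⟨c2, c3⟩ := bar_root K hq hc hc'
  obtain ⟨l2, l3⟩ := bar_root K hq hl hl'
  rcases hq with h | h
  · rcases mul_eq_zero.1 (show (c - l) * (c + l + 1) = 0 by
      linear_combination (c2 h).1 - (l2 h).1) with e | e
    · exact .inl (sub_eq_zero.1 e)
    · exact .inr (by rw [(l2 h).2]; linear_combination e - (l2 h).1)
  · rcases mul_self_eq_mul_self_iff.1 ((c3 h).1.trans (l3 h).1.symm) with e | e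
    · exact .inl e
    · exact .inr (by rw [(l3 h).2]; exact e)

include K hq in
theorem fixed_norm_one {c : F} (hc : nm K c = 1) (hc' : K.bar c = c) : c = 1 ∨ c = -1 :=
  mul_self_eq_one_iff.1 (by rw [nm, hc'] at hc; exact hc)

include K hq in
theorem fixed_cases {c : F} (hc : K.bar c = c) : c = 0 ∨ c = 1 ∨ (q = 3 ∧ c = -1) := by
  rw [K.bar_apply] at hc
  rcases hq with h | h <;> simp only [h] at hc
  · rcases mul_eq_zero.1 (show c * (c - 1) = 0 by linear_combination hc) with e | e
    exacts [.inl e, .inr (.inl (sub_eq_zero.1 e))]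
  · rcases mul_eq_zero.1 (show c * ((c - 1) * (c + 1)) = 0 by linear_combination hc) with e | e
    · exact .inl e
    rcases mul_eq_zero.1 e with e | e
    exacts [.inr (.inl (sub_eq_zero.1 e)), .inr (.inr ⟨h, eq_neg_of_add_eq_zero_left e⟩)]

include K hq in
/-- An element is monomial, or it is one of the elements with two non-zero entries. -/
theorem two_cases (X : SU 2 F q) : mat X 1 0 = 0 ∨ mat X 0 0 = 0 ∨
    (q = 3 ∧ nm K (mat X 0 0) = -1 ∧ nm K (mat X 1 0) = -1) := by
  have hn : nm K (mat X 0 0) + nm K (mat X 1 0) = 1 := (mat_two K X).2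
  rcases fixed_cases K hq (bar_nm K (mat X 0 0)) with h | h | ⟨h3, h⟩
  · exact .inr (.inl ((nm_eq_zero K).1 h))
  · exact .inl ((nm_eq_zero K).1 (by linear_combination hn - h))
  · exact .inr (.inr ⟨h3, h, by linear_combination hn - h - three_eq_zero K h3 * (-1)⟩)

section Diag

variable {l : F} (hl : nm K l = 1) (hl' : K.bar l ≠ l) {d : SU 2 F q} (hd0 : mat d 0 0 = l)
  (hd1 : mat d 1 0 = 0)

include K hd0 hd1 in
theorem conj_d (X : SU 2 F q) :
    mat (X * d * X⁻¹) 0 0 = nm K (mat X 0 0) * l + nm K (mat X 1 0) * K.bar l := by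
  rw [(tmul K _ _).1, (tmul K X d).1, (tmul K X d).2, (tinv K X).1, (tinv K X).2, hd0, hd1]
  simp only [nm, map_add, map_mul, map_zero, mul_zero, sub_zero, add_zero]
  ring

include K hq hl hl' hd0 hd1 in
theorem conj_d_mono {X : SU 2 F q} (h3 : q = 3) (ha : nm K (mat X 0 0) = -1)
    (hb : nm K (mat X 1 0) = -1) : mat (X * d * X⁻¹) 0 0 = 0 := by
  rw [conj_d K hd0 hd1, ha, hb, ((bar_root K hq hl hl').2 h3).2]; ring

include K hl' hd0 hd1 in
theorem comm_d {Y : SU 2 F q} (h : Y * d = d * Y) : mat Y 1 0 = 0 := by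
  have e1 := (tmul K Y d).2
  rw [h, (tmul K d Y).2, hd0, hd1] at e1
  have : mat Y 1 0 * (K.bar l - l) = 0 := by simp at e1; linear_combination e1
  exact (mul_eq_zero.1 this).resolve_right (sub_ne_zero.2 hl')

include K hl' hd0 hd1 in
theorem inverts_d {Y : SU 2 F q} (h : Y * d * Y⁻¹ = d⁻¹) : mat Y 0 0 = 0 := by
  have h' : Y * d = d⁻¹ * Y := mul_inv_eq_iff_eq_mul.1 h
  have e1 := (tmul K Y d).1
  rw [h', (tmul K d⁻¹ Y).1, (tinv K d).1, (tinv K d).2, hd0, hd1] at e1
  have : mat Y 0 0 * (K.bar l - l) = 0 := by simp at e1; linear_combination e1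
  exact (mul_eq_zero.1 this).resolve_right (sub_ne_zero.2 hl')

include K hd0 hd1 in
theorem mono_inverts {W : SU 2 F q} (hW : mat W 0 0 = 0) : W * d * W⁻¹ = d⁻¹ := by
  have hn := tnorm K W
  rw [hW, zero_mul, zero_add] at hn
  refine two_ext K ?_ ?_
  · rw [conj_d K hd0 hd1, (tinv K d).1, hd0, hW, nm_zero, nm, hn]; ring
  · rw [(tinv K d).2, (tmul K _ _).2, (tmul K W d).1, (tmul K W d).2, (tinv K W).1, (tinv K W).2, hd0,
      hd1, hW]
    simp

include K hq in
/-- The cube of an element with two non-zero entries is a non-trivial scalar or one. -/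
theorem exists_cube {X : SU 2 F q} (h3 : q = 3) (ha : nm K (mat X 0 0) = -1) :
    ∃ c : F, (c = 1 ∨ c = -1) ∧ mat (X * X * X) 0 0 = c ∧ mat (X * X * X) 1 0 = 0 := by
  set a := mat X 0 0
  set b := mat X 1 0
  have hz := three_eq_zero K h3
  set t := a + K.bar a with ht
  have htb : K.bar t = t := by rw [ht, map_add, K.bar_bar, add_comm]
  have hn : a * K.bar a + b * K.bar b = 1 := tnorm K X
  have ha' : a * K.bar a = -1 := ha
  have ht0 : t ≠ 0 := by
    intro h
    have e : K.bar a = -a := eq_neg_of_add_eq_zero_right (ht ▸ h)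
    rw [e] at ha'
    rcases mul_self_eq_one_iff.1 (show a * a = 1 by linear_combination -ha') with e' | e'
    · rw [e', map_one] at e; exact one_ne_zero (α := F) (by linear_combination hz - e)
    · rw [e', map_neg, map_one] at e; exact one_ne_zero (α := F) (by linear_combination hz + e)
  have htt : t * t = 1 := by
    rcases fixed_cases K (Or.inr h3) htb with e | e | ⟨-, e⟩
    · exact absurd e ht0
    · rw [e, mul_one]
    · rw [e]; ring
  refine ⟨-t, ?_, ?_, ?_⟩
  · rcases mul_self_eq_one_iff.1 htt with e | e <;> rw [e]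
    · exact .inr rfl
    · exact .inl (neg_neg 1)
  · rw [(tmul K _ _).1, (tmul K X X).1, (tmul K X X).2]
    simp only [map_add, map_mul, K.bar_bar]
    linear_combination (a) * htt - (2 * a + K.bar a) * hn + (-a) * (a * a - a * a)
  · rw [(tmul K _ _).2, (tmul K X X).1, (tmul K X X).2]
    simp only [map_sub, map_mul, K.bar_bar]
    linear_combination b * htt - b * hn

include K hq hl hl' hd0 hd1 in
/-- A character of order dividing `q + 1` is trivial. -/
theorem char_trivial (χ : SU 2 F q →* Fˣ) (hχ : ∀ A, χ A ^ (q + 1) = 1) (A : SU 2 F q) : χ A = 1 := by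
  obtain ⟨W, hW0, hW1⟩ := exists_two K (α := (0 : F)) (β := 1) (by rw [nm_zero, nm_one, zero_add])
  have hd2 : χ d ^ 2 = 1 := by
    have h := congrArg χ (mono_inverts K hd0 hd1 hW0)
    rw [map_mul, map_mul, map_inv, map_inv, mul_comm (χ W), mul_inv_cancel_right] at h
    rw [sq]; nth_rewrite 2 [h]; exact mul_inv_cancel _
  -- powers of the diagonal element
  have hdiag : χ d = 1 → ∀ Y : SU 2 F q, mat Y 1 0 = 0 → χ Y = 1 := by
    intro h1 Y hY
    have hn : nm K (mat Y 0 0) = 1 := by
      have := (mat_two K Y).2; rwa [hY, nm_zero, add_zero] at this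
    have hY' : Y = 1 ∨ Y = d ∨ Y = d⁻¹ ∨ (q = 3 ∧ Y = d * d) := by
      by_cases hb : K.bar (mat Y 0 0) = mat Y 0 0
      · rcases fixed_norm_one K hq hn hb with e | e
        · exact .inl (two_ext K (e.trans (tone K).1.symm) (hY.trans (tone K).2.symm))
        · rcases hq with h2 | h3
          · refine .inl (two_ext K ?_ (hY.trans (tone K).2.symm))
            rw [e, (tone K).1]; linear_combination -(two_eq_zero K h2)
          · refine .inr (.inr (.inr ⟨h3, two_ext K ?_ ?_⟩))
            · rw [(tmul K d d).1, hd0, hd1, e, ((bar_root K (Or.inr h3) hl hl').2 h3).1]; simp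
            · rw [(tmul K d d).2, hd0, hd1, hY]; simp
      · rcases norm_one_cases K hq hn hb hl hl' with e | e
        · exact .inr (.inl (two_ext K (e.trans hd0.symm) (hY.trans hd1.symm)))
        · refine .inr (.inr (.inl (two_ext K (e.trans ?_) (hY.trans ?_))))
          · rw [(tinv K d).1, hd0]
          · rw [(tinv K d).2, hd1, neg_zero]
    rcases hY' with rfl | rfl | rfl | ⟨-, rfl⟩ <;> simp [h1]
  rcases hq with h2 | h3
  · have hd : χ d = 1 := by
      have h3 := hχ d
      rw [show q + 1 = 2 + 1 by omega, pow_succ, hd2, one_mul] at h3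
      exact h3
    rcases two_cases K (Or.inl h2) A with h | h | ⟨h, -⟩
    · exact hdiag hd A h
    · have hAA : χ A ^ 2 = 1 := by
        rw [sq, ← map_mul]
        refine hdiag hd _ ?_
        rw [(tmul K A A).2, h]; simp
      have h3 := hχ A
      rw [show q + 1 = 2 + 1 by omega, pow_succ, hAA, one_mul] at h3
      exact h3
    · omega
  · obtain ⟨α, hα⟩ := exists_nm K (s := (-1 : F)) (by rw [map_neg, map_one])
    obtain ⟨X, hX0, hX1⟩ := exists_two K (α := α) (β := α) (by
      rw [hα]; linear_combination -(three_eq_zero K h3))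
    have hXa : nm K (mat X 0 0) = -1 := by rw [hX0, hα]
    have hXb : nm K (mat X 1 0) = -1 := by rw [hX1, hα]
    have hXia : nm K (mat X⁻¹ 0 0) = -1 := by rw [(tinv K X).1, nm_bar, hXa]
    have hXib : nm K (mat X⁻¹ 1 0) = -1 := by rw [(tinv K X).2, nm_neg, hXb]
    -- both conjugates lie off the torus and share the value
    set e1 := X * d * X⁻¹ with he1
    set e2 := X⁻¹ * d * X with he2
    have k1 : mat e1 0 0 = 0 := conj_d_mono K (Or.inr h3) hl hl' hd0 hd1 h3 hXa hXb
    have k2 : mat e2 0 0 = 0 := by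
      have := conj_d_mono K (Or.inr h3) hl hl' hd0 hd1 h3 hXia hXib
      rwa [inv_inv] at this
    have c1 : χ e1 = χ d := by rw [he1, map_mul, map_mul, map_inv, mul_comm (χ X), mul_inv_cancel_right]
    have c2 : χ e2 = χ d := by rw [he2, map_mul, map_mul, map_inv, mul_comm (χ X)⁻¹, inv_mul_cancel_right]
    set p := e1 * e2 with hp
    have hp1 : mat p 1 0 = 0 := by rw [hp, (tmul K _ _).2, k1, k2]; simp
    have cp : χ p = 1 := by rw [hp, map_mul, c1, c2, ← sq, hd2]
    have hd : χ d = 1 := by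
      have hn : nm K (mat p 0 0) = 1 := by
        have := (mat_two K p).2; rwa [hp1, nm_zero, add_zero] at this
      by_cases hb : K.bar (mat p 0 0) = mat p 0 0
      · exfalso
        have hsc : ∀ Y : SU 2 F q, p * Y = Y * p := fun Y => two_ext K
          (by rw [(tmul K p Y).1, (tmul K Y p).1, hp1]; simp [mul_comm])
          (by rw [(tmul K p Y).2, (tmul K Y p).2, hp1, hb]; simp [mul_comm])
        -- then the square of `X` normalises the torus
        have hXX : (X * X) * d * (X * X)⁻¹ = p⁻¹ * d⁻¹ ∨ (X * X) * d * (X * X)⁻¹ = d⁻¹ * p := by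
          refine .inr ?_
          have hinv : e2 * d * e2⁻¹ = d⁻¹ := mono_inverts K hd0 hd1 k2
          have : e1 = p * e2⁻¹ := by rw [hp, mul_inv_cancel_right]
          calc (X * X) * d * (X * X)⁻¹ = X * e1 * X⁻¹ := by rw [he1]; group
            _ = X * (p * e2⁻¹) * X⁻¹ := by rw [this]
            _ = p * (X * e2⁻¹ * X⁻¹) := by rw [← mul_assoc X p, ← hsc X]; group
            _ = p * d⁻¹ := by rw [he2]; group
            _ = _ := hsc _
        have hq' : mat ((X * X) * d * (X * X)⁻¹) 1 0 = 0 := by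
          rcases hXX with h | h <;>
          · rw [h, (tmul K _ _).2]
            simp [(tinv K p).1, (tinv K p).2, (tinv K d).1, (tinv K d).2, hd1, hp1]
        obtain ⟨c, hc, hc0, hc1⟩ := exists_cube K (Or.inr h3) h3 hXa
        have hscal : ∀ Y : SU 2 F q, (X * X * X) * Y = Y * (X * X * X) := fun Y => by
          have hcb : K.bar c = c := by rcases hc with e | e <;> simp [e]
          exact two_ext K (by rw [(tmul K _ Y).1, (tmul K Y _).1, hc0, hc1]; simp [mul_comm])
            (by rw [(tmul K _ Y).2, (tmul K Y _).2, hc0, hc1, hcb]; simp [mul_comm])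
        have e : (X * X) * d * (X * X)⁻¹ = e2 := by
          calc (X * X) * d * (X * X)⁻¹ = X⁻¹ * ((X * X * X) * d) * (X * X * X)⁻¹ * X := by group
            _ = _ := by rw [hscal d, he2]; group
        rw [e] at hq'
        have := (mat_two K e2).2
        rw [k2, hq', nm_zero, add_zero] at this
        exact zero_ne_one this
      · rcases norm_one_cases K (Or.inr h3) hn hb hl hl' with e | e
        · rwa [show p = d from two_ext K (e.trans hd0.symm) (hp1.trans hd1.symm)] at cp
        · rw [show p = d⁻¹ from two_ext K (e.trans (by rw [(tinv K d).1, hd0]))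
            (hp1.trans (by rw [(tinv K d).2, hd1, neg_zero])), map_inv, inv_eq_one] at cp
          exact cp
    have hmono : ∀ Y : SU 2 F q, mat Y 0 0 = 0 → χ Y = 1 := fun Y hY => by
      have h := hdiag hd (Y * e1⁻¹) (by rw [(tmul K _ _).2, (tinv K e1).1, k1, hY]; simp)
      rwa [map_mul, map_inv, c1, hd, inv_one, mul_one] at h
    rcases two_cases K (Or.inr h3) A with h | h | ⟨-, ha, -⟩
    · exact hdiag hd A h
    · exact hmono A h
    · obtain ⟨c, -, -, hc1⟩ := exists_cube K (Or.inr h3) h3 ha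
      have h3' := hdiag hd _ hc1
      rw [map_mul, map_mul, ← sq, ← pow_succ] at h3'
      have h4 := hχ A
      rw [show q + 1 = 3 + 1 by omega, pow_succ, h3', one_mul] at h4
      exact h4

include K hq hl hl' hd0 hd1 in
/-- An endomorphism fixing the torus is a twist. -/
theorem fix_torus_form (ψ : SU 2 F q →* SU 2 F q) (hψ : Function.Injective ψ) (hψd : ψ d = d) :
    ∃ μ : F, nm K μ = 1 ∧
      ∀ X, mat (ψ X) 0 0 = mat X 0 0 ∧ mat (ψ X) 1 0 = μ * mat X 1 0 := by
  obtain ⟨W, hW0, hW1⟩ := exists_two K (α := (0 : F)) (β := 1) (by rw [nm_zero, nm_one, zero_add])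
  have hV0 : mat (ψ W) 0 0 = 0 := inverts_d K hl' hd0 hd1 (by
    have h := congrArg ψ (mono_inverts K hd0 hd1 hW0)
    rwa [map_mul, map_mul, map_inv, map_inv, hψd] at h)
  set μ := mat (ψ W) 1 0 with hμdef
  have hμ : nm K μ = 1 := by
    have := (mat_two K (ψ W)).2; rwa [hV0, nm_zero, zero_add] at this
  have hdiag : ∀ Y : SU 2 F q, mat Y 1 0 = 0 → ψ Y = Y := by
    intro Y hY
    have hn : nm K (mat Y 0 0) = 1 := by
      have := (mat_two K Y).2; rwa [hY, nm_zero, add_zero] at this
    by_cases hb : K.bar (mat Y 0 0) = mat Y 0 0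
    · rcases fixed_norm_one K hq hn hb with e | e
      · rw [show Y = 1 from two_ext K (e.trans (tone K).1.symm) (hY.trans (tone K).2.symm), map_one]
      · rcases hq with h2 | h3
        · rw [show Y = 1 from two_ext K
            (by rw [e, (tone K).1]; linear_combination -(two_eq_zero K h2))
            (hY.trans (tone K).2.symm), map_one]
        · rw [show Y = d * d from two_ext K
            (by rw [(tmul K d d).1, hd0, hd1, e, ((bar_root K (Or.inr h3) hl hl').2 h3).1]; simp)
            (by rw [(tmul K d d).2, hd0, hd1, hY]; simp), map_mul, hψd]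
    · rcases norm_one_cases K hq hn hb hl hl' with e | e
      · rw [show Y = d from two_ext K (e.trans hd0.symm) (hY.trans hd1.symm), hψd]
      · rw [show Y = d⁻¹ from two_ext K (e.trans (by rw [(tinv K d).1, hd0]))
          (hY.trans (by rw [(tinv K d).2, hd1, neg_zero])), map_inv, hψd]
  -- compare with the twist
  let D : Fin 2 → Fˣ := ![1, Units.mk0 μ fun e => by rw [e, nm_zero] at hμ; exact zero_ne_one hμ]
  have hD : ∀ i, nm K (D i : F) = 1 := fun i => by fin_cases i <;> simp [D, nm_one, hμ]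
  let φ := tw K D hD (RingEquiv.refl F)
  have hφ : ∀ X, mat (φ X) 0 0 = mat X 0 0 ∧ mat (φ X) 1 0 = μ * mat X 1 0 := fun X => by
    constructor <;> rw [show mat (φ X) = twMat D (RingEquiv.refl F) (mat X) from rfl] <;>
      simp [twMat, D]
  refine ⟨μ, hμ, fun X => ?_⟩
  suffices h : ψ X = φ X by rw [h]; exact hφ X
  have hφd : ∀ Y : SU 2 F q, mat Y 1 0 = 0 → φ Y = Y := fun Y hY =>
    two_ext K (hφ Y).1 (by rw [(hφ Y).2, hY, mul_zero])
  have hmono : ∀ Y : SU 2 F q, mat Y 0 0 = 0 → ψ Y = φ Y := fun Y hY => by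
    have hZ : mat (Y * W⁻¹) 1 0 = 0 := by
      rw [(tmul K _ _).2, (tinv K W).1, hW0, hY]; simp
    have hW : ψ W = φ W := two_ext K (by rw [hV0, (hφ W).1, hW0])
      (by rw [(hφ W).2, hW1, mul_one])
    rw [← inv_mul_cancel_right Y W, map_mul ψ (Y * W⁻¹) W, map_mul φ (Y * W⁻¹) W, hdiag _ hZ,
      hφd _ hZ, hW]
  rcases two_cases K hq X with h | h | ⟨h3, ha, hb⟩
  · rw [hdiag X h, hφd X h]
  · exact hmono X h
  have hφb := (tw_bijective K D hD (RingEquiv.refl F)).1
  have ha' : nm K (mat X⁻¹ 0 0) = -1 := by rw [(tinv K X).1, nm_bar, ha]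
  have hb' : nm K (mat X⁻¹ 1 0) = -1 := by rw [(tinv K X).2, nm_neg, hb]
  set Y := (φ X)⁻¹ * ψ X with hYdef
  set Y' := ψ X * (φ X)⁻¹ with hY'def
  have hY : mat Y 1 0 = 0 := by
    refine comm_d K hl' hd0 hd1 ?_
    have e := hmono _ (conj_d_mono K hq hl hl' hd0 hd1 h3 ha hb)
    rw [map_mul, map_mul, map_mul, map_mul, map_inv, map_inv, hψd, hφd d hd1] at e
    have e' := congrArg (fun z => (φ X)⁻¹ * z * ψ X) e
    simp only [mul_assoc, inv_mul_cancel, mul_one] at e'
    rw [hYdef, mul_assoc, e']; group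
  have hY' : mat Y' 1 0 = 0 := by
    refine comm_d K hl' hd0 hd1 ?_
    have e := hmono _ (conj_d_mono K hq hl hl' hd0 hd1 h3 ha' hb')
    rw [inv_inv, map_mul, map_mul, map_mul, map_mul, map_inv, map_inv, hψd, hφd d hd1] at e
    have e' := congrArg (fun z => ψ X * z * (φ X)⁻¹) e
    simp only [← mul_assoc, mul_inv_cancel, one_mul] at e'
    rw [mul_assoc _ (φ X) (φ X)⁻¹, mul_inv_cancel, mul_one] at e'
    rw [hY'def, ← e', mul_assoc]
  have hXY : φ X * Y = Y' * φ X := by rw [hYdef, hY'def]; group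
  set y := mat Y 0 0 with hy
  have a0 : mat X 0 0 ≠ 0 := fun e => by
    rw [e, nm_zero] at ha; exact neg_ne_zero.2 one_ne_zero ha.symm
  have b0 : mat X 1 0 ≠ 0 := fun e => by
    rw [e, nm_zero] at hb; exact neg_ne_zero.2 one_ne_zero hb.symm
  have hμ0 : μ ≠ 0 := fun e => by rw [e, nm_zero] at hμ; exact zero_ne_one hμ
  have f0 := congrArg (fun z => mat z 0 0) hXY
  have f1 := congrArg (fun z => mat z 1 0) hXY
  simp only [(tmul K _ _).1, (tmul K _ _).2, (hφ X).1, (hφ X).2, hY, hY', mul_zero, sub_zero, add_zero,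
    zero_mul, map_zero, zero_add] at f0 f1
  have hyy : mat Y' 0 0 = y := mul_right_cancel₀ a0 (by rw [← f0, mul_comm])
  rw [hyy] at f1
  have hyb : K.bar y = y := mul_right_cancel₀ (mul_ne_zero hμ0 b0) (by rw [← f1, mul_comm])
  have hyn : nm K y = 1 := by have := (mat_two K Y).2; rwa [hY, nm_zero, add_zero] at this
  have hψX : ψ X = φ X * Y := by rw [hYdef, mul_inv_cancel_left]
  rcases fixed_norm_one K hq hyn hyb with e | e
  · rw [hψX, show Y = 1 from two_ext K (e.trans (tone K).1.symm) (hY.trans (tone K).2.symm), mul_one]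
  exfalso
  obtain ⟨c, hc, hc0, hc1⟩ := exists_cube K hq h3 ha
  have hYc : ∀ Z : SU 2 F q, Y * Z = Z * Y := fun Z => two_ext K
    (by rw [(tmul K Y Z).1, (tmul K Z Y).1, hY]; simp [mul_comm, y])
    (by rw [(tmul K Y Z).2, (tmul K Z Y).2, hY, ← hy, hyb]; simp [mul_comm])
  have h1 := hdiag _ hc1
  rw [map_mul, map_mul, hψX] at h1
  have h2 := hφd _ hc1
  rw [map_mul, map_mul] at h2
  have hY3 : φ X * Y * (φ X * Y) * (φ X * Y) = φ X * φ X * φ X * (Y * Y * Y) := by
    calc φ X * Y * (φ X * Y) * (φ X * Y) = φ X * (Y * φ X) * (Y * φ X) * Y := by group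
      _ = φ X * (φ X * Y) * (φ X * Y) * Y := by rw [hYc]
      _ = φ X * φ X * (Y * φ X) * (Y * Y) := by group
      _ = _ := by rw [hYc]; group
  rw [hY3, h2] at h1
  have e3 := congrArg (fun z => mat z 0 0) (mul_eq_left.1 h1)
  simp only [(tmul K _ _).1, (tone K).1, hY, map_zero, zero_mul, sub_zero, ← hy, e] at e3
  exact one_ne_zero (α := F) (by linear_combination three_eq_zero K h3 + e3)

end Diag

end CfsgLib.PhanSmall
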