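import Cfsg.Agent.Lib.PhanSmall.Moves
import Cfsg.Agent.Lib.PhanSmall.Small

/-!
# Generation of the three-dimensional groups over the fields with four and nine elements
-/

set_option autoImplicit false
set_option linter.unusedSectionVars false

namespace CfsgLib.PhanSmall

open Matrix Cfsg
open CfsgLib.Classical.Herm
open CfsgLib.Classical.Phan hiding two_mul Fix
open CfsgLib.ClassicalAut (Unitary.Conj Unitary.space Unitary.herm_apply)

variable {F : Type*} [Field F] [Finite F] {q : ℕ} (K : Unitary.Conj F q)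

include K in
/-- Twists of the Fourier element and the blocks generate. -/
theorem three_top (hq : q = 2 ∨ q = 3) (Hs : Subgroup (SU 3 F q))
    (hA : (Blk 0 2 : Subgroup (SU 3 F q)) ≤ Hs) (hB : (Blk 1 3 : Subgroup (SU 3 F q)) ≤ Hs)
    (hM : q = 2 → ∀ (ω : F), ω * ω + ω + 1 = 0 → ∀ M : SU 3 F q, mat M = fou ω →
      ∀ (D : Fin 3 → Fˣ) (hD : ∀ i, nm K (D i : F) = 1), tw K D hD (RingEquiv.refl F) M ∈ Hs) :
    Hs = ⊤ := by
  let P : (Fin 3 → F) → Prop := fun v => ∃ g ∈ Hs, app g (bv 0 : Fin 3 → F) = v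
  have back : ∀ h ∈ Hs, ∀ v, P (app h v) → P v := fun h hh v ⟨g, hg, e⟩ =>
    ⟨h⁻¹ * g, mul_mem (inv_mem hh) hg, by rw [app_mul, e, app_inv]⟩
  have hsum : ∀ x : Fin 3 → F, x = x 0 • bv 0 + x 1 • bv 1 + x 2 • bv 2 := fun x => by
    funext i; fin_cases i <;> simp [bv_apply]
  have hcd : ∀ (x : Fin 3 → F) (i : Fin 3), x i = cd x i := fun x i => (cd_coe x i).symm
  have h01 : nm K (0 : F) + nm K (1 : F) = 1 := by rw [nm_zero, nm_one, zero_add]
  obtain ⟨wA, hwA⟩ := exists_el K (n := 3) (j := 0) (by norm_num) h01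
  obtain ⟨wB, hwB⟩ := exists_el K (n := 3) (j := 1) (by norm_num) h01
  have hwA' : wA ∈ Hs := hA hwA.1
  have hwB' : wB ∈ Hs := hB hwB.1
  -- vectors with an empty coordinate
  have base2 : ∀ v : Fin 3 → F, nm K (v 0) + nm K (v 1) + nm K (v 2) = 1 → v 2 = 0 → P v := by
    intro v hv h2
    obtain ⟨g, hg⟩ := exists_el K (n := 3) (j := 0) (by norm_num) (α := v 0) (β := v 1)
      (by rw [h2, nm_zero, add_zero] at hv; exact hv)
    refine ⟨g, hA hg.1, ?_⟩
    rw [hg.2.1, eq_comm]
    conv_lhs => rw [hsum v]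
    rw [h2, zero_smul, add_zero]
  have base1 : ∀ v : Fin 3 → F, nm K (v 0) + nm K (v 1) + nm K (v 2) = 1 → v 1 = 0 → P v := by
    intro v hv h1
    refine back wB hwB' v (base2 _ ?_ ?_)
    · simp only [hcd (app wB v)]
      show nm K (cd (app wB v) 0) + nm K (cd (app wB v) 1) + nm K (cd (app wB v) (1 + 1)) = 1
      rw [hwB.cd_ne K v (by omega) (by omega), (hwB.2.2 v).1, (hwB.2.2 v).2]
      rw [show cd v 0 = v 0 from (hcd v 0).symm, show cd v 1 = v 1 from (hcd v 1).symm,
        show cd v (1 + 1) = v 2 from (hcd v 2).symm, h1]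
      rw [h1] at hv
      simpa [nm_zero, nm_neg] using hv
    · rw [hcd (app wB v)]
      show cd (app wB v) (1 + 1) = 0
      rw [(hwB.2.2 v).2, show cd v 1 = v 1 from (hcd v 1).symm, h1]
      simp
  have base0 : ∀ v : Fin 3 → F, nm K (v 0) + nm K (v 1) + nm K (v 2) = 1 → v 0 = 0 → P v := by
    intro v hv h0
    refine back wA hwA' v (base1 _ ?_ ?_)
    · simp only [hcd (app wA v)]
      show nm K (cd (app wA v) 0) + nm K (cd (app wA v) (0 + 1)) + nm K (cd (app wA v) 2) = 1
      rw [(hwA.2.2 v).1, (hwA.2.2 v).2, hwA.cd_ne K v (show 2 ≠ 0 by omega) (by omega)]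
      rw [show cd v 0 = v 0 from (hcd v 0).symm, show cd v (0 + 1) = v 1 from (hcd v 1).symm,
        show cd v 2 = v 2 from (hcd v 2).symm, h0]
      rw [h0] at hv
      simpa [nm_zero, nm_neg] using hv
    · rw [hcd (app wA v)]
      show cd (app wA v) (0 + 1) = 0
      rw [(hwA.2.2 v).2, show cd v 0 = v 0 from (hcd v 0).symm, h0]
      simp
  have hnorm : ∀ (g : SU 3 F q) (v : Fin 3 → F), nm K (v 0) + nm K (v 1) + nm K (v 2) = 1 →
      nm K (app g v 0) + nm K (app g v 1) + nm K (app g v 2) = 1 := fun g v hv => by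
    rw [← herm_three K] at hv ⊢; rw [h_app, hv]
  have zero : ∀ v : Fin 3 → F, nm K (v 0) + nm K (v 1) + nm K (v 2) = 1 →
      (v 0 = 0 ∨ v 1 = 0 ∨ v 2 = 0) → P v := fun v hv h => by
    rcases h with h | h | h
    exacts [base0 v hv h, base1 v hv h, base2 v hv h]
  have kill01 : ∀ v : Fin 3 → F, nm K (v 0) + nm K (v 1) + nm K (v 2) = 1 →
      nm K (v 0) + nm K (v 1) ≠ 0 → P v := by
    intro v hv h
    obtain ⟨α, β, g1, g2⟩ := exists_el_zero K h
    obtain ⟨g, hg⟩ := exists_el K (n := 3) (j := 0) (by norm_num) g1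
    refine back g (hA hg.1) v (zero _ (hnorm g v hv) (.inl ?_))
    rw [hcd (app g v)]
    show cd (app g v) 0 = 0
    rw [(hg.2.2 v).1, show cd v 0 = v 0 from (hcd v 0).symm,
      show cd v (0 + 1) = v 1 from (hcd v 1).symm, g2]
  have all : ∀ v : Fin 3 → F, hermForm 3 F q v v = 1 → P v := by
    intro v hv
    rw [herm_three K] at hv
    by_cases hz : v 0 = 0 ∨ v 1 = 0 ∨ v 2 = 0
    · exact zero v hv hz
    push Not at hz
    obtain ⟨h0, h1, h2⟩ := hz
    rcases hq with hq | hq
    · obtain ⟨ω, hω, -⟩ := exists_omega K hq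
      obtain ⟨M, hM'⟩ := exists_fou K hq hω
      set D : Fin 3 → Fˣ := ![1, Units.mk0 (v 1 / v 0) (div_ne_zero h1 h0),
        Units.mk0 (v 2 / v 0) (div_ne_zero h2 h0)]
      have hD : ∀ i, nm K (D i : F) = 1 := fun i => nm_two K hq (D i).ne_zero
      obtain ⟨g, hg⟩ := exists_el K (n := 3) (j := 0) (by norm_num) (α := v 0) (β := (0 : F))
        (by rw [nm_zero, add_zero, nm_two K hq h0])
      refine ⟨tw K D hD (RingEquiv.refl F) M * g, mul_mem (hM hq ω hω M hM' D hD) (hA hg.1), ?_⟩
      rw [app_mul, hg.2.1, zero_smul, add_zero, app_smul]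
      funext i
      have e := mat_apply (tw K D hD (RingEquiv.refl F) M) i 0
      rw [Fin.val_zero] at e
      rw [Pi.smul_apply, ← cd_coe (app _ _) i, ← e, mat_tw, twMat, Matrix.of_apply, hM']
      fin_cases i <;> simp [fou, D]
      · rw [mul_div_cancel₀ _ h0]
      · rw [mul_div_cancel₀ _ h0]
    · by_cases hxy : nm K (v 0) + nm K (v 1) = 0
      swap
      · exact kill01 v hv hxy
      -- now exactly the middle entry has norm minus one or the last one
      by_cases hyz : nm K (v 1) + nm K (v 2) = 0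
      · -- exchange the last two entries
        refine back wB hwB' v (kill01 _ (hnorm wB v hv) ?_)
        simp only [hcd (app wB v)]
        show nm K (cd (app wB v) 0) + nm K (cd (app wB v) 1) ≠ 0
        rw [hwB.cd_ne K v (by omega) (by omega), (hwB.2.2 v).1,
          show cd v 0 = v 0 from (hcd v 0).symm, show cd v (1 + 1) = v 2 from (hcd v 2).symm, zero_mul,
          map_one, one_mul, zero_sub, nm_neg]
        intro e
        have hz := three_eq_zero K hq
        exact one_ne_zero (α := F) (by linear_combination -hv - hxy - hyz - e + (nm K (v 0) +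
          nm K (v 1) + nm K (v 2)) * hz)
      · obtain ⟨c, hc⟩ := exists_nm K (s := nm K (v 1) + nm K (v 2)) (by rw [map_add, bar_nm, bar_nm])
        obtain ⟨α, β, g1, -, g3⟩ := exists_el_move K (b := v 1) (c := v 2) (b' := c) (c' := (0 : F))
          hyz (by rw [hc, nm_zero, add_zero])
        obtain ⟨g, hg⟩ := exists_el K (n := 3) (j := 1) (by norm_num) g1
        refine back g (hB hg.1) v (zero _ (hnorm g v hv) (.inr (.inr ?_)))
        rw [hcd (app g v)]
        show cd (app g v) (1 + 1) = 0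
        rw [(hg.2.2 v).2, show cd v 1 = v 1 from (hcd v 1).symm,
          show cd v (1 + 1) = v 2 from (hcd v 2).symm, g3]
  refine eq_top_iff.2 fun g _ => ?_
  obtain ⟨h, hh, he⟩ := all (app g (bv 0 : Fin 3 → F)) (by
    rw [h_app, h_bv K, cd_bv, if_pos ⟨rfl, by norm_num⟩])
  have hrest : h⁻¹ * g ∈ (Blk 1 3 : Subgroup (SU 3 F q)) := fun i hi => by
    rcases hi with hi | hi
    · rw [show i = 0 by omega, app_mul, ← he, app_inv]
    · rw [bv, dif_neg (by omega), app_zero']
  rw [← mul_inv_cancel_left h g]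
  exact mul_mem hh (hB hrest)

/-! ### Extension from the blocks, four elements -/

section Two

variable (h2 : q = 2) {ω : F} (hω : ω * ω + ω + 1 = 0)

include K h2 hω in
/-- The Fourier element exchanges the two cyclic subgroups. -/
theorem fou_relations {M : SU 3 F q} (hM : mat M = fou ω) {d W : SU 2 F q} (hd0 : mat d 0 0 = ω)
    (hd1 : mat d 1 0 = 0) (hW0 : mat W 0 0 = 0) (hW1 : mat W 1 0 = 1) :
    M * bB K d = (bB K W * bA K W) * M ∧ M * (bB K W * bA K W) = (bB K d)⁻¹ * M ∧
      (M * M) * (M * M) = 1 := by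
  have two := two_eq_zero K h2
  have hωb : K.bar ω = ω * ω := bar_two K h2 ω
  have Bd := emb_two K h12 d
  have BW := emb_two K h12 W
  have AW := emb_two K h01 W
  rw [hd0, hd1] at Bd
  rw [hW0, hW1] at BW AW
  have mB : mat (bB K d) = Matrix.diagonal ![1, ω, ω * ω] := by
    refine Matrix.ext fun i j => ?_
    rw [mat_apply]
    fin_cases i <;> fin_cases j <;> simp only [Fin.zero_eta, Fin.mk_one, Fin.reduceFinMk, Fin.val_zero,
      Fin.val_one, Fin.val_two] <;>
      first
        | (rw [Bd.cd_ne K _ (by omega) (by omega), cd_bv]; simp)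
        | (rw [(Bd.2.2 _).1]; simp [cd_bv])
        | (show cd _ (1 + 1) = _; rw [(Bd.2.2 _).2]; simp [cd_bv, hωb])
  have hneg : ∀ x : F, -x = x := fun x => by linear_combination -x * two
  have A0 : ∀ v : Fin 3 → F, cd (app (bA K W) v) 0 = cd v 1 := fun v => by
    rw [(AW.2.2 v).1]; simp [hneg]
  have A1 : ∀ v : Fin 3 → F, cd (app (bA K W) v) 1 = cd v 0 := fun v => by
    simpa using (AW.2.2 v).2
  have A2 : ∀ v : Fin 3 → F, cd (app (bA K W) v) 2 = cd v 2 := fun v =>
    AW.cd_ne K v (by omega) (by omega)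
  have B0 : ∀ v : Fin 3 → F, cd (app (bB K W) v) 0 = cd v 0 := fun v =>
    BW.cd_ne K v (by omega) (by omega)
  have B1 : ∀ v : Fin 3 → F, cd (app (bB K W) v) 1 = cd v 2 := fun v => by
    rw [(BW.2.2 v).1]; simp [hneg]
  have B2 : ∀ v : Fin 3 → F, cd (app (bB K W) v) 2 = cd v 1 := fun v => by
    simpa using (BW.2.2 v).2
  have mW : mat (bB K W * bA K W) = !![0, 1, 0; 0, 0, 1; 1, 0, 0] := by
    refine Matrix.ext fun i j => ?_
    rw [mat_apply, app_mul]
    fin_cases i <;> fin_cases j <;> simp [A0, A1, A2, B0, B1, B2, cd_bv]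
  refine ⟨mat_ext ?_, ?_, mat_ext ?_⟩
  · rw [mat_mul, mat_mul, hM, mB, mW]
    ext i j
    fin_cases i <;> fin_cases j <;> simp [fou, Matrix.mul_apply, Fin.sum_univ_three] <;>
      first | ring1 | linear_combination (ω - 1) * hω | linear_combination (ω * ω - ω) * hω
  · rw [eq_inv_mul_iff_mul_eq]
    refine mat_ext ?_
    rw [mat_mul, mat_mul, hM, mB, mW]
    ext i j
    fin_cases i <;> fin_cases j <;> simp [fou, Matrix.mul_apply, Fin.sum_univ_three] <;>
      first | ring1 | linear_combination (ω - 1) * hω | linear_combination (ω * ω - ω) * hω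
  · rw [mat_mul, mat_mul, hM]
    have e : fou ω * fou ω = !![1, 0, 0; 0, 0, 1; 0, 1, 0] := by
      ext i j
      fin_cases i <;> fin_cases j <;> simp [fou, Matrix.mul_apply, Fin.sum_univ_three] <;>
        first
          | linear_combination two
          | linear_combination hω
          | linear_combination (ω * ω - ω + 1) * hω + ω * two
          | linear_combination (2 * (ω - 1)) * hω + (3 : F) * two
          | linear_combination (ω * ω - ω) * hω + (ω + 1) * two
          | grobner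
    rw [e]
    ext i j
    fin_cases i <;> fin_cases j <;> simp [Matrix.mul_apply, Fin.sum_univ_three,
      show mat (1 : SU 3 F q) = 1 from rfl]

include K h2 hω in
/-- A homomorphism into four dimensions which is standard on the blocks is standard. -/
theorem eq_emb_of_blocks {j : ℕ} (hj : j + 3 ≤ 4) (s : SU 3 F q →* SU 4 F q)
    (hA : ∀ X, s (bA K X) = emb K hj (bA K X)) (hB : ∀ X, s (bB K X) = emb K hj (bB K X)) :
    s = emb K hj := by
  have hne : ω ≠ 1 := fun e => one_ne_zero (α := F) (by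
    rw [e] at hω; linear_combination hω - two_eq_zero K h2)
  have hω0 : ω ≠ 0 := fun e => one_ne_zero (α := F) (by rw [e] at hω; linear_combination hω)
  obtain ⟨d, hd0, hd1⟩ := exists_two K (α := ω) (β := (0 : F))
    (by rw [nm_zero, add_zero, nm_two K h2 hω0])
  obtain ⟨W, hW0, hW1⟩ := exists_two K (α := (0 : F)) (β := 1) (by rw [nm_zero, nm_one, zero_add])
  let E : Subgroup (SU 3 F q) := s.eqLocus (emb K hj)
  suffices h : E = ⊤ by
    exact MonoidHom.ext fun x => show x ∈ E from h ▸ Subgroup.mem_top x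
  refine three_top K (.inl h2) E ?_ ?_ ?_
  · rw [← range_emb_two K h01]; rintro _ ⟨X, rfl⟩; exact hA X
  · rw [← range_emb_two K h12]; rintro _ ⟨X, rfl⟩; exact hB X
  intro _ ω' hω' M hM D hD
  have hne' : ω' ≠ 1 := fun e => one_ne_zero (α := F) (by
    rw [e] at hω'; linear_combination hω' - two_eq_zero K h2)
  have hω0' : ω' ≠ 0 := fun e => one_ne_zero (α := F) (by rw [e] at hω'; linear_combination hω')
  obtain ⟨d, hd0, hd1⟩ := exists_two K (α := ω') (β := (0 : F))
    (by rw [nm_zero, add_zero, nm_two K h2 hω0'])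
  obtain ⟨r1, r2, r4⟩ := fou_relations K h2 hω' hM hd0 hd1 hW0 hW1
  set T := tw K D hD (RingEquiv.refl F) with hT
  set Fm := T M
  obtain ⟨Wb, hWb, hWb0, hWb1⟩ := tw_emb K h12 D hD (RingEquiv.refl F) W
  obtain ⟨Wa, hWa, hWa0, hWa1⟩ := tw_emb K h01 D hD (RingEquiv.refl F) W
  obtain ⟨db, hdb, hdb0, hdb1⟩ := tw_emb K h12 D hD (RingEquiv.refl F) d
  rw [hd0] at hdb0
  rw [hd1, map_zero, mul_zero, zero_mul] at hdb1
  rw [hW0, map_zero] at hWb0 hWa0
  set z := bB K db
  set p := bB K Wb * bA K Wa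
  have f1 : Fm * z = p * Fm := by
    have := congrArg T r1
    simp only [map_mul] at this
    rwa [hWb, hWa, hdb] at this
  have f2 : Fm * p = z⁻¹ * Fm := by
    have := congrArg T r2
    simp only [map_mul, map_inv] at this
    rwa [hWb, hWa, hdb] at this
  have f4 : (Fm * Fm) * (Fm * Fm) = 1 := by
    have := congrArg T r4
    simpa only [map_mul, map_one] using this
  have ez : s z = emb K hj z := hB db
  have ep : s p = emb K hj p := by rw [map_mul, map_mul, hB Wb, hA Wa]
  set e := emb K hj (N := 4) (F := F) (q := q)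
  set c := (e Fm)⁻¹ * s Fm with hc
  have cz : c * e z = e z * c := by
    have k1 := congrArg s f1
    have k2 := congrArg e f1
    rw [map_mul, map_mul, ez, ep] at k1
    rw [map_mul, map_mul] at k2
    calc c * e z = (e Fm)⁻¹ * (s Fm * e z) := by rw [hc, mul_assoc]
      _ = (e Fm)⁻¹ * (e p * e Fm) * c := by rw [k1, hc]; group
      _ = (e Fm)⁻¹ * (e Fm * e z) * c := by rw [k2]
      _ = _ := by group
  have cp : c * e p = e p * c := by
    have k1 := congrArg s f2
    have k2 := congrArg e f2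
    rw [map_mul s Fm p, map_mul s z⁻¹ Fm, map_inv s z, ez, ep] at k1
    rw [map_mul e Fm p, map_mul e z⁻¹ Fm, map_inv e z] at k2
    calc c * e p = (e Fm)⁻¹ * (s Fm * e p) := by rw [hc, mul_assoc]
      _ = (e Fm)⁻¹ * ((e z)⁻¹ * e Fm) * c := by rw [k1, hc]; group
      _ = (e Fm)⁻¹ * (e Fm * e p) * c := by rw [k2]
      _ = _ := by group
  -- the fourth coordinate
  obtain ⟨o, ho, hoj⟩ : ∃ o, o < 4 ∧ (o < j ∨ j + 3 ≤ o) := by
    rcases Nat.eq_zero_or_pos j with h | h
    · exact ⟨3, by norm_num, .inr (by omega)⟩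
    · exact ⟨0, by norm_num, .inl h⟩
  have ez' : ∀ v : Fin 4 → F, cd (app (e z) v) j = cd v j ∧ cd (app (e z) v) (j + 1) = ω' * cd v (j + 1) ∧
      cd (app (e z) v) (j + 2) = K.bar ω' * cd v (j + 2) ∧ cd (app (e z) v) o = cd v o := by
    intro v
    have hel := emb_two K (show j + 1 + 2 ≤ 4 by omega) db
    rw [hdb0, hdb1, RingEquiv.refl_apply] at hel
    rw [show e z = emb K (show j + 1 + 2 ≤ 4 by omega) db from emb_emb K h12 hj (by omega) db]
    refine ⟨hel.cd_ne K v (by omega) (by omega), ?_, ?_, hel.cd_ne K v (by omega) (by omega)⟩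
    · rw [(hel.2.2 v).1]; simp
    · rw [show j + 2 = j + 1 + 1 by omega, (hel.2.2 v).2]; simp
  have ep' : ∀ v : Fin 4 → F, cd (app (e p) v) o = cd v o := fun v => cd_emb_out K hj p v hoj
  obtain ⟨κ, hκ0, hκ⟩ : ∃ κ : F, κ ≠ 0 ∧ app (e p) (bv j : Fin 4 → F) = κ • bv (j + 2) := by
    have a1 := emb_two K (show j + 1 + 2 ≤ 4 by omega) Wb
    have a2 := emb_two K (show j + 2 ≤ 4 by omega) Wa
    rw [hWb0] at a1
    rw [hWa0] at a2
    refine ⟨mat Wa 1 0 * mat Wb 1 0, mul_ne_zero (fun h => ?_) (fun h => ?_), ?_⟩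
    · have := (mat_two K Wa).2; rw [hWa0, h, nm_zero, add_zero] at this; exact zero_ne_one this
    · have := (mat_two K Wb).2; rw [hWb0, h, nm_zero, add_zero] at this; exact zero_ne_one this
    rw [map_mul, app_mul, show e (bA K Wa) = emb K (show j + 2 ≤ 4 by omega) Wa from
      emb_emb K h01 hj (by omega) Wa, show e (bB K Wb) = emb K (show j + 1 + 2 ≤ 4 by omega) Wb from
      emb_emb K h12 hj (by omega) Wb, a2.2.1, zero_smul, zero_add, app_smul, a1.2.1, zero_smul, zero_add,
      smul_smul, show j + 1 + 1 = j + 2 by omega]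
  have hb2 := bar_two K h2 ω'
  have hw2 : ω' * ω' ≠ 1 := fun h => hne' (by
    linear_combination (ω' - 1) * hω - (ω' - 1) * hω + (ω' - 1) * hω' - ω' * h)
  have hw3 : ω' * ω' ≠ ω' := fun h => hne' (mul_right_cancel₀ hω0' (by rw [h, one_mul]))
  have coords : ∀ i, i < 4 → i = j ∨ i = j + 1 ∨ i = j + 2 ∨ i = o := fun i hi => by omega
  set u := app c (bv j : Fin 4 → F) with hu
  have hzj : app (e z) (bv j : Fin 4 → F) = bv j := by
    refine ext_cd fun i hi => ?_
    obtain ⟨t0, t1, t2, t3⟩ := ez' (bv j)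
    rcases coords i hi with rfl | rfl | rfl | rfl
    · exact t0
    · rw [t1, cd_bv, if_neg (by omega), mul_zero]
    · rw [t2, cd_bv, if_neg (by omega), mul_zero]
    · exact t3
  have hzu : app (e z) u = u := by rw [hu, ← app_mul, ← cz, app_mul, hzj]
  have hu1 : cd u (j + 1) = 0 := by
    have := (ez' u).2.1
    rw [hzu] at this
    exact (mul_eq_zero.1 (show (ω' - 1) * cd u (j + 1) = 0 by linear_combination -this)).resolve_left
      (sub_ne_zero.2 hne')
  have hu2 : cd u (j + 2) = 0 := by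
    have := (ez' u).2.2.1
    rw [hzu, hb2] at this
    exact (mul_eq_zero.1 (show (ω' * ω' - 1) * cd u (j + 2) = 0 by linear_combination -this)).resolve_left
      (sub_ne_zero.2 hw2)
  have hz2 : app (e z) (bv (j + 2) : Fin 4 → F) = K.bar ω' • bv (j + 2) := by
    refine ext_cd fun i hi => ?_
    obtain ⟨t0, t1, t2, t3⟩ := ez' (bv (j + 2))
    rcases coords i hi with rfl | rfl | rfl | rfl
    · rw [t0, cd_smul, cd_bv, if_neg (by omega), mul_zero]
    · rw [t1, cd_smul, cd_bv, if_neg (by omega), mul_zero, mul_zero]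
    · rw [t2, cd_smul]
    · rw [t3, cd_smul, cd_bv, if_neg (by omega), mul_zero]
  set u' := app c (bv (j + 2) : Fin 4 → F) with hu'
  have hzu' : app (e z) u' = K.bar ω' • u' := by rw [hu', ← app_mul, ← cz, app_mul, hz2, app_smul]
  have hu'o : cd u' o = 0 := by
    have := (ez' u').2.2.2
    rw [hzu', cd_smul, hb2] at this
    exact (mul_eq_zero.1 (show (ω' * ω' - 1) * cd u' o = 0 by linear_combination this)).resolve_left
      (sub_ne_zero.2 hw2)
  have hpu : app (e p) u = κ • u' := by rw [hu, ← app_mul, ← cp, app_mul, hκ, app_smul]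
  have huo : cd u o = 0 := by rw [← ep' u, hpu, cd_smul, hu'o, mul_zero]
  set a := cd u j with ha
  have hua : u = a • bv j := ext_cd fun i hi => by
    rw [cd_smul, cd_bv]
    rcases coords i hi with rfl | rfl | rfl | rfl
    · rw [if_pos ⟨rfl, hi⟩, mul_one]
    · rw [if_neg (by omega), mul_zero, hu1]
    · rw [if_neg (by omega), mul_zero, hu2]
    · rw [if_neg (by omega), mul_zero, huo]
  have hu'a : u' = a • bv (j + 2) := by
    rw [hua, app_smul, hκ, smul_smul, mul_comm, ← smul_smul] at hpu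
    have := congrArg (fun x => κ⁻¹ • x) hpu
    simpa [smul_smul, ← mul_assoc, inv_mul_cancel₀ hκ0] using this.symm
  -- the middle coordinate through the image of the last
  obtain ⟨κ', hκ'0, hκ'⟩ : ∃ κ : F, κ ≠ 0 ∧ app (e p) (bv (j + 2) : Fin 4 → F) = κ • bv (j + 1) := by
    have a1 := emb_two K (show j + 1 + 2 ≤ 4 by omega) Wb
    have a2 := emb_two K (show j + 2 ≤ 4 by omega) Wa
    rw [hWb0] at a1
    refine ⟨-K.bar (mat Wb 1 0), neg_ne_zero.2 ((map_ne_zero K.bar).2 fun h => ?_), ?_⟩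
    · have := (mat_two K Wb).2; rw [hWb0, h, nm_zero, add_zero] at this; exact zero_ne_one this
    rw [map_mul, app_mul, show e (bA K Wa) = emb K (show j + 2 ≤ 4 by omega) Wa from
      emb_emb K h01 hj (by omega) Wa, show e (bB K Wb) = emb K (show j + 1 + 2 ≤ 4 by omega) Wb from
      emb_emb K h12 hj (by omega) Wb, a2.1 (j + 2) (by omega)]
    refine ext_cd fun i hi => ?_
    rw [cd_smul, cd_bv]
    by_cases e1 : i = j + 1
    · subst e1; rw [(a1.2.2 _).1, if_pos ⟨rfl, hi⟩]; simp [cd_bv, show j + 1 + 1 < 4 by omega]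
    rw [if_neg (fun c => e1 c.1), mul_zero]
    by_cases e2 : i = j + 1 + 1
    · subst e2; rw [(a1.2.2 _).2]; simp [cd_bv]
    rw [a1.cd_ne K _ e1 e2, cd_bv, if_neg (by omega)]
  have hu1'' : app c (bv (j + 1) : Fin 4 → F) = a • bv (j + 1) := by
    have h := congrArg (fun g => app g (bv (j + 2) : Fin 4 → F)) cp
    simp only [app_mul, hκ', app_smul, ← hu', hu'a] at h
    have := congrArg (fun x => κ'⁻¹ • x) h
    simpa [smul_smul, ← mul_assoc, inv_mul_cancel₀ hκ'0, mul_comm a κ'] using this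
  have ha0 : a ≠ 0 := fun h => by
    have h1 := h_app c (bv j : Fin 4 → F) (bv j)
    rw [← hu, hua, h, zero_smul, show hermForm 4 F q (0 : Fin 4 → F) 0 = 0 from (Unitary.space (n := 4) K).zero_left _, h_bv K, cd_bv, if_pos ⟨rfl, by omega⟩] at h1
    exact zero_ne_one h1
  -- the scalar of the three coordinates
  obtain ⟨A1, hA1, hA1'⟩ := exists_two K (α := a) (β := (0 : F))
    (by rw [nm_zero, add_zero, nm_two K h2 ha0])
  obtain ⟨A2, hA2, hA2'⟩ := exists_two K (α := a * a) (β := (0 : F))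
    (by rw [nm_zero, add_zero, nm_two K h2 (mul_ne_zero ha0 ha0)])
  set Z := bA K A1 * bB K A2
  have ha3 : a * (a * a) = 1 := by
    have := nm_two K h2 ha0
    rwa [nm, bar_two K h2] at this
  have eA := emb_two K (show j + 2 ≤ 4 by omega) A1
  have eB := emb_two K (show j + 1 + 2 ≤ 4 by omega) A2
  rw [hA1, hA1'] at eA
  rw [hA2, hA2'] at eB
  have eZ : e Z = emb K (show j + 2 ≤ 4 by omega) A1 * emb K (show j + 1 + 2 ≤ 4 by omega) A2 := by
    rw [map_mul, show e (bA K A1) = _ from emb_emb K h01 hj (show j + 0 + 2 ≤ 4 by omega) A1,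
      show e (bB K A2) = _ from emb_emb K h12 hj (show j + 1 + 2 ≤ 4 by omega) A2]
  have hZ : ∀ i, i < 4 → i ≠ o → app (e Z) (bv i : Fin 4 → F) = a • bv i := by
    intro i hi hio
    rw [eZ, app_mul]
    refine ext_cd fun l hl => ?_
    rw [cd_smul]
    rcases coords i hi with rfl | rfl | rfl | rfl
    · rw [eB.1 i (by omega), eA.2.1, zero_smul, add_zero, cd_smul]
    · rw [eB.2.1, zero_smul, add_zero, app_smul]
      by_cases e0 : l = j
      · subst e0; rw [cd_smul, (eA.2.2 _).1]; simp [cd_bv]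
      by_cases e1 : l = j + 1
      · subst e1; rw [cd_smul, (eA.2.2 _).2, cd_bv, cd_bv, if_neg (by omega), if_pos ⟨rfl, hl⟩]
        rw [bar_two K h2]; linear_combination a * ha3
      rw [cd_smul, eA.cd_ne K _ e0 e1, cd_bv, if_neg (fun c => e1 c.1), mul_zero, mul_zero]
    · have e2 : app (emb K (show j + 1 + 2 ≤ 4 by omega) A2) (bv (j + 2) : Fin 4 → F) =
          K.bar (a * a) • bv (j + 2) := by
        refine ext_cd fun l hl => ?_
        rw [cd_smul, cd_bv]
        by_cases e1 : l = j + 1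
        · subst e1; rw [(eB.2.2 _).1]; simp [cd_bv]
        by_cases e2 : l = j + 1 + 1
        · subst e2; rw [(eB.2.2 _).2]; simp [cd_bv]
        rw [eB.cd_ne K _ e1 e2, cd_bv, if_neg (by omega), mul_zero]
      rw [e2, app_smul, eA.1 (j + 2) (by omega), cd_smul, bar_two K h2]
      congr 1
      linear_combination a * ha3
    · exact absurd rfl hio
  have hcZ : c = e Z := by
    refine (inv_mul_eq_one.1 (eq_one_of_almost K (l := o) fun i hi hio => ?_)).symm
    rw [app_mul]
    have : app c (bv i : Fin 4 → F) = a • bv i := by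
      rcases coords i hi with rfl | rfl | rfl | rfl
      exacts [hua, hu1'', hu'a, absurd rfl hio]
    rw [this, ← hZ i hi hio, app_inv]
  have hsZ : s Z = e Z := by rw [map_mul, map_mul, hA, hB]
  have hsF : s Fm = e Fm * e Z := by rw [← hcZ, hc, mul_inv_cancel_left]
  have hZv : ∀ w : Fin 3 → F, app Z w = a • w := fun w => by
    have B2 := emb_two K h12 A2
    have B1 := emb_two K h01 A1
    rw [hA2, hA2'] at B2
    rw [hA1, hA1'] at B1
    have u0 : cd (app (bB K A2) w) 0 = cd w 0 := B2.cd_ne K w (by omega) (by omega)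
    have u1 : cd (app (bB K A2) w) 1 = a * a * cd w 1 := by
      rw [(B2.2.2 w).1]; simp
    have u2 : cd (app (bB K A2) w) 2 = K.bar (a * a) * cd w 2 := by
      simpa using (B2.2.2 w).2
    refine ext_cd fun l hl => ?_
    show cd (app (bA K A1 * bB K A2) w) l = _
    rw [app_mul, cd_smul]
    rcases (show l = 0 ∨ l = 1 ∨ l = 2 by omega) with rfl | rfl | rfl
    · rw [(B1.2.2 _).1, u0]; simp
    · have h : cd (app (bA K A1) (app (bB K A2) w)) 1 = K.bar a * cd (app (bB K A2) w) 1 := by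
        simpa using (B1.2.2 (app (bB K A2) w)).2
      rw [h, u1, bar_two K h2]
      linear_combination (a * cd w 1) * ha3
    · rw [B1.cd_ne K _ (show 2 ≠ 0 by omega) (by omega), u2, bar_two K h2]
      linear_combination (a * cd w 2) * ha3
  have hcomm : ∀ Y : SU 3 F q, Commute Z Y := fun Y => ext_app fun v => by
    rw [app_mul Z Y, app_mul Y Z, hZv, hZv, app_smul]
  have k : Z * Z * Z = 1 := ext_app fun v => by
    rw [app_mul (Z * Z) Z, app_mul Z Z, hZv, hZv, hZv, smul_smul, smul_smul, app_one,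
      show a * a * a = 1 by linear_combination ha3, one_smul]
  set g := Fm * Z with hg
  have hsg : s Fm = e g := by rw [hsF, ← map_mul]
  have hg2 : g * g = (Fm * Fm) * (Z * Z) := (hcomm Fm).mul_mul_mul_comm Fm Z
  have hg4 : (g * g) * (g * g) = Z := by
    rw [hg2, Commute.mul_mul_mul_comm (((hcomm Fm).mul_right (hcomm Fm)).mul_left
      ((hcomm Fm).mul_right (hcomm Fm))), f4, one_mul,
      show Z * Z * (Z * Z) = Z * Z * Z * Z by group, k, one_mul]
  have h1 := congrArg s f4
  simp only [map_mul, map_one, hsg] at h1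
  rw [← map_mul, ← map_mul, hg4] at h1
  show s Fm = e Fm
  rw [hsF, h1, mul_one]

end Two

end CfsgLib.PhanSmall
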