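import Cfsg.Agent.Lib.PhanSmall.Torus
import Cfsg.Agent.Lib.PhanSmall.Gen

/-!
# Two three-dimensional groups glued inside four dimensions are in standard position
-/

set_option autoImplicit false
set_option linter.unusedSectionVars false

namespace CfsgLib.PhanSmall

open Matrix Cfsg
open CfsgLib.Classical.Herm
open CfsgLib.Classical.Phan hiding two_mul
open CfsgLib.ClassicalAut (Unitary.Conj Unitary.space Unitary.herm_apply)

variable {F : Type*} [Field F] [Finite F] {q : ℕ} (K : Unitary.Conj F q)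

theorem h02 : 0 + 2 ≤ 4 := by norm_num
theorem h13 : 1 + 2 ≤ 4 := by norm_num
theorem h24 : 2 + 2 ≤ 4 := by norm_num
theorem h03 : 0 + 3 ≤ 4 := by norm_num
theorem h14 : 1 + 3 ≤ 4 := by norm_num

include K in
/-- The tori of the blocks of three coordinates. -/
theorem torus_rel {l : F} (hl : nm K l = 1) {d W : SU 2 F q} (hd0 : mat d 0 0 = l)
    (hd1 : mat d 1 0 = 0) (hW0 : mat W 0 0 = 0) (hW1 : mat W 1 0 = 1) :
    bA K d * bB K d = bB K d * bA K d ∧
      bB K W * bA K d = (bA K d * bB K d) * bB K W ∧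
      bA K W * bB K d = (bA K d * bB K d) * bA K W ∧
      bA K W * bA K d = (bA K d)⁻¹ * bA K W ∧
      bB K W * bB K d = (bB K d)⁻¹ * bB K W := by
  have inv : W * d = d⁻¹ * W := mul_inv_eq_iff_eq_mul.1 (mono_inverts K hd0 hd1 hW0)
  have hll : l * K.bar l = 1 := hl
  have Ad := emb_two K h01 d
  have Bd := emb_two K h12 d
  have AW := emb_two K h01 W
  have BW := emb_two K h12 W
  rw [hd0, hd1] at Ad Bd
  rw [hW0, hW1] at AW BW
  have a0 : ∀ v : Fin 3 → F, cd (app (bA K d) v) 0 = l * cd v 0 := fun v => by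
    rw [(Ad.2.2 v).1]; simp
  have a1 : ∀ v : Fin 3 → F, cd (app (bA K d) v) 1 = K.bar l * cd v 1 := fun v => by
    simpa using (Ad.2.2 v).2
  have a2 : ∀ v : Fin 3 → F, cd (app (bA K d) v) 2 = cd v 2 := fun v =>
    Ad.cd_ne K v (by omega) (by omega)
  have b0 : ∀ v : Fin 3 → F, cd (app (bB K d) v) 0 = cd v 0 := fun v =>
    Bd.cd_ne K v (by omega) (by omega)
  have b1 : ∀ v : Fin 3 → F, cd (app (bB K d) v) 1 = l * cd v 1 := fun v => by
    rw [(Bd.2.2 v).1]; simp
  have b2 : ∀ v : Fin 3 → F, cd (app (bB K d) v) 2 = K.bar l * cd v 2 := fun v => by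
    simpa using (Bd.2.2 v).2
  have A0 : ∀ v : Fin 3 → F, cd (app (bA K W) v) 0 = -cd v 1 := fun v => by
    rw [(AW.2.2 v).1]; simp
  have A1 : ∀ v : Fin 3 → F, cd (app (bA K W) v) 1 = cd v 0 := fun v => by
    simpa using (AW.2.2 v).2
  have A2 : ∀ v : Fin 3 → F, cd (app (bA K W) v) 2 = cd v 2 := fun v =>
    AW.cd_ne K v (by omega) (by omega)
  have B0 : ∀ v : Fin 3 → F, cd (app (bB K W) v) 0 = cd v 0 := fun v =>
    BW.cd_ne K v (by omega) (by omega)
  have B1 : ∀ v : Fin 3 → F, cd (app (bB K W) v) 1 = -cd v 2 := fun v => by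
    rw [(BW.2.2 v).1]; simp
  have B2 : ∀ v : Fin 3 → F, cd (app (bB K W) v) 2 = cd v 1 := fun v => by
    simpa using (BW.2.2 v).2
  refine ⟨?_, ?_, ?_, ?_, ?_⟩
  · refine ext_app fun v => ext_cd fun i hi => ?_
    rw [app_mul, app_mul]
    rcases (show i = 0 ∨ i = 1 ∨ i = 2 by omega) with rfl | rfl | rfl <;>
      simp [a0, a1, a2, b0, b1, b2] <;> ring
  · refine ext_app fun v => ext_cd fun i hi => ?_
    rw [app_mul, app_mul, app_mul]
    rcases (show i = 0 ∨ i = 1 ∨ i = 2 by omega) with rfl | rfl | rfl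
    · simp [a0, b0, B0]
    · simp only [a1, b1, B1, a2]; linear_combination (cd v 2) * hll
    · simp only [a2, b2, B2, a1]
  · refine ext_app fun v => ext_cd fun i hi => ?_
    rw [app_mul, app_mul, app_mul]
    rcases (show i = 0 ∨ i = 1 ∨ i = 2 by omega) with rfl | rfl | rfl
    · simp [a0, b0, A0, b1]
    · simp only [a1, b1, A1, b0]; linear_combination -(cd v 0) * hll
    · simp [a2, b2, A2]
  · rw [← map_mul, inv, map_mul, map_inv]
  · rw [← map_mul, inv, map_mul, map_inv]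

include K in
theorem pow_torus {l : F} (hl : nm K l = 1) {d : SU 2 F q} (hd0 : mat d 0 0 = l) (hd1 : mat d 1 0 = 0) :
    d ^ (q + 1) = 1 := by
  have key : ∀ k : ℕ, mat (d ^ k) 0 0 = l ^ k ∧ mat (d ^ k) 1 0 = 0 := by
    intro k
    induction k with
    | zero => simpa using tone K
    | succ k ih =>
      rw [pow_succ, (tmul K _ _).1, (tmul K _ _).2, ih.1, ih.2, hd0, hd1]
      simp [pow_succ]
  exact two_ext K ((key _).1.trans ((l_pow K hl).trans (tone K).1.symm)) ((key _).2.trans (tone K).2.symm)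

variable (hq : q = 2 ∨ q = 3) {l : F} (hl : nm K l = 1) (hl' : K.bar l ≠ l) {d : SU 2 F q}
  (hd0 : mat d 0 0 = l) (hd1 : mat d 1 0 = 0)

include K hq hl hl' hd0 hd1 in
theorem torus_powers {Y : SU 2 F q} (hY : mat Y 1 0 = 0) : Y ∈ Subgroup.zpowers d := by
  have hn : nm K (mat Y 0 0) = 1 := by
    have := (mat_two K Y).2; rwa [hY, nm_zero, add_zero] at this
  by_cases hb : K.bar (mat Y 0 0) = mat Y 0 0
  · rcases fixed_norm_one K hq hn hb with e | e
    · rw [show Y = 1 from two_ext K (e.trans (tone K).1.symm) (hY.trans (tone K).2.symm)]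
      exact one_mem _
    · rcases hq with h2 | h3
      · rw [show Y = 1 from two_ext K (by rw [e, (tone K).1]; linear_combination -(two_eq_zero K h2))
          (hY.trans (tone K).2.symm)]
        exact one_mem _
      · rw [show Y = d * d from two_ext K
          (by rw [(tmul K d d).1, hd0, hd1, e, ((bar_root K (Or.inr h3) hl hl').2 h3).1]; simp)
          (by rw [(tmul K d d).2, hd0, hd1, hY]; simp)]
        exact mul_mem (Subgroup.mem_zpowers d) (Subgroup.mem_zpowers d)
  · rcases norm_one_cases K hq hn hb hl hl' with e | e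
    · rw [show Y = d from two_ext K (e.trans hd0.symm) (hY.trans hd1.symm)]
      exact Subgroup.mem_zpowers d
    · rw [show Y = d⁻¹ from two_ext K (e.trans (by rw [(tinv K d).1, hd0]))
        (hY.trans (by rw [(tinv K d).2, hd1, neg_zero]))]
      exact inv_mem (Subgroup.mem_zpowers d)

include K hq hl hl' hd0 hd1 in
/-- A block preserving an axis fixes it. -/
theorem line_fixed (f : SU 2 F q →* SU 4 F q) {i : ℕ} (hi : i < 4)
    (h : ∀ X, ∃ c : F, app (f X) (bv i : Fin 4 → F) = c • bv i) (X : SU 2 F q) :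
    app (f X) (bv i : Fin 4 → F) = bv i := by
  choose c hc using h
  have coord : ∀ (a b : F), a • (bv i : Fin 4 → F) = b • bv i → a = b := fun a b e => by
    have := congrArg (fun v => cd v i) e
    simpa [cd_smul, cd_bv, hi] using this
  have hn : ∀ A, nm K (c A) = 1 := fun A => by
    have h1 := h_app (f A) (bv i : Fin 4 → F) (bv i)
    rw [hc] at h1
    change (Unitary.space (n := 4) K).h (c A • bv i) (c A • bv i) = _ at h1
    rw [(Unitary.space (n := 4) K).smul_left, (Unitary.space (n := 4) K).smul_right] at h1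
    change c A * (K.bar (c A) * hermForm 4 F q (bv i) (bv i)) = hermForm 4 F q (bv i) (bv i) at h1
    rw [h_bv K, cd_bv, if_pos ⟨rfl, hi⟩, mul_one] at h1
    exact h1
  have hne : ∀ A, c A ≠ 0 := fun A e => by
    have := hn A; rw [e, nm_zero] at this; exact zero_ne_one this
  let χ : SU 2 F q →* Fˣ := MonoidHom.mk' (fun A => Units.mk0 (c A) (hne A)) fun A B => Units.ext (coord _ _ (by
    show c (A * B) • _ = (c A * c B) • _
    rw [← hc, map_mul, app_mul, hc, app_smul, hc, smul_smul, mul_comm]))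
  have := char_trivial K hq hl hl' hd0 hd1 χ (fun A => Units.ext (l_pow K (hn A))) X
  rw [hc, show c X = 1 from congrArg Units.val this, one_smul]

omit [Finite F] in
theorem line_of_comm {a T : SU 4 F q} {t : ℕ → F} (hT : IsDg T t) (hc : a * T = T * a) {i : ℕ}
    (hi : i < 4) (huniq : ∀ m, m < 4 → m ≠ i → t m ≠ t i) (K : Unitary.Conj F q) [Finite F] :
    ∃ c : F, app a (bv i : Fin 4 → F) = c • bv i := by
  set v := app a (bv i : Fin 4 → F) with hv
  refine ⟨cd v i, ext_cd fun m hm => ?_⟩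
  rw [cd_smul, cd_bv]
  by_cases e : m = i
  · subst e; rw [if_pos ⟨rfl, hm⟩, mul_one]
  rw [if_neg (fun c => e c.1), mul_zero]
  have h1 : app T v = t i • v := by rw [hv, ← app_mul, ← hc, app_mul, hT i hi, app_smul]
  have h2 := h_app T v (bv m : Fin 4 → F)
  rw [h1, hT m hm] at h2
  change (Unitary.space (n := 4) K).h (t i • v) (t m • bv m) = hermForm 4 F q v (bv m) at h2
  rw [(Unitary.space (n := 4) K).smul_left, (Unitary.space (n := 4) K).smul_right] at h2
  change t i * (K.bar (t m) * hermForm 4 F q v (bv m)) = hermForm 4 F q v (bv m) at h2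
  rw [h_bv K] at h2
  refine (mul_eq_zero.1 (show (t i * K.bar (t m) - 1) * cd v m = 0 by linear_combination h2)).resolve_left
    fun h0 => huniq m hm e ?_
  have hn : t m * K.bar (t m) = 1 := hT.nm K hm
  linear_combination (t i) * hn - (t m) * h0

include K hq hl hl' hd0 hd1 in
/-- A block with the standard torus is a twist of the standard block. -/
theorem block_form {j : ℕ} (hj : j + 2 ≤ 4) (f : SU 2 F q →* SU 4 F q) (hf : Function.Injective f)
    (hB : ∀ X, f X ∈ Blk j (j + 2)) (hfd : f d = emb K hj d) :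
    ∃ μ : F, nm K μ = 1 ∧ ∀ X, ∃ Y : SU 2 F q, f X = emb K hj Y ∧
      mat Y 0 0 = mat X 0 0 ∧ mat Y 1 0 = μ * mat X 1 0 := by
  let e := MonoidHom.ofInjective (emb_injective K hj : Function.Injective (emb K hj : SU 2 F q →* SU 4 F q))
  let ψ : SU 2 F q →* SU 2 F q :=
    e.symm.toMonoidHom.comp (f.codRestrict _ fun X => by rw [range_emb_two K hj]; exact hB X)
  have hψ : ∀ X, emb K hj (ψ X) = f X := fun X =>
    congrArg Subtype.val (e.apply_symm_apply ⟨f X, by rw [range_emb_two K hj]; exact hB X⟩)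
  obtain ⟨μ, hμ, hform⟩ := fix_torus_form K hq hl hl' hd0 hd1 ψ
    (fun a b h => hf (by rw [← hψ, ← hψ, h])) (emb_injective K hj (by rw [hψ, hfd]))
  exact ⟨μ, hμ, fun X => ⟨ψ X, (hψ X).symm, hform X⟩⟩

include K in
theorem isE_emb {j : ℕ} (hj : j + 2 ≤ 4) {l : F} (hl : nm K l = 1) {d : SU 2 F q} (hd0 : mat d 0 0 = l)
    (hd1 : mat d 1 0 = 0) :
    IsE (q := q) l (emb K hj d) fun i => if (i : ℕ) = j then 1 else if (i : ℕ) = j + 1 then -1 else 0 := by
  have h := emb_two K hj d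
  rw [hd0, hd1] at h
  intro i hi
  simp only [dif_pos hi]
  by_cases e0 : i = j
  · subst e0; rw [if_pos rfl, pw_one K hl, h.2.1, zero_smul, add_zero]
  rw [if_neg e0]
  by_cases e1 : i = j + 1
  · subst e1
    rw [if_pos rfl, pw_neg_one K hl]
    refine ext_cd fun m hm => ?_
    rw [cd_smul, cd_bv]
    by_cases m0 : m = j
    · subst m0; rw [(h.2.2 _).1]; simp [cd_bv]
    by_cases m1 : m = j + 1
    · subst m1; rw [(h.2.2 _).2]; simp [cd_bv, hm]
    rw [h.cd_ne K _ m0 m1, cd_bv, if_neg (fun c => m1 c.1), mul_zero]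
  rw [if_neg e1, pw_zero K hl, one_smul]
  exact h.1 i (by omega)

include K in
theorem tw_tw {n : ℕ} (D D' : Fin n → Fˣ) (hD : ∀ i, nm K (D i : F) = 1) (hD' : ∀ i, nm K (D' i : F) = 1)
    (h : ∀ i, D i * D' i = 1) (A : SU n F q) :
    tw K D hD (RingEquiv.refl F) (tw K D' hD' (RingEquiv.refl F) A) = A := by
  refine mat_ext (Matrix.ext fun i k => ?_)
  rw [mat_tw, twMat, Matrix.of_apply, mat_tw, twMat, Matrix.of_apply, RingEquiv.refl_apply,
    RingEquiv.refl_apply]
  have h1 : (D i : F) * (D' i : F) = 1 := by rw [← Units.val_mul, h, Units.val_one]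
  have h2 : (((D' k)⁻¹ : Fˣ) : F) * (((D k)⁻¹ : Fˣ) : F) = 1 := by
    rw [← Units.val_mul, ← _root_.mul_inv_rev, h, inv_one, Units.val_one]
  linear_combination (mat A i k * (((D' k)⁻¹ : Fˣ) : F) * (((D k)⁻¹ : Fˣ) : F)) * h1 + (mat A i k) * h2

include K hq in
theorem eq_emb_small {j : ℕ} (hj : j + 3 ≤ 4) (s : SU 3 F q →* SU 4 F q)
    (hA : ∀ X, s (bA K X) = emb K hj (bA K X)) (hB : ∀ X, s (bB K X) = emb K hj (bB K X)) :
    s = emb K hj := by
  by_cases h2 : q = 2
  · obtain ⟨ω, hω, -⟩ := exists_omega K h2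
    exact eq_emb_of_blocks K h2 hω hj s hA hB
  · have := three_top K hq (s.eqLocus (emb K hj))
      (by rw [← range_emb_two K h01]; rintro _ ⟨X, rfl⟩; exact hA X)
      (by rw [← range_emb_two K h12]; rintro _ ⟨X, rfl⟩; exact hB X) (fun h => absurd h h2)
    exact MonoidHom.ext fun x => show x ∈ s.eqLocus (emb K hj) from this ▸ Subgroup.mem_top x

include K hl hd0 hd1 in
/-- The diagonal values of a torus. -/
theorem isDg_emb {j : ℕ} (hj : j + 2 ≤ 4) : IsDg (emb K hj d : SU 4 F q)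
    (fun i => if i = j then l else if i = j + 1 then K.bar l else 1) := fun i hi => by
  rw [isE_emb K hj hl hd0 hd1 i hi]
  simp only [dif_pos hi]
  congr 1
  split_ifs
  · exact pw_one K hl
  · exact pw_neg_one K hl
  · exact pw_zero K hl

include K hl hd0 hd1 in
theorem isDg_emb_inv : IsDg ((emb K h13 d : SU 4 F q)⁻¹)
    (fun m => if m = 1 then K.bar l else if m = 2 then l else 1) :=
  (isDg_emb K hl hd0 hd1 h13).inv fun m _ => by
    have hll : l * K.bar l = 1 := hl
    by_cases m1 : m = 1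
    · simp [m1, mul_comm (K.bar l) l, hll]
    by_cases m2 : m = 2
    · simp [m2, hll]
    simp [m1, m2]

include K hq hl hl' hd0 hd1 in
theorem mem_Blk_of_lines (f : SU 2 F q →* SU 4 F q) {j : ℕ}
    (h : ∀ i, i < 4 → (i < j ∨ j + 2 ≤ i) → ∀ X, ∃ c : F, app (f X) (bv i : Fin 4 → F) = c • bv i)
    (X : SU 2 F q) : f X ∈ Blk j (j + 2) := fun i hi => by
  by_cases hi4 : i < 4
  · exact line_fixed K hq hl hl' hd0 hd1 f hi4 (h i hi4 hi) X
  · rw [bv, dif_neg hi4, app_zero']

include K hq hl hl' hd0 hd1 in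
/-- Four elements: the torus and an involution generate the middle block. -/
theorem lines_two (h2 : q = 2) (fB : SU 2 F q →* SU 4 F q) (fBd : fB d = emb K h13 d) {W : SU 2 F q}
    (hW0 : mat W 0 0 = 0)
    (ew : fB W * emb K h02 d = (emb K h02 d * emb K h13 d) * fB W)
    (ew' : fB W * emb K h13 d = (emb K h13 d : SU 4 F q)⁻¹ * fB W)
    {i : ℕ} (hi : i < 4) (hout : i < 1 ∨ 1 + 2 ≤ i) (X : SU 2 F q) :
    ∃ c : F, app (fB X) (bv i : Fin 4 → F) = c • bv i := by
  have hll : l * K.bar l = 1 := hl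
  have l1 : l ≠ 1 := fun e => hl' (by rw [e, map_one])
  have bl1 : K.bar l ≠ 1 := fun e => hl' (by rw [e]; rw [e, mul_one] at hll; exact hll.symm)
  set v := app (fB W) (bv i : Fin 4 → F) with hv
  have key : ∀ {T : SU 4 F q} {t : ℕ → F} {x : F}, IsDg T t → app T v = x • v →
      ∀ m, m < 4 → t m ≠ x → cd v m = 0 := by
    intro T t x hT hTv m hm hne
    have h2' := h_app T v (bv m : Fin 4 → F)
    rw [hTv, hT m hm] at h2'
    change (Unitary.space (n := 4) K).h (x • v) (t m • bv m) = hermForm 4 F q v (bv m) at h2'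
    rw [(Unitary.space (n := 4) K).smul_left, (Unitary.space (n := 4) K).smul_right] at h2'
    change x * (K.bar (t m) * hermForm 4 F q v (bv m)) = hermForm 4 F q v (bv m) at h2'
    rw [h_bv K] at h2'
    refine (mul_eq_zero.1 (show (x * K.bar (t m) - 1) * cd v m = 0 by
      linear_combination h2')).resolve_left fun h0 => hne ?_
    have hn : t m * K.bar (t m) = 1 := hT.nm K hm
    linear_combination (x) * hn - (t m) * h0
  have hA2 : ∀ x : F, app (emb K h02 d : SU 4 F q) (bv i) = x • bv i →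
      app (emb K h02 d * emb K h13 d : SU 4 F q) v = x • v := fun x hx => by
    rw [hv, ← app_mul, ← ew, app_mul, hx, app_smul]
  have hB2 : app ((emb K h13 d : SU 4 F q)⁻¹) v = (1 : F) • v := by
    rw [one_smul, hv, ← app_mul, ← ew', app_mul, emb_mem_Blk K h13 d i hout]
  have k1 : cd v 1 = 0 := key (isDg_emb_inv K hl hd0 hd1) hB2 1 (by norm_num) (by simpa using bl1)
  have k2 : cd v 2 = 0 := key (isDg_emb_inv K hl hd0 hd1) hB2 2 (by norm_num) (by simpa using l1)
  have hprod := IsDg.mul (isDg_emb K hl hd0 hd1 h02) (isDg_emb K hl hd0 hd1 h13)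
  have off : ∀ m, m < 4 → m ≠ i → cd v m = 0 := by
    intro m hm hne
    rcases (show m = 0 ∨ m = 1 ∨ m = 2 ∨ m = 3 by omega) with rfl | rfl | rfl | rfl
    · obtain rfl : i = 3 := by omega
      refine key hprod (hA2 1 ?_) 0 hm ?_
      · rw [isDg_emb K hl hd0 hd1 h02 3 hi]; simp
      · simpa using l1
    · exact k1
    · exact k2
    · obtain rfl : i = 0 := by omega
      refine key hprod (hA2 l ?_) 3 hm ?_
      · rw [isDg_emb K hl hd0 hd1 h02 0 hi]; simp
      · simpa using fun e : 1 = l => l1 e.symm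
  have hline : v = cd v i • bv i := ext_cd fun m hm => by
    rw [cd_smul, cd_bv]
    by_cases e : m = i
    · subst e; rw [if_pos ⟨rfl, hm⟩, mul_one]
    · rw [if_neg (fun c => e c.1), mul_zero, off m hm e]
  have hne : cd v i ≠ 0 := fun h0 => by
    rw [h0, zero_smul] at hline
    have hvn := h_app (fB W) (bv i : Fin 4 → F) (bv i)
    rw [← hv, hline, show hermForm 4 F q (0 : Fin 4 → F) 0 = 0 from
      (Unitary.space (n := 4) K).zero_left _, h_bv K, cd_bv, if_pos ⟨rfl, hi⟩] at hvn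
    exact zero_ne_one hvn
  let Ln : Subgroup (SU 2 F q) :=
    { carrier := {X | ∃ c : F, c ≠ 0 ∧ app (fB X) (bv i : Fin 4 → F) = c • bv i}
      one_mem' := ⟨1, one_ne_zero, by rw [map_one, app_one, one_smul]⟩
      mul_mem' := fun {A B} ⟨x, hx0, hx⟩ ⟨y, hy0, hy⟩ => ⟨y * x, mul_ne_zero hy0 hx0, by
        rw [map_mul, app_mul, hy, app_smul, hx, smul_smul]⟩
      inv_mem' := fun {A} ⟨x, hx0, hx⟩ => ⟨x⁻¹, inv_ne_zero hx0, by
        rw [map_inv]
        conv_rhs => rw [← app_inv (fB A) (bv i), hx, app_smul, smul_smul, inv_mul_cancel₀ hx0, one_smul]⟩ }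
  have md : d ∈ Ln := ⟨1, one_ne_zero, by rw [one_smul, fBd]; exact emb_mem_Blk K h13 d i hout⟩
  have mW : W ∈ Ln := ⟨cd v i, hne, hline⟩
  suffices X ∈ Ln by obtain ⟨c, -, hc⟩ := this; exact ⟨c, hc⟩
  rcases two_cases K hq X with h | h | ⟨h, -⟩
  · exact Subgroup.zpowers_le.2 md (torus_powers K hq hl hl' hd0 hd1 h)
  · have : X * W⁻¹ ∈ Ln := Subgroup.zpowers_le.2 md (torus_powers K hq hl hl' hd0 hd1 (by
      rw [(tmul K _ _).2, (tinv K W).1, hW0, h]; simp))
    rw [← inv_mul_cancel_right X W]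
    exact mul_mem this mW
  · omega

include K hq hl hl' hd0 hd1 in
/-- Nine elements: a torus centralises the middle block. -/
theorem lines_three (h3 : q = 3) (φ : SU 3 F q →* SU 4 F q) (fAd : φ (bA K d) = emb K h02 d)
    (fBd : φ (bB K d) = emb K h13 d) {i : ℕ} (hi : i < 4) (hout : i < 1 ∨ 1 + 2 ≤ i) (X : SU 2 F q) :
    ∃ c : F, app (φ (bB K X)) (bv i : Fin 4 → F) = c • bv i := by
  have hll : l * K.bar l = 1 := hl
  have l1 : l ≠ 1 := fun e => hl' (by rw [e, map_one])
  obtain ⟨e2, eb⟩ := (bar_root K (Or.inr h3) hl hl').2 h3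
  have hcomm : bB K X * (bA K d * bA K d * (bB K d)⁻¹) =
      (bA K d * bA K d * (bB K d)⁻¹) * bB K X := by
    have Ad := emb_two K h01 d
    have Bd := emb_two K h12 d⁻¹
    have BX := emb_two K h12 X
    rw [hd0, hd1] at Ad
    rw [(tinv K d).1, (tinv K d).2, hd0, hd1, neg_zero] at Bd
    rw [← map_inv]
    set Z := bA K d * bA K d * bB K d⁻¹ with hZ
    have hZv : ∀ v : Fin 3 → F, cd (app Z v) 0 = -cd v 0 ∧ cd (app Z v) 1 = l * cd v 1 ∧
        cd (app Z v) 2 = l * cd v 2 := fun v => by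
      have a0 : ∀ v : Fin 3 → F, cd (app (bA K d) v) 0 = l * cd v 0 := fun v => by
        rw [(Ad.2.2 v).1]; simp
      have a1 : ∀ v : Fin 3 → F, cd (app (bA K d) v) 1 = K.bar l * cd v 1 := fun v => by
        simpa using (Ad.2.2 v).2
      have a2 : ∀ v : Fin 3 → F, cd (app (bA K d) v) 2 = cd v 2 := fun v =>
        Ad.cd_ne K v (by omega) (by omega)
      have b0 : ∀ v : Fin 3 → F, cd (app (bB K d⁻¹) v) 0 = cd v 0 := fun v =>
        Bd.cd_ne K v (by omega) (by omega)
      have b1 : ∀ v : Fin 3 → F, cd (app (bB K d⁻¹) v) 1 = K.bar l * cd v 1 := fun v => by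
        rw [(Bd.2.2 v).1]; simp
      have b2 : ∀ v : Fin 3 → F, cd (app (bB K d⁻¹) v) 2 = l * cd v 2 := fun v => by
        simpa [K.bar_bar] using (Bd.2.2 v).2
      rw [hZ, app_mul, app_mul]
      refine ⟨?_, ?_, ?_⟩
      · rw [a0, a0, b0]; linear_combination (cd v 0) * e2
      · rw [a1, a1, b1, eb]; linear_combination -(cd v 1 * l) * e2
      · rw [a2, a2, b2]
    clear_value Z
    clear hZ
    refine ext_app fun v => ext_cd fun m hm => ?_
    rw [app_mul, app_mul]
    rcases (show m = 0 ∨ m = 1 ∨ m = 2 by omega) with rfl | rfl | rfl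
    · rw [BX.cd_ne K _ (by omega) (by omega), (hZv v).1, (hZv _).1,
        BX.cd_ne K _ (by omega) (by omega)]
    · rw [(BX.2.2 _).1, (hZv v).2.1, show cd (app Z v) (1 + 1) = l * cd v 2 from (hZv v).2.2,
        (hZv _).2.1, (BX.2.2 v).1]
      ring
    · have x2 : ∀ w : Fin 3 → F, cd (app (bB K X) w) 2 =
          mat X 1 0 * cd w 1 + K.bar (mat X 0 0) * cd w 2 := fun w => (BX.2.2 w).2
      rw [x2, (hZv v).2.1, (hZv v).2.2, (hZv _).2.2, x2]; ring
  have hT : IsDg (emb K h02 d * emb K h02 d * (emb K h13 d)⁻¹ : SU 4 F q)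
      (fun m => if m = 0 then -1 else if m = 3 then 1 else l) := by
    have h := IsDg.mul (IsDg.mul (isDg_emb K hl hd0 hd1 h02) (isDg_emb K hl hd0 hd1 h02))
      (isDg_emb_inv K hl hd0 hd1)
    intro m hm
    rw [h m hm]
    congr 1
    rcases (show m = 0 ∨ m = 1 ∨ m = 2 ∨ m = 3 by omega) with rfl | rfl | rfl | rfl <;> simp
    · exact e2
    · rw [eb]; linear_combination -l * e2
  have nl : (-1 : F) ≠ l := fun e => hl' (by rw [← e, map_neg, map_one])
  have n1 : (-1 : F) ≠ 1 := fun e => one_ne_zero (α := F) (by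
    linear_combination three_eq_zero K h3 + e)
  refine line_of_comm hT ?_ hi (fun m hm hne => ?_) K
  · have h := congrArg φ hcomm
    simp only [map_mul, map_inv] at h
    rwa [fAd, fBd] at h
  · rcases (show i = 0 ∨ i = 3 by omega) with rfl | rfl <;>
    rcases (show m = 0 ∨ m = 1 ∨ m = 2 ∨ m = 3 by omega) with rfl | rfl | rfl | rfl <;>
      simp [nl.symm, n1, n1.symm, l1] at hne ⊢

include K hq hl hl' hd0 hd1 in
/-- The standard position, the tori being standard. -/
theorem position_of_tori (s s' : SU 3 F q →* SU 4 F q) (iA : Function.Injective (s.comp (bA K)))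
    (iB : Function.Injective (s.comp (bB K))) (iC : Function.Injective (s'.comp (bB K)))
    (hmid : ∀ X, s (bB K X) = s' (bA K X))
    (hAC : ∀ X Y, Commute (s (bA K X)) (s' (bB K Y))) (g : SU 4 F q)
    (hgA : g⁻¹ * s (bA K d) * g = emb K h02 d) (hgB : g⁻¹ * s (bB K d) * g = emb K h13 d)
    (hgC : g⁻¹ * s' (bB K d) * g = emb K h24 d) :
    ∃ θ : SU 4 F q →* SU 4 F q, Function.Bijective θ ∧ θ.comp (emb K h03) = s ∧
      θ.comp (emb K h14) = s' := by
  classical
  let φ := MulAut.conj g⁻¹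
  have hφ : ∀ x, φ x = g⁻¹ * x * g := fun x => by simp [φ]
  set fA := φ.toMonoidHom.comp (s.comp (bA K)) with hfA
  set fB := φ.toMonoidHom.comp (s.comp (bB K)) with hfB
  set fC := φ.toMonoidHom.comp (s'.comp (bB K)) with hfC
  have fAd : fA d = emb K h02 d := (hφ _).trans hgA
  have fBd : fB d = emb K h13 d := (hφ _).trans hgB
  have fCd : fC d = emb K h24 d := (hφ _).trans hgC
  have jA : Function.Injective fA := φ.injective.comp iA
  have jB : Function.Injective fB := φ.injective.comp iB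
  have jC : Function.Injective fC := φ.injective.comp iC
  have cAC : ∀ X Y, fA X * fC Y = fC Y * fA X := fun X Y => ((hAC X Y).map φ.toMonoidHom).eq
  have l1 : l ≠ 1 := fun e => hl' (by rw [e, map_one])
  have bl1 : K.bar l ≠ 1 := fun e => hl' (by
    have := congrArg K.bar e; rw [K.bar_bar, map_one] at this; exact absurd this l1)
  have dgE : ∀ {j : ℕ} (hj : j + 2 ≤ 4), IsDg (emb K hj d : SU 4 F q)
      (fun i => if i = j then l else if i = j + 1 then K.bar l else 1) := fun hj => isDg_emb K hl hd0 hd1 hj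
  have lineA : ∀ X, fA X ∈ Blk 0 (0 + 2) := mem_Blk_of_lines K hq hl hl' hd0 hd1 fA fun i hi hout X =>
    line_of_comm (dgE h24) (fCd ▸ cAC X d) hi (fun m hm hne => by
      rcases (show i = 2 ∨ i = 3 by omega) with rfl | rfl <;>
      rcases (show m = 0 ∨ m = 1 ∨ m = 2 ∨ m = 3 by omega) with rfl | rfl | rfl | rfl <;>
        simp [l1.symm, bl1.symm, hl', Ne.symm hl'] at hne ⊢) K
  have lineC : ∀ X, fC X ∈ Blk 2 (2 + 2) := mem_Blk_of_lines K hq hl hl' hd0 hd1 fC fun i hi hout X =>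
    line_of_comm (dgE h02) (fAd ▸ (cAC d X).symm) hi (fun m hm hne => by
      rcases (show i = 0 ∨ i = 1 by omega) with rfl | rfl <;>
      rcases (show m = 0 ∨ m = 1 ∨ m = 2 ∨ m = 3 by omega) with rfl | rfl | rfl | rfl <;>
        simp [l1.symm, bl1.symm, hl', Ne.symm hl'] at hne ⊢) K
  have lineB : ∀ X, fB X ∈ Blk 1 (1 + 2) := mem_Blk_of_lines K hq hl hl' hd0 hd1 fB fun i hi hout => by
    rcases hq with h2 | h3
    · obtain ⟨W', hW'0, hW'1⟩ := exists_two K (α := (0 : F)) (β := 1) (by rw [nm_zero, nm_one, zero_add])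
      obtain ⟨-, u2, -, -, u5⟩ := torus_rel K hl hd0 hd1 hW'0 hW'1
      refine lines_two K (Or.inl h2) hl hl' hd0 hd1 h2 fB fBd hW'0 ?_ ?_ hi hout
      · rw [← fAd, ← fBd]
        show φ (s (bB K W')) * φ (s (bA K d)) = φ (s (bA K d)) * φ (s (bB K d)) * φ (s (bB K W'))
        rw [← map_mul, ← map_mul, u2, map_mul, map_mul, map_mul, map_mul]
      · rw [← fBd]
        show φ (s (bB K W')) * φ (s (bB K d)) = (φ (s (bB K d)))⁻¹ * φ (s (bB K W'))
        rw [← map_mul, ← map_mul, u5, map_mul, map_mul, map_inv, map_inv]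
    · exact lines_three K (Or.inr h3) hl hl' hd0 hd1 h3 (φ.toMonoidHom.comp s) fAd fBd hi hout
  obtain ⟨μA, hμA, formA⟩ := block_form K hq hl hl' hd0 hd1 h02 fA jA lineA fAd
  obtain ⟨μB, hμB, formB⟩ := block_form K hq hl hl' hd0 hd1 h13 fB jB lineB fBd
  obtain ⟨μC, hμC, formC⟩ := block_form K hq hl hl' hd0 hd1 h24 fC jC lineC fCd
  have ne0 : ∀ {x : F}, nm K x = 1 → x ≠ 0 := fun h e => by rw [e, nm_zero] at h; exact zero_ne_one h
  set uA := Units.mk0 μA (ne0 hμA)
  set uB := Units.mk0 μB (ne0 hμB)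
  set uC := Units.mk0 μC (ne0 hμC)
  set D : Fin 4 → Fˣ := ![1, uA, uA * uB, uA * uB * uC]
  have hD : ∀ i, nm K (D i : F) = 1 := fun i => by
    fin_cases i <;> simp [D, uA, uB, uC, nm_one, nm_mul, hμA, hμB, hμC]
  have hDi : ∀ i, nm K ((D i)⁻¹ : Fˣ) = 1 := fun i => by
    have := hD i
    rw [Units.val_inv_eq_inv_val]
    have h2 : nm K (D i : F) * nm K ((D i : F))⁻¹ = 1 := by
      rw [← nm_mul, mul_inv_cancel₀ (D i).ne_zero, nm_one]
    rwa [this, one_mul] at h2
  let T := tw K D hD (RingEquiv.refl F)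
  let T' := tw K (fun i => (D i)⁻¹) hDi (RingEquiv.refl F)
  have hTT : ∀ A, T (T' A) = A := fun A => tw_tw K _ _ hD hDi (fun i => mul_inv_cancel _) A
  have hT'T : ∀ A, T' (T A) = A := fun A => tw_tw K _ _ hDi hD (fun i => inv_mul_cancel _) A
  have onBlk : ∀ {j : ℕ} (hj : j + 2 ≤ 4) (μ : F) (f : SU 2 F q →* SU 4 F q),
      ((D ⟨j + 1, by omega⟩ : F) * ((D ⟨j, by omega⟩)⁻¹ : Fˣ) = μ) →
      (∀ X, ∃ Y : SU 2 F q, f X = emb K hj Y ∧ mat Y 0 0 = mat X 0 0 ∧ mat Y 1 0 = μ * mat X 1 0) →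
      ∀ X, T' (f X) = emb K hj X := by
    intro j hj μ f hμ hform X
    obtain ⟨Y, hY, y0, y1⟩ := hform X
    obtain ⟨Z, hZ, z0, z1⟩ := tw_emb K hj D hD (RingEquiv.refl F) X
    have : Z = Y := two_ext K (by rw [z0, y0]; rfl) (by
      rw [z1, y1, ← hμ, RingEquiv.refl_apply]; ring)
    rw [hY, ← this, ← hZ, hT'T]
  have eA := onBlk h02 μA fA (by simp [D, uA]) formA
  have eB := onBlk h13 μB fB (by simp [D, uA, uB]; field_simp [ne0 hμA]) formB
  have eC := onBlk h24 μC fC (by simp [D, uA, uB, uC]; field_simp [ne0 hμA, ne0 hμB]) formC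
  set t : SU 3 F q →* SU 4 F q := T'.comp (φ.toMonoidHom.comp s)
  set t' : SU 3 F q →* SU 4 F q := T'.comp (φ.toMonoidHom.comp s')
  have ht : t = emb K h03 := eq_emb_small K hq h03 t
    (fun X => (eA X).trans (emb_emb K h01 h03 h02 X).symm)
    (fun X => (eB X).trans (emb_emb K h12 h03 h13 X).symm)
  have ht' : t' = emb K h14 := eq_emb_small K hq h14 t'
    (fun X => by
      show T' (φ (s' (bA K X))) = _
      rw [← hmid]; exact (eB X).trans (emb_emb K h01 h14 h13 X).symm)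
    (fun X => (eC X).trans (emb_emb K h12 h14 h24 X).symm)
  refine ⟨φ.symm.toMonoidHom.comp T, φ.symm.bijective.comp (tw_bijective K D hD _), ?_, ?_⟩
  · rw [← ht]
    exact MonoidHom.ext fun A => by simp [t, hTT]
  · rw [← ht']
    exact MonoidHom.ext fun A => by simp [t', hTT]

include K in
theorem bar_tw_emb {N m j : ℕ} (h : j + m ≤ N) (hN : ∀ i : Fin N, nm K (((1 : Fˣ)) : F) = 1)
    (hm : ∀ i : Fin m, nm K (((1 : Fˣ)) : F) = 1) (A : SU m F q) :
    tw K (fun _ => 1) hN K.bar (emb K h A) = emb K h (tw K (fun _ => 1) hm K.bar A) := by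
  refine mat_ext (Matrix.ext fun i k => ?_)
  rw [mat_tw, mat_emb, mat_emb, mat_tw]
  simp only [twMat, Matrix.of_apply, winMat, Matrix.submatrix_apply, Units.val_one, inv_one, one_mul,
    mul_one]
  rcases winEquiv N m j h i with a | r <;> rcases winEquiv N m j h k with b | t
  · simp [twMat]
  · simp
  · simp
  · by_cases e : r = t
    · subst e; simp
    · simp [Matrix.one_apply_ne e]

include K hq in
/-- Two glued groups in four dimensions are standard up to an automorphism. -/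
theorem exists_position (s s' : SU 3 F q →* SU 4 F q) (iA : Function.Injective (s.comp (bA K)))
    (iB : Function.Injective (s.comp (bB K))) (iC : Function.Injective (s'.comp (bB K)))
    (hmid : ∀ X, s (bB K X) = s' (bA K X))
    (hAC : ∀ X Y, Commute (s (bA K X)) (s' (bB K Y))) :
    ∃ θ : SU 4 F q →* SU 4 F q, Function.Bijective θ ∧ θ.comp (emb K h03) = s ∧
      θ.comp (emb K h14) = s' := by
  classical
  obtain ⟨l₀, hl₀, hl₀'⟩ := exists_gen K
  obtain ⟨d₀, hd₀0, hd₀1⟩ := exists_two K (α := l₀) (β := (0 : F)) (by rw [hl₀, nm_zero, add_zero])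
  obtain ⟨W, hW0, hW1⟩ := exists_two K (α := (0 : F)) (β := 1) (by rw [nm_zero, nm_one, zero_add])
  have hdd : d₀ ≠ d₀⁻¹ := fun e => hl₀' (by
    have := congrArg (fun z => mat z 0 0) e
    simp only [(tinv K d₀).1, hd₀0] at this
    exact this.symm)
  obtain ⟨t1, t2, t3, t4, t5⟩ := torus_rel K hl₀ hd₀0 hd₀1 hW0 hW1
  set a := s (bA K d₀) with ha
  set b := s (bB K d₀) with hb
  set c := s' (bB K d₀) with hc
  have hb' : b = s' (bA K d₀) := hmid d₀
  have hinjA : ∀ X Y, s (bA K X) = s (bA K Y) → X = Y := fun X Y h => iA h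
  have hinjB : ∀ X Y, s (bB K X) = s (bB K Y) → X = Y := fun X Y h => iB h
  have hinjC : ∀ X Y, s' (bB K X) = s' (bB K Y) → X = Y := fun X Y h => iC h
  have pw' : ∀ (f : SU 2 F q →* SU 4 F q), f d₀ ^ (q + 1) = 1 := fun f => by
    rw [← map_pow, pow_torus K hl₀ hd₀0 hd₀1, map_one]
  have hd1 : d₀ ≠ 1 := fun e => hdd (by rw [e, inv_one])
  obtain ⟨g, pos, hga, hgb, hgc⟩ := exists_torus_frame K hq hl₀ hl₀' (a := a) (b := b) (c := c)
    (w₁ := s (bA K W)) (w₂ := s (bB K W)) (w₃ := s (bA K W)) (w₄ := s' (bB K W)) (w₅ := s' (bA K W))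
    (pw' (s.comp (bA K))) (pw' (s.comp (bB K))) (pw' (s'.comp (bB K)))
    (by rw [ha, hb, Commute, SemiconjBy, ← map_mul, t1, map_mul])
    (hAC _ _)
    (by rw [hb', hc, Commute, SemiconjBy, ← map_mul, t1, map_mul])
    (by rw [ha, ← map_mul, t4, map_mul, map_inv])
    (by rw [ha, hb, ← map_mul, t2, map_mul, map_mul])
    (by rw [ha, hb, ← map_mul, t3, map_mul, map_mul])
    (by rw [hb', hc, ← map_mul, t2, map_mul, map_mul])
    (by rw [hb', hc, ← map_mul, t3, map_mul, map_mul])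
    (hAC _ _).eq
    (fun e => hdd (hinjA _ _ (by rw [map_inv, map_inv]; exact e)))
    (fun e => hd1 (hinjC d₀ 1 (by
      have h2 : s' (bB K W) * a = a * s' (bB K W) := (hAC d₀ W).eq.symm
      rw [e, hb', ← map_mul, t2, ← map_mul, map_mul, map_mul, map_mul] at h2
      rw [map_one, map_one]
      exact mul_eq_left.1 (mul_right_cancel h2))))
    (fun e => hd1 (hinjA d₀ 1 (by
      have h2 : s (bA K W) * c = c * s (bA K W) := (hAC W d₀).eq
      rw [← e, hb, ← map_mul, t3, ← map_mul, map_mul, map_mul, map_mul] at h2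
      rw [map_one, map_one]
      exact mul_eq_right.1 (mul_right_cancel h2))))
    (fun e => hdd (hinjC _ _ (by rw [map_inv, map_inv]; exact e)))
  have ei : ∀ (j : ℕ) (hj : j + 2 ≤ 4) (v : Fin 4 → ZMod (q + 1)),
      (∀ i : Fin 4, (if (i : ℕ) = j then 1 else if (i : ℕ) = j + 1 then -1 else 0) = v i) →
      IsE l₀ (emb K hj d₀) v := fun j hj v hv => funext hv ▸ isE_emb K hj hl₀ hd₀0 hd₀1
  have k0 := ei 0 h02 ![1, -1, 0, 0] (fun i => by fin_cases i <;> rfl)
  have k1 := ei 1 h13 ![0, 1, -1, 0] (fun i => by fin_cases i <;> rfl)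
  have k2 := ei 2 h24 ![0, 0, 1, -1] (fun i => by fin_cases i <;> rfl)
  cases pos
  swap
  · simp only [if_true] at hga hgb hgc
    exact position_of_tori K hq hl₀ hl₀' hd₀0 hd₀1 s s' iA iB iC hmid hAC g (IsE.eq hga k0)
      (IsE.eq hgb k1) (IsE.eq hgc k2)
  -- the negative pattern: twist by the involution of the field
  simp only [Bool.false_eq_true, if_false] at hga hgb hgc
  have one1 : ∀ {m : ℕ} (i : Fin m), nm K (((1 : Fˣ)) : F) = 1 := fun _ => by
    rw [Units.val_one, nm_one]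
  let β : (m : ℕ) → (SU m F q →* SU m F q) := fun m => tw K (fun _ => 1) one1 K.bar
  have hββ : ∀ {m : ℕ} (A : SU m F q), β m (β m A) = A := fun {m} A =>
    mat_ext (Matrix.ext fun i k => by simp [β, mat_tw, twMat, K.bar_bar])
  have hβd : β 2 d₀ = d₀⁻¹ := two_ext K
    (by rw [(tinv K d₀).1]; simp [β, mat_tw, twMat, hd₀0])
    (by rw [(tinv K d₀).2]; simp [β, mat_tw, twMat, hd₀1])
  have hA' : ∀ X, (s.comp (β 3)) (bA K X) = s (bA K (β 2 X)) := fun X =>
    congrArg s (bar_tw_emb K h01 one1 one1 X)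
  have hB' : ∀ X, (s.comp (β 3)) (bB K X) = s (bB K (β 2 X)) := fun X =>
    congrArg s (bar_tw_emb K h12 one1 one1 X)
  have hA'' : ∀ X, (s'.comp (β 3)) (bA K X) = s' (bA K (β 2 X)) := fun X =>
    congrArg s' (bar_tw_emb K h01 one1 one1 X)
  have hB'' : ∀ X, (s'.comp (β 3)) (bB K X) = s' (bB K (β 2 X)) := fun X =>
    congrArg s' (bar_tw_emb K h12 one1 one1 X)
  have β2 : Function.Injective (β 2) := fun x y h => by rw [← hββ x, h, hββ]
  obtain ⟨θ, hθ, hθs, hθs'⟩ := position_of_tori K hq hl₀ hl₀' hd₀0 hd₀1 (s.comp (β 3)) (s'.comp (β 3))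
    (fun x y h => β2 (iA (by simpa only [MonoidHom.comp_apply, ← hA'] using h)))
    (fun x y h => β2 (iB (by simpa only [MonoidHom.comp_apply, ← hB'] using h)))
    (fun x y h => β2 (iC (by simpa only [MonoidHom.comp_apply, ← hB''] using h)))
    (fun X => by rw [hB', hA'', hmid]) (fun X Y => by rw [hA', hB'']; exact hAC _ _) g
    (by rw [hA', hβd, map_inv, map_inv]; exact IsE.eq hga k0)
    (by rw [hB', hβd, map_inv, map_inv]; exact IsE.eq hgb k1)
    (by rw [hB'', hβd, map_inv, map_inv]; exact IsE.eq hgc k2)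
  refine ⟨θ.comp (β 4), hθ.comp (tw_bijective K _ one1 K.bar), ?_, ?_⟩
  · refine MonoidHom.ext fun A => ?_
    show θ (β 4 (emb K h03 A)) = s A
    rw [show β 4 (emb K h03 A) = emb K h03 (β 3 A) from bar_tw_emb K h03 one1 one1 A]
    exact (DFunLike.congr_fun hθs (β 3 A)).trans (congrArg s (hββ A))
  · refine MonoidHom.ext fun A => ?_
    show θ (β 4 (emb K h14 A)) = s' A
    rw [show β 4 (emb K h14 A) = emb K h14 (β 3 A) from bar_tw_emb K h14 one1 one1 A]
    exact (DFunLike.congr_fun hθs' (β 3 A)).trans (congrArg s' (hββ A))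

end CfsgLib.PhanSmall
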