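import Cfsg.Agent.Lib.PhanSmall.Small

/-!
# Gluing standard pairs over the fields with four and nine elements
-/

set_option autoImplicit false
set_option linter.unusedSectionVars false

namespace CfsgLib.PhanSmall

open Matrix Cfsg
open CfsgLib.Classical.Herm
open CfsgLib.Classical.Phan hiding two_mul
open CfsgLib.ClassicalAut (Unitary.Conj Unitary.space Unitary.herm_apply)

variable {F : Type*} [Field F] [Finite F] {q : ℕ} (K : Unitary.Conj F q) {G : Type*} [Group G]

include K in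
/-- An automorphism preserving the torus is a twist by a field automorphism. -/
theorem aut_small (hq : q = 2 ∨ q = 3) (α : MulAut (SU 2 F q))
    (hD : ∀ A : SU 2 F q, mat A 1 0 = 0 → mat (α A) 1 0 = 0) :
    ∃ (τ : F ≃+* F) (μ : F), nm K μ = 1 ∧
      ∀ A : SU 2 F q, mat (α A) 0 0 = τ (mat A 0 0) ∧ mat (α A) 1 0 = μ * τ (mat A 1 0) := by
  obtain ⟨l, hl, hl'⟩ := exists_gen K
  obtain ⟨d, hd0, hd1⟩ := exists_two K (α := l) (β := (0 : F)) (by rw [hl, nm_zero, add_zero])
  set c := mat (α d) 0 0 with hc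
  have hc1 : mat (α d) 1 0 = 0 := hD d hd1
  have hcn : nm K c = 1 := by have := (mat_two K (α d)).2; rwa [hc1, nm_zero, add_zero] at this
  have hc' : K.bar c ≠ c := by
    intro e
    have hcc : c * c = 1 := by rw [nm, e] at hcn; exact hcn
    have h1 : α (d * d) = 1 := by
      rw [map_mul]
      refine two_ext K ?_ ?_
      · rw [(tmul K _ _).1, ← hc, hc1, (tone K).1, hcc]; simp
      · rw [(tmul K _ _).2, hc1, (tone K).2]; simp
    rw [EmbeddingLike.map_eq_one_iff] at h1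
    have h2 := congrArg (fun z => mat z 0 0) h1
    simp only [(tmul K d d).1, hd0, hd1, (tone K).1, map_zero, mul_zero, sub_zero] at h2
    exact hl' (mul_left_cancel₀ (show l ≠ 0 from fun h => by rw [h, mul_zero] at h2; exact zero_ne_one h2)
      ((show l * K.bar l = 1 from hl).trans h2.symm))
  obtain ⟨τ, hτ, hτc⟩ : ∃ τ : F ≃+* F, (∀ x, τ (τ x) = x) ∧ τ c = l := by
    rcases norm_one_cases K hq hcn hc' hl hl' with e | e
    · exact ⟨RingEquiv.refl F, fun x => rfl, e⟩
    · exact ⟨K.bar, K.bar_bar, by rw [e, K.bar_bar]⟩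
  let D : Fin 2 → Fˣ := fun _ => 1
  have hD1 : ∀ i, nm K (D i : F) = 1 := fun i => by simp [D, nm_one]
  let φ := tw K D hD1 τ
  have hφ : ∀ X, mat (φ X) 0 0 = τ (mat X 0 0) ∧ mat (φ X) 1 0 = τ (mat X 1 0) := fun X => by
    constructor <;> rw [show mat (φ X) = twMat D τ (mat X) from rfl] <;> simp [twMat, D]
  obtain ⟨μ, hμ, hform⟩ := fix_torus_form K hq hl hl' hd0 hd1 (φ.comp α.toMonoidHom)
    ((tw_bijective K D hD1 τ).1.comp α.injective) (two_ext K
      (by rw [MonoidHom.comp_apply]; exact ((hφ _).1.trans hτc).trans hd0.symm)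
      (by rw [MonoidHom.comp_apply]; exact ((hφ _).2.trans (by
        show τ (mat (α d) 1 0) = 0
        rw [hc1, map_zero])).trans hd1.symm))
  refine ⟨τ, τ μ, by rw [nm, tau_bar K, ← map_mul, show μ * K.bar μ = 1 from hμ, map_one], fun A => ?_⟩
  obtain ⟨f0, f1⟩ := hform A
  simp only [MonoidHom.comp_apply, MulEquiv.coe_toMonoidHom] at f0 f1
  rw [(hφ _).1] at f0
  rw [(hφ _).2] at f1
  exact ⟨by rw [← f0, hτ], by rw [← map_mul, ← f1, hτ]⟩

include K in
/-- Adjust a standard pair to agree with the previous one. -/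
theorem glue_small (hq : q = 2 ∨ q = 3) {A B C V W : Subgroup G} {ψ χ : SU 3 F q →* G} (hψ : Pair K ψ A B V)
    (hχ : Pair K χ B C W) (hAC : ∀ x ∈ A, ∀ y ∈ C, x * y = y * x) :
    ∃ χ' : SU 3 F q →* G, Pair K χ' B C W ∧ χ'.comp (bA K) = ψ.comp (bB K) := by
  classical
  let α : MulAut (SU 2 F q) := ((MonoidHom.ofInjective hψ.injB).trans
    (MulEquiv.subgroupCongr (hψ.rangeB.trans hχ.rangeA.symm))).trans (MonoidHom.ofInjective hχ.injA).symm
  have hα : ∀ X, χ (bA K (α X)) = ψ (bB K X) := fun X => by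
    have := congrArg Subtype.val ((MonoidHom.ofInjective hχ.injA).apply_symm_apply
      (MulEquiv.subgroupCongr (hψ.rangeB.trans hχ.rangeA.symm) (MonoidHom.ofInjective hψ.injB X)))
    exact this
  obtain ⟨l, hl, hl'⟩ := exists_gen K
  have hl1 : l ≠ 1 := fun e => hl' (by rw [e, map_one])
  obtain ⟨d, hd0, hd1⟩ := exists_two K (α := l) (β := (0 : F)) (by rw [hl, nm_zero, add_zero])
  set t := ψ (bA K d) with ht
  set t' := χ (bB K d) with ht'
  have htt : t * t' = t' * t :=
    hAC _ (hψ.rangeA ▸ ⟨d, rfl⟩) _ (hχ.rangeB ▸ ⟨d, rfl⟩)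
  -- diagonal elements commute with the torus
  have hdiag : ∀ X, mat X 1 0 = 0 ↔ t' * χ (bA K X) = χ (bA K X) * t' := by
    intro X
    obtain ⟨Y, hY0, hY1, -, hY⟩ := torus_conj K hl hd0 hd1 X
    have e : t' * χ (bA K X) = χ (bA K Y) * t' := by rw [ht', ← map_mul, hY, map_mul]
    rw [e]
    constructor
    · intro hX
      rw [two_ext K (A := Y) (B := X) hY0 (by rw [hY1, hX, mul_zero])]
    · intro h
      have hYX : Y = X := hχ.injA (mul_right_cancel h)
      rw [hYX] at hY1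
      by_contra hne
      exact hl1 (mul_right_cancel₀ hne (by rw [one_mul]; exact hY1.symm))
  have hβ : ∀ X, mat X 1 0 = 0 → mat (α.symm X) 1 0 = 0 := by
    intro X hX
    set Z := α.symm X with hZ
    obtain ⟨Y, hY0, hY1, hY, -⟩ := torus_conj K hl hd0 hd1 Z
    have e : t * ψ (bB K Z) = ψ (bB K Y) * t := by rw [ht, ← map_mul, hY, map_mul]
    have hαZ : α Z = X := by rw [hZ, MulEquiv.apply_symm_apply]
    have hcZ : t' * ψ (bB K Z) = ψ (bB K Z) * t' := by rw [← hα, hαZ]; exact (hdiag X).1 hX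
    have hcY : t' * ψ (bB K Y) = ψ (bB K Y) * t' := by
      have e' : ψ (bB K Y) = t * ψ (bB K Z) * t⁻¹ := by rw [e, mul_inv_cancel_right]
      have hc1 : Commute t' t := htt.symm
      rw [e']
      exact ((hc1.mul_right hcZ).mul_right hc1.inv_right).eq
    have hαY : mat (α Y) 1 0 = 0 := (hdiag _).2 (by rw [hα]; exact hcY)
    have hcomm : Z * Y = Y * Z := by
      apply α.injective
      rw [map_mul, map_mul, hαZ]
      refine two_ext K ?_ ?_
      · rw [(CfsgLib.Classical.Phan.two_mul K _ _).1, (CfsgLib.Classical.Phan.two_mul K _ _).1, hX, hαY]; simp [mul_comm]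
      · rw [(CfsgLib.Classical.Phan.two_mul K _ _).2, (CfsgLib.Classical.Phan.two_mul K _ _).2, hX, hαY]; simp
    have h0 := (CfsgLib.Classical.Phan.two_mul K Z Y).1
    rw [hcomm, (CfsgLib.Classical.Phan.two_mul K Y Z).1, hY0, hY1, map_mul] at h0
    have h1 : (mat Z 1 0 * K.bar (mat Z 1 0)) * (l - K.bar l) = 0 := by linear_combination h0
    exact (nm_eq_zero K).1 ((mul_eq_zero.1 h1).resolve_right (sub_ne_zero.2 (Ne.symm hl')))
  obtain ⟨τ, μ, hμ, hform⟩ := aut_small K hq α.symm hβ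
  have hαform : ∀ X, mat (α X) 0 0 = τ.symm (mat X 0 0) ∧
      mat (α X) 1 0 = τ.symm (μ⁻¹) * τ.symm (mat X 1 0) := by
    intro X
    have := hform (α X)
    rw [MulEquiv.symm_apply_apply] at this
    refine ⟨by rw [this.1, τ.symm_apply_apply], ?_⟩
    have hμ0 : μ ≠ 0 := fun e => by rw [e, nm_zero] at hμ; exact zero_ne_one hμ
    rw [this.2, ← map_mul, inv_mul_cancel_left₀ hμ0, τ.symm_apply_apply]
  have hμ' : nm K (τ.symm μ⁻¹) = 1 := by
    rw [nm, tau_bar K, ← map_mul, map_inv₀, ← mul_inv, show μ * K.bar μ = 1 from hμ, inv_one, map_one]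
  have hμ0' : τ.symm μ⁻¹ ≠ 0 := fun e => by rw [e, nm_zero] at hμ'; exact zero_ne_one hμ'
  set D : Fin 3 → Fˣ := ![1, Units.mk0 _ hμ0', Units.mk0 _ hμ0'] with hDdef
  have hD : ∀ i, nm K (D i : F) = 1 := fun i => by
    fin_cases i
    exacts [nm_one K, hμ', hμ']
  set T := tw K D hD τ.symm
  have hTA : ∀ X : SU 2 F q, T (bA K X) = bA K (α X) := by
    intro X
    obtain ⟨Z, hZ, z0, z1⟩ := tw_emb K (n := 3) (l := 0) (by norm_num) D hD τ.symm X
    have hZα : Z = α X := by
      refine two_ext K ?_ ?_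
      · rw [z0, (hαform X).1]
      · rw [z1, (hαform X).2]; simp [hDdef]
    rw [hZα] at hZ
    exact hZ
  refine ⟨χ.comp T, ⟨?_, ?_, ?_, ?_, ?_⟩, MonoidHom.ext fun X => ?_⟩
  · intro X Y e
    refine α.injective (hχ.injA ?_)
    simp only [MonoidHom.comp_apply] at e ⊢
    rwa [hTA, hTA] at e
  · intro X Y e
    obtain ⟨X', hX', -⟩ := tw_emb K h12 D hD τ.symm X
    obtain ⟨Y', hY', -⟩ := tw_emb K h12 D hD τ.symm Y
    refine emb_injective K h12 ((tw_bijective K D hD τ.symm).1 ?_)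
    rw [hX', hY']
    exact congrArg _ (hχ.injB (by simpa [MonoidHom.comp_apply, T, hX', hY'] using e))
  · rw [← hχ.rangeA]
    ext g
    constructor
    · rintro ⟨X, rfl⟩; exact ⟨α X, by simp [hTA]⟩
    · rintro ⟨X, rfl⟩; exact ⟨α.symm X, by simp [hTA]⟩
  · rw [← hχ.rangeB]
    have hmap : (bB K).range.map T = (bB K : SU 2 F q →* SU 3 F q).range := by
      refine Subgroup.eq_of_le_of_card_ge ?_ ?_
      · rintro _ ⟨_, ⟨X, rfl⟩, rfl⟩
        obtain ⟨X', hX', -⟩ := tw_emb K h12 D hD τ.symm X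
        exact ⟨X', hX'.symm⟩
      · rw [Subgroup.card_map_of_injective (tw_bijective K D hD τ.symm).1]
    rw [MonoidHom.range_comp, ← Subgroup.map_map, hmap, ← MonoidHom.range_comp]
  · rw [MonoidHom.range_comp, MonoidHom.range_eq_top.2 (tw_bijective K D hD τ.symm).2,
      ← MonoidHom.range_eq_map]
    exact hχ.range
  · simp [hTA, hα]

end CfsgLib.PhanSmall
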