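import Cfsg.Agent.Lib.PhanSmall.Four
import Cfsg.Agent.Lib.PhanSmall.Glue
import Cfsg.Agent.Lib.Schur.UnitaryFiveThree
import Cfsg.Agent.Lib.Classical.UnitaryOrder
import Cfsg.Agent.Lib.Classical.UnitarySimple

/-!
# A glued quotient of the four-dimensional group in standard position
-/

set_option autoImplicit false
set_option linter.unusedSectionVars false

open scoped commutatorElement

namespace CfsgLib.PhanSmall

open Matrix Cfsg
open CfsgLib.Classical.Herm
open CfsgLib.Classical.Phan hiding two_mul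
open CfsgLib.ClassicalAut (Unitary.Conj Unitary.space Unitary.herm_apply)

universe u

variable {F : Type u} [Field F] [Finite F] {q : ℕ} (K : Unitary.Conj F q) {G : Type*} [Group G]

include K in
/-- Proper normal subgroups in four dimensions are central. -/
theorem normal_central (N : Subgroup (SU 4 F q)) [N.Normal] (hN : N ≠ ⊤) :
    N ≤ Subgroup.center (SU 4 F q) := by
  cases nonempty_fintype F
  obtain ⟨p, k, hp, hk, hp', -⟩ := CfsgLib.Schur.UnitaryThree.exists_char K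
  haveI := Fact.mk hp
  haveI : IsSimpleGroup (PSU 4 F q) :=
    CfsgLib.Classical.Herm.isSimpleGroup K p (by norm_num) (fun h => absurd h.1 (by norm_num))
  set Z := Subgroup.center (SU 4 F q)
  have hsur : Function.Surjective (QuotientGroup.mk' Z) := QuotientGroup.mk'_surjective _
  rcases (Subgroup.Normal.map (inferInstance : N.Normal) _ hsur).eq_bot_or_eq_top with h | h
  · intro x hx
    rw [← QuotientGroup.ker_mk' Z, MonoidHom.mem_ker]
    exact Subgroup.mem_bot.1 (h ▸ Subgroup.mem_map_of_mem _ hx)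
  refine absurd (eq_top_iff.2 ?_) hN
  rw [← CfsgLib.Classical.Herm.commutator_eq_top K p (n := 4) (by norm_num)
    (fun h => absurd h.1 (by norm_num)), commutator_def, Subgroup.commutator_le]
  intro a _ b _
  have hd : ∀ x, ∃ n ∈ N, ∃ z ∈ Z, x = n * z := fun x => by
    obtain ⟨n, hn, hne⟩ : QuotientGroup.mk' Z x ∈ N.map (QuotientGroup.mk' Z) := h ▸ Subgroup.mem_top _
    exact ⟨n, hn, n⁻¹ * x, (QuotientGroup.eq).1 hne, by rw [mul_inv_cancel_left]⟩
  obtain ⟨n, hn, z, hz, rfl⟩ := hd a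
  have e : ⁅n * z, b⁆ = n * (b * n⁻¹ * b⁻¹) := by
    have c1 := Subgroup.mem_center_iff.1 hz
    rw [commutatorElement_def]
    calc n * z * b * (n * z)⁻¹ * b⁻¹ = n * (z * b) * z⁻¹ * n⁻¹ * b⁻¹ := by group
      _ = n * (b * z) * z⁻¹ * n⁻¹ * b⁻¹ := by rw [c1 b]
      _ = _ := by group
  rw [e]
  exact mul_mem hn ((inferInstance : N.Normal).conj_mem _ (inv_mem hn) b)

variable (hq : q = 2 ∨ q = 3)

include K hq in
/-- A block maps trivially into the centre. -/
theorem central_hom (f : SU 2 F q →* SU 4 F q) (hf : ∀ X, f X ∈ Subgroup.center (SU 4 F q))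
    (X : SU 2 F q) : f X = 1 := by
  obtain ⟨l, hl, hl'⟩ := exists_gen K
  obtain ⟨d, hd0, hd1⟩ := exists_two K (α := l) (β := (0 : F)) (by rw [hl, nm_zero, add_zero])
  have hsc : ∀ (i : ℕ) (X : SU 2 F q), ∃ c : F, app (f X) (bv i : Fin 4 → F) = c • bv i := fun i X => by
    obtain ⟨c, hc⟩ := (CfsgLib.Classical.Herm.center_iff K (by norm_num) _).1 (hf X)
    exact ⟨c, by rw [app, hc, Matrix.smul_mulVec, Matrix.one_mulVec]⟩
  refine eq_of_basis fun i hi => ?_
  rw [app_one]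
  exact line_fixed K hq hl hl' hd0 hd1 f hi (hsc i) X

include K hq in
/-- Lifts of a block along a central kernel agree. -/
theorem hom_eq_of_central {M : Type*} [Group M] (g : SU 4 F q →* M)
    (hg : g.ker ≤ Subgroup.center (SU 4 F q)) {a b : SU 2 F q →* SU 4 F q}
    (h : g.comp a = g.comp b) : a = b := by
  have hk : ∀ X, (a X)⁻¹ * b X ∈ Subgroup.center (SU 4 F q) := fun X => hg (by
    rw [MonoidHom.mem_ker, map_mul, map_inv, inv_mul_eq_one]; exact DFunLike.congr_fun h X)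
  let d : SU 2 F q →* SU 4 F q := MonoidHom.mk' (fun X => (a X)⁻¹ * b X) fun X Y => by
    show (a (X * Y))⁻¹ * b (X * Y) = (a X)⁻¹ * b X * ((a Y)⁻¹ * b Y)
    calc (a (X * Y))⁻¹ * b (X * Y) = (a Y)⁻¹ * ((a X)⁻¹ * b X) * b Y := by
          rw [map_mul, map_mul]; group
      _ = (a X)⁻¹ * b X * (a Y)⁻¹ * b Y := by rw [Subgroup.mem_center_iff.1 (hk X)]
      _ = _ := by group
  exact MonoidHom.ext fun X => inv_mul_eq_one.1 (central_hom K hq d hk X)

include K hq in
/-- Lifts of commuting blocks along a central kernel commute. -/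
theorem commute_of_central {M : Type*} [Group M] (g : SU 4 F q →* M)
    (hg : g.ker ≤ Subgroup.center (SU 4 F q)) (a b : SU 2 F q →* SU 4 F q)
    (h : ∀ X Y, Commute (g (a X)) (g (b Y))) (X Y : SU 2 F q) : Commute (a X) (b Y) := by
  have e : (MulAut.conj (b Y)).toMonoidHom.comp a = a := hom_eq_of_central K hq g hg
    (MonoidHom.ext fun X => by
      show g (b Y * a X * (b Y)⁻¹) = g (a X)
      rw [map_mul, map_mul, map_inv, ← (h X Y).eq, mul_inv_cancel_right])
  exact (mul_inv_eq_iff_eq_mul.1 (DFunLike.congr_fun e X)).symm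

include K hq in
/-- A homomorphism out of four dimensions restricting to two glued pairs. -/
theorem exists_four {A B C V W : Subgroup G} {ψ χ : SU 3 F q →* G} (hψ : Pair K ψ A B V)
    (hχ : Pair K χ B C W) (hglue : χ.comp (bA K) = ψ.comp (bB K))
    (hAC : ∀ x ∈ A, ∀ y ∈ C, x * y = y * x)
    (g₀ : SU 4 F q →* ↥(V ⊔ W)) (hg₀ : Function.Surjective g₀) :
    ∃ Φ : SU 4 F q →* G, Φ.comp (emb K h03) = ψ ∧ Φ.comp (emb K h14) = χ := by
  set g := g₀ with hgdef
  have hV : ∀ x, ψ x ∈ V ⊔ W := fun x => Subgroup.mem_sup_left (hψ.range ▸ ⟨x, rfl⟩)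
  have hW : ∀ x, χ x ∈ V ⊔ W := fun x => Subgroup.mem_sup_right (hχ.range ▸ ⟨x, rfl⟩)
  let ψ' : SU 3 F q →* ↥(V ⊔ W) := ψ.codRestrict _ hV
  let χ' : SU 3 F q →* ↥(V ⊔ W) := χ.codRestrict _ hW
  have hker : g.ker ≠ ⊤ := fun h => by
    obtain ⟨l, hl, hl'⟩ := exists_gen K
    obtain ⟨d, hd0, hd1⟩ := exists_two K (α := l) (β := (0 : F)) (by rw [hl, nm_zero, add_zero])
    obtain ⟨x, hx⟩ := hg₀ (ψ' (bA K d))
    have h1 : ψ' (bA K d) = 1 := by
      rw [← hx]; exact MonoidHom.mem_ker.1 (h ▸ Subgroup.mem_top x)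
    have h2 : d = 1 := hψ.injA ((congrArg Subtype.val h1).trans (map_one _).symm)
    exact hl' (by rw [← hd0, h2, (tone K).1, map_one])
  have hcen := normal_central K g.ker hker
  have hlift : ∀ f : SU 3 F q →* ↥(V ⊔ W), ∃ s : SU 3 F q →* SU 4 F q, g.comp s = f := by
    intro f
    rcases hq with h2 | h3
    · have hi : Function.Injective g := by
        rw [← MonoidHom.ker_eq_bot_iff, eq_bot_iff]
        refine hcen.trans (le_of_eq (Subgroup.eq_bot_of_card_eq _ ?_))
        rw [CfsgLib.Classical.Herm.card_center K (by norm_num), h2]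
        rfl
      exact ⟨(MulEquiv.ofBijective g ⟨hi, hg₀⟩).symm.toMonoidHom.comp f,
        MonoidHom.ext fun x => (MulEquiv.ofBijective g ⟨hi, hg₀⟩).apply_symm_apply (f x)⟩
    · exact CfsgLib.Schur.UnitaryPhan.exists_lift (CfsgLib.Schur.UnitaryThree.perfect K (by omega))
        (CfsgLib.Schur.UnitaryFiveThree.multiplier_three K h3) hg₀ hcen f
  obtain ⟨s, hs⟩ := hlift ψ'
  obtain ⟨s', hs'⟩ := hlift χ'
  have vs : ∀ x, ((g (s x) : ↥(V ⊔ W)) : G) = ψ x := fun x =>
    congrArg Subtype.val (DFunLike.congr_fun hs x)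
  have vs' : ∀ x, ((g (s' x) : ↥(V ⊔ W)) : G) = χ x := fun x =>
    congrArg Subtype.val (DFunLike.congr_fun hs' x)
  have hmid := hom_eq_of_central K hq g hcen (a := s.comp (bB K)) (b := s'.comp (bA K))
    (MonoidHom.ext fun X => Subtype.ext (by
      show ((g (s (bB K X)) : ↥(V ⊔ W)) : G) = ((g (s' (bA K X)) : ↥(V ⊔ W)) : G)
      rw [vs, vs']
      exact (DFunLike.congr_fun hglue X).symm))
  have hcomm := commute_of_central K hq g hcen (s.comp (bA K)) (s'.comp (bB K)) fun X Y =>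
    Subtype.ext (by
      show ((g (s (bA K X)) : ↥(V ⊔ W)) : G) * ((g (s' (bB K Y)) : ↥(V ⊔ W)) : G) = _ * _
      rw [MonoidHom.comp_apply, MonoidHom.comp_apply, vs, vs']
      exact hAC _ (hψ.rangeA ▸ ⟨X, rfl⟩) _ (hχ.rangeB ▸ ⟨Y, rfl⟩))
  have inj : ∀ (s : SU 3 F q →* SU 4 F q) (f : SU 3 F q →* G) (e : SU 2 F q →* SU 3 F q),
      (∀ x, ((g (s x) : ↥(V ⊔ W)) : G) = f x) → Function.Injective (f.comp e) →
      Function.Injective (s.comp e) := fun s f e he hf X Y h => hf (by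
    show f (e X) = f (e Y)
    rw [← he, ← he]
    exact congrArg (fun z => ((g z : ↥(V ⊔ W)) : G)) h)
  obtain ⟨θ, -, h0, h1⟩ := exists_position K hq s s' (inj s ψ _ vs hψ.injA) (inj s ψ _ vs hψ.injB)
    (inj s' χ _ vs' hχ.injB) (fun X => DFunLike.congr_fun hmid X) hcomm
  refine ⟨(Subgroup.subtype _).comp (g.comp θ), MonoidHom.ext fun x => ?_, MonoidHom.ext fun x => ?_⟩
  · show ((g ((θ.comp (emb K h03)) x) : ↥(V ⊔ W)) : G) = ψ x
    rw [h0, vs]
  · show ((g ((θ.comp (emb K h14)) x) : ↥(V ⊔ W)) : G) = χ x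
    rw [h1, vs']

end CfsgLib.PhanSmall
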