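import Cfsg.Agent.Lib.PhanSmall.Moves

/-!
# Systems over the coordinate intervals of length two and three, glued along four
-/

set_option autoImplicit false
set_option linter.unusedSectionVars false

namespace CfsgLib.PhanSmall

open Matrix Cfsg
open CfsgLib.Classical.Herm
open CfsgLib.Classical.Phan hiding Fix Sys
open CfsgLib.ClassicalAut (Unitary.Conj Unitary.space Unitary.herm_apply)

local notation "PFix" => CfsgLib.Classical.Phan.Fix

variable {F : Type*} [Field F] [Finite F] {q : ℕ} (K : Unitary.Conj F q) {n : ℕ}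

local notation "H" => hermForm n F q

include K in
/-- Norm one vectors of an interval, reached through the first three coordinates. -/
theorem exists_reach {k b : ℕ} (hk : k + 3 ≤ b) (hb : b ≤ n) {v : Fin n → F} (hv : v ∈ W k)
    (h1 : H v v = 1) (hs : ∀ i, b ≤ i → cd v i = 0) :
    ∃ g ∈ (Blk (k + 1) b : Subgroup (SU n F q)), ∃ t ∈ (Blk k (k + 3) : Subgroup (SU n F q)),
      app (g * t) (bv k : Fin n → F) = v := by
  obtain ⟨g, hg, hgv⟩ := exists_push K (j := k + 1) b hb v hs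
  set w := app g v with hw
  have hwW : w ∈ W k := Fix_app_W K (Blk_le_Fix (Nat.le_succ k) hg) hv
  have hw0 : ∀ i, k + 3 ≤ i → cd w i = 0 := fun i hi => hgv i (by omega)
  have hn := norm_range K 3 hwW hw0
  rw [hw, h_app, h1, ← hw, Finset.sum_range_succ, Finset.sum_range_succ, Finset.sum_range_one,
    add_zero] at hn
  obtain ⟨A, hA⟩ := exists_sphere_three K (v := ![cd w k, cd w (k + 1), cd w (k + 2)])
    (by rw [herm_three K]; exact hn.symm)
  refine ⟨g⁻¹, inv_mem hg, emb K (show k + 3 ≤ n by omega) A, emb_mem_Blk K _ A, ?_⟩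
  rw [app_mul]
  have : app (emb K (show k + 3 ≤ n by omega) A) (bv k : Fin n → F) = w := by
    refine emb_three K _ A (x := bv 0) (fun a => ?_) (fun a => ?_) fun i hi => ?_
    · rw [cd_bv, bv_apply]
      fin_cases a <;> simp [show k < n by omega]
    · rw [hA]; fin_cases a <;> rfl
    · rw [cd_bv, if_neg (by omega)]
      rcases hi with hi | hi
      exacts [mem_W.1 hwW i hi, hw0 i hi]
  rw [this, hw, app_inv]

/-! ### Systems -/

/-- The admissible intervals. -/
def Ok (n a b : ℕ) : Prop := a + 2 ≤ b ∧ b ≤ a + 3 ∧ b ≤ n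

/-- Subgroups over the intervals of length two and three, glued along four. -/
structure Sys4 (G : Type*) [Group G] (n : ℕ) where
  /-- the projection -/
  π : G →* SU n F q
  /-- the subgroups -/
  B : ℕ → ℕ → Subgroup G
  mapB : ∀ a b, Ok n a b → (B a b).map π = Blk a b
  mono : ∀ a b a' b', Ok n a b → Ok n a' b' → a' ≤ a → b ≤ b' → B a b ≤ B a' b'
  comm : ∀ a b c d, Ok n a b → Ok n c d → b ≤ c → ∀ x ∈ B a b, ∀ y ∈ B c d, Commute x y
  injW : ∀ a, a + 4 ≤ n → Set.InjOn π (↑(B a (a + 3) ⊔ B (a + 1) (a + 4)) : Set G)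

variable {G : Type*} [Group G] (S : Sys4 (F := F) (q := q) G n) {k : ℕ}

namespace Sys4

/-- The subgroup of the indices at least `k`. -/
def L (k : ℕ) : Subgroup G := ⨆ (a) (b) (_ : k ≤ a ∧ Ok n a b), S.B a b

theorem B_le_L {k a b : ℕ} (h : k ≤ a) (h' : Ok n a b) : S.B a b ≤ S.L k :=
  le_iSup_of_le a (le_iSup₂_of_le b ⟨h, h'⟩ le_rfl)

theorem L_le {k : ℕ} {M : Subgroup G} (h : ∀ a b, k ≤ a → Ok n a b → S.B a b ≤ M) : S.L k ≤ M :=
  iSup_le fun a => iSup₂_le fun b hb => h a b hb.1 hb.2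

theorem L_anti {j k : ℕ} (h : j ≤ k) : S.L k ≤ S.L j :=
  S.L_le fun _ _ ha hok => S.B_le_L (h.trans ha) hok

theorem mem_Blk {a b : ℕ} (h : Ok n a b) {x : G} (hx : x ∈ S.B a b) : S.π x ∈ Blk a b :=
  S.mapB a b h ▸ Subgroup.mem_map_of_mem _ hx

theorem lift {a b : ℕ} (h : Ok n a b) {g : SU n F q} (hg : g ∈ Blk a b) :
    ∃ x ∈ S.B a b, S.π x = g := by
  rw [← S.mapB a b h] at hg; exact hg

include K in
theorem lift_el {j : ℕ} (hj : j + 2 ≤ n) {α β : F} (h : nm K α + nm K β = 1) :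
    ∃ x ∈ S.B j (j + 2), IsEl K (S.π x) j α β := by
  obtain ⟨g, hg⟩ := exists_el K (show j + 1 < n by omega) h
  obtain ⟨x, hx, rfl⟩ := S.lift (show Ok n j (j + 2) from ⟨le_rfl, by omega, hj⟩) hg.1
  exact ⟨x, hx, hg⟩

theorem mem_Fix {k : ℕ} {x : G} (hx : x ∈ S.L k) : S.π x ∈ PFix k := by
  have : S.L k ≤ (PFix k).comap S.π :=
    S.L_le fun a b ha hok y hy => Blk_le_Fix ha (S.mem_Blk hok hy)
  exact this hx

theorem comm_L {a b c : ℕ} (h : Ok n a b) (hbc : b ≤ c) {x : G} (hx : x ∈ S.B a b) {y : G}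
    (hy : y ∈ S.L c) : Commute x y := by
  have : S.L c ≤ Subgroup.centralizer {x} := S.L_le fun a' b' ha' hok z hz => by
    rw [Subgroup.mem_centralizer_singleton_iff]
    exact (S.comm a b a' b' h hok (hbc.trans ha') x hx z hz).eq.symm
  exact (Subgroup.mem_centralizer_singleton_iff.1 (this hy)).symm

/-- The subgroup of a window of four. -/
def win (k : ℕ) : Subgroup G := S.B k (k + 3) ⊔ S.B (k + 1) (k + 4)

theorem win_Blk (hk : k + 4 ≤ n) {x : G} (hx : x ∈ S.win k) : S.π x ∈ Blk k (k + 4) := by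
  have : S.win k ≤ (Blk k (k + 4)).comap S.π :=
    sup_le (fun y hy => Blk_mono le_rfl (by omega) (S.mem_Blk ⟨by omega, le_rfl, by omega⟩ hy))
      (fun y hy => Blk_mono (by omega) le_rfl (S.mem_Blk ⟨by omega, le_rfl, by omega⟩ hy))
  exact this hx

theorem B_le_win (hk : k + 4 ≤ n) {a b : ℕ} (h : Ok n a b) (ha : k ≤ a) (hb : b ≤ k + 4) :
    S.B a b ≤ S.win k := by
  by_cases hb' : b ≤ k + 3
  · exact (S.mono a b k (k + 3) h ⟨by omega, le_rfl, by omega⟩ ha hb').trans le_sup_left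
  · have := h.1; have := h.2.1
    exact (S.mono a b (k + 1) (k + 4) h ⟨by omega, le_rfl, by omega⟩ (by omega) hb).trans le_sup_right

include K in
theorem win_fix (hk : k + 4 ≤ n) {x : G} (hx : x ∈ S.win k)
    (h : app (S.π x) (bv k : Fin n → F) = bv k) : x ∈ S.L (k + 1) := by
  have hB : S.π x ∈ Blk (k + 1) (k + 4) := fun i hi => by
    by_cases e : i = k
    · rw [e]; exact h
    · exact S.win_Blk hk hx i (by omega)
  obtain ⟨y, hy, hyx⟩ := S.lift (show Ok n (k + 1) (k + 4) from ⟨by omega, le_rfl, hk⟩) hB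
  rw [← S.injW k hk (SetLike.mem_coe.2 (Subgroup.mem_sup_right hy)) (SetLike.mem_coe.2 hx) hyx]
  exact S.B_le_L le_rfl ⟨by omega, le_rfl, hk⟩ hy

include K in
/-- The subgroup on the indices at least `k` covers the stabiliser of the smaller ones. -/
theorem surj (k : ℕ) : ∀ g ∈ (PFix k : Subgroup (SU n F q)), ∃ x ∈ S.L k, S.π x = g := by
  induction hm : n - k generalizing k with
  | zero => exact fun g hg => ⟨1, one_mem _, by rw [map_one, Fix_top K (by omega) hg]⟩
  | succ m ih =>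
    intro g hg
    by_cases hk1 : k + 2 ≤ n
    swap
    · exact ⟨1, one_mem _, by rw [map_one, Fix_top K (by omega) hg]⟩
    by_cases hk : k + 3 ≤ n
    swap
    · have hok : Ok n k (k + 2) := ⟨le_rfl, by omega, hk1⟩
      obtain ⟨x, hx, hxe⟩ := S.lift hok (g := g) fun i hi => by
        by_cases h' : i < k
        · exact hg i h'
        · rw [bv, dif_neg (by omega), app_zero']
      exact ⟨x, S.B_le_L le_rfl hok hx, hxe⟩
    set v := app g (bv k : Fin n → F) with hvdef
    obtain ⟨l, hl, t, ht, hlt⟩ := exists_reach K hk le_rfl (v := v) (Fix_app_W K hg (bv_mem_W le_rfl))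
      (by rw [hvdef, h_app, h_bv K, cd_bv, if_pos ⟨rfl, by omega⟩]) fun i hi => by simp [cd, not_lt.2 hi]
    obtain ⟨x, hx, rfl⟩ := ih (k + 1) (by omega) l (Blk_le_Fix le_rfl hl)
    have hok : Ok n k (k + 3) := ⟨by omega, le_rfl, hk⟩
    obtain ⟨y, hy, rfl⟩ := S.lift hok ht
    have hyL : x * y ∈ S.L k := mul_mem (S.L_anti (by omega) hx) (S.B_le_L le_rfl hok hy)
    rw [← map_mul] at hlt
    have hF : (S.π (x * y))⁻¹ * g ∈ (PFix (k + 1) : Subgroup (SU n F q)) := fun i hi => by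
      by_cases e : i = k
      · subst e; rw [app_mul, ← hvdef, ← hlt, app_inv]
      · exact mul_mem (inv_mem (S.mem_Fix hyL)) hg i (by omega)
    obtain ⟨z, hz, hze⟩ := ih (k + 1) (by omega) _ hF
    exact ⟨x * y * z, mul_mem hyL (S.L_anti (by omega) hz), by rw [map_mul, hze, mul_inv_cancel_left]⟩

/-! ### One level -/

/-- A representative of a norm one vector. -/
def Rep (k : ℕ) (v : Fin n → F) (g : G) : Prop :=
  ∃ l ∈ S.L (k + 1), ∃ t ∈ S.B k (k + 3), g = l * t ∧ app (S.π g) (bv k : Fin n → F) = v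

variable (hk : k + 5 ≤ n) (hP : Set.InjOn S.π (↑(S.L (k + 1)) : Set G))

include K hk hP in
theorem conj_stab {t : G} (ht : t ∈ S.B k (k + 3)) {y : G} (hy : y ∈ S.L (k + 1))
    (hfix : app (S.π y) (app (S.π t) (bv k : Fin n → F)) = app (S.π t) (bv k)) :
    t⁻¹ * y * t ∈ S.L (k + 1) := by
  have hok3 : Ok n k (k + 3) := ⟨by omega, le_rfl, by omega⟩
  have hok2 : Ok n k (k + 2) := ⟨le_rfl, by omega, by omega⟩
  set w := app (S.π t) (bv k : Fin n → F) with hw
  have htB := S.mem_Blk hok3 ht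
  have hwW : w ∈ W k := Fix_app_W K (Blk_le_Fix le_rfl htB) (bv_mem_W le_rfl)
  have hw0 : ∀ i, k + 3 ≤ i → cd w i = 0 := fun i hi => by
    rw [hw, Blk_cd K htB _ (.inr hi), cd_bv, if_neg (by omega)]
  have hn := norm_range K 3 hwW hw0
  rw [hw, h_app, h_bv K, cd_bv, if_pos ⟨rfl, by omega⟩, ← hw, Finset.sum_range_succ,
    Finset.sum_range_succ, Finset.sum_range_one, add_zero] at hn
  set a := cd w k with ha
  set ρ := cd w (k + 1) with hρ
  set σ := cd w (k + 2) with hσ
  have htW : t ∈ S.win k := Subgroup.mem_sup_left ht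
  have hyk : app (S.π y) (bv k : Fin n → F) = bv k := S.mem_Fix hy k (Nat.lt_succ_self k)
  by_cases hs : nm K ρ + nm K σ = 0
  swap
  · -- a non-null tail
    obtain ⟨c, hc⟩ := exists_nm K (s := nm K ρ + nm K σ) (by rw [map_add, bar_nm, bar_nm])
    have hc0 : c ≠ 0 := fun e => hs (by rw [← hc, e, nm_zero])
    obtain ⟨α, β, g1, g2, g3⟩ := exists_el_move K (b := c) (c := (0 : F)) (b' := ρ) (c' := σ)
      (by rwa [nm_zero, add_zero, hc]) (by rw [nm_zero, add_zero, hc])
    obtain ⟨u, hu, hue⟩ := S.lift_el K (show k + 1 + 2 ≤ n by omega) g1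
    obtain ⟨u', hu', hu'e⟩ := S.lift_el K (show k + 2 ≤ n by omega) (α := a) (β := c)
      (by rw [hc, ← add_assoc]; exact hn.symm)
    set p : Fin n → F := a • bv k + c • bv (k + 1) with hp
    have hup : app (S.π u) p = w := by
      refine ext_cd fun i hi => ?_
      by_cases e1 : i = k + 1
      · subst e1
        rw [(hue.2.2 p).1, hp]
        simp [cd_add, cd_smul, cd_bv, show k + 1 < n by omega, show k + 1 + 1 < n by omega,
          show ¬ k + 1 + 1 = k by omega]
        simpa using g2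
      by_cases e2 : i = k + 2
      · subst e2
        rw [show k + 2 = k + 1 + 1 by omega, (hue.2.2 p).2, hp]
        simp [cd_add, cd_smul, cd_bv, show k + 1 < n by omega, show k + 1 + 1 < n by omega,
          show ¬ k + 1 + 1 = k by omega]
        simpa using g3
      rw [hue.cd_ne K p e1 (by omega), hp, cd_add, cd_smul, cd_smul, cd_bv, cd_bv]
      by_cases e0 : i = k
      · subst e0; rw [if_pos ⟨rfl, hi⟩, if_neg (by omega), mul_one, mul_zero, add_zero]
      rw [if_neg (fun c => e0 c.1), if_neg (fun c => e1 c.1), mul_zero, mul_zero, add_zero]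
      rcases (show i < k ∨ k + 3 ≤ i by omega) with h' | h'
      exacts [(mem_W.1 hwW i h').symm, (hw0 i h').symm]
    have hu'p : app (S.π u') (bv k : Fin n → F) = p := hu'e.2.1
    have huP : u ∈ S.L (k + 1) := S.B_le_L le_rfl ⟨le_rfl, by omega, by omega⟩ hu
    have ht0 : u'⁻¹ * u⁻¹ * t ∈ S.L (k + 1) := by
      refine S.win_fix K (by omega) (mul_mem (mul_mem (inv_mem ?_) (inv_mem ?_)) htW) ?_
      · exact S.B_le_win (by omega) hok2 le_rfl (by omega) hu'
      · exact S.B_le_win (by omega) ⟨le_rfl, by omega, by omega⟩ (by omega) (by omega) hu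
      · rw [map_mul, app_mul, map_mul, app_mul, ← hw, ← hup, map_inv, map_inv, app_inv, ← hu'p,
          app_inv]
    set s := u⁻¹ * y * u with hsdef
    have hsP : s ∈ S.L (k + 1) := mul_mem (mul_mem (inv_mem huP) hy) huP
    have hsp : app (S.π s) p = p := by
      rw [hsdef, map_mul, map_mul, app_mul, app_mul, hup, hfix, ← hup, map_inv, app_inv]
    have hsk : app (S.π s) (bv k : Fin n → F) = bv k := S.mem_Fix hsP k (Nat.lt_succ_self k)
    have hsF : S.π s ∈ (PFix (k + 2) : Subgroup (SU n F q)) := fun i hi => by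
      by_cases e : i = k + 1
      · subst e
        rw [hp, app_add, app_smul, app_smul, hsk] at hsp
        have := congrArg (fun x => c⁻¹ • x) (add_left_cancel hsp)
        simpa [smul_smul, inv_mul_cancel₀ hc0] using this
      · exact S.mem_Fix hsP i (by omega)
    obtain ⟨z, hz, hze⟩ := S.surj K (k + 2) _ hsF
    have hzs : z = s := hP (SetLike.mem_coe.2 (S.L_anti (Nat.le_succ _) hz)) (SetLike.mem_coe.2 hsP) hze
    have hcs : Commute u' s := S.comm_L hok2 le_rfl hu' (hzs ▸ hz)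
    have e : t⁻¹ * y * t = (u'⁻¹ * u⁻¹ * t)⁻¹ * s * (u'⁻¹ * u⁻¹ * t) := by
      calc t⁻¹ * y * t = (u'⁻¹ * u⁻¹ * t)⁻¹ * (u'⁻¹ * (s * u')) * (u'⁻¹ * u⁻¹ * t) := by
            rw [hsdef]; group
        _ = _ := by rw [← hcs.eq, inv_mul_cancel_left]
    rw [e]
    exact mul_mem (mul_mem (inv_mem ht0) hsP) ht0
  by_cases hρ0 : ρ = 0
  · -- no tail
    have hσ0 : σ = 0 := (nm_eq_zero K).1 (by rwa [hρ0, nm_zero, zero_add] at hs)
    obtain ⟨d, hd, hde⟩ := S.lift_el K (show k + 2 ≤ n by omega) (α := a) (β := (0 : F))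
      (by rw [hρ0, hσ0, nm_zero, add_zero, add_zero] at hn; rw [nm_zero, add_zero]; exact hn.symm)
    have hdk : app (S.π d) (bv k : Fin n → F) = a • bv k := by
      rw [hde.2.1, zero_smul, add_zero]
    have hwa : w = a • bv k := ext_cd fun i hi => by
      rw [cd_smul, cd_bv]
      by_cases e0 : i = k
      · subst e0; rw [if_pos ⟨rfl, hi⟩, mul_one]
      rw [if_neg (fun c => e0 c.1), mul_zero]
      rcases (show i < k ∨ i = k + 1 ∨ i = k + 2 ∨ k + 3 ≤ i by omega) with h' | rfl | rfl | h'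
      exacts [mem_W.1 hwW i h', hρ0, hσ0, hw0 i h']
    have hdW : d ∈ S.win k := S.B_le_win (by omega) hok2 le_rfl (by omega) hd
    have ht0 : d⁻¹ * t ∈ S.L (k + 1) := by
      refine S.win_fix K (by omega) (mul_mem (inv_mem hdW) htW) ?_
      rw [map_mul, app_mul, ← hw, hwa, ← hdk, map_inv, app_inv]
    have hnorm : S.L (k + 1) ≤ (S.L (k + 1)).comap (MulAut.conj d⁻¹).toMonoidHom := by
      refine S.L_le fun a' b' ha' hok z hz => ?_
      show d⁻¹ * z * d⁻¹⁻¹ ∈ S.L (k + 1)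
      rw [inv_inv]
      by_cases h' : k + 2 ≤ a'
      · have hc : Commute d z := S.comm k (k + 2) a' b' hok2 hok h' d hd z hz
        rw [mul_assoc, ← hc.eq, inv_mul_cancel_left]
        exact S.B_le_L ha' hok hz
      · have := hok.2.1
        refine S.win_fix K (by omega) (mul_mem (mul_mem (inv_mem hdW)
          (S.B_le_win (by omega) hok (by omega) (by omega) hz)) hdW) ?_
        rw [map_mul, map_mul, app_mul, app_mul, hdk, app_smul,
          S.mem_Blk hok hz k (.inl (by omega)), ← hdk, map_inv, app_inv]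
    have hdy : d⁻¹ * y * d⁻¹⁻¹ ∈ S.L (k + 1) := hnorm hy
    rw [inv_inv] at hdy
    have e : t⁻¹ * y * t = (d⁻¹ * t)⁻¹ * (d⁻¹ * y * d) * (d⁻¹ * t) := by group
    rw [e]
    exact mul_mem (mul_mem (inv_mem ht0) hdy) ht0
  -- a null tail
  set r := w - a • bv k with hr
  have hrk : ∀ {g : SU n F q}, g ∈ PFix (k + 1) → app g r = r → app g w = w := fun {g} hg h' => by
    rw [show w = r + a • bv k by rw [hr, sub_add_cancel], app_add, app_smul, h', hg k (Nat.lt_succ_self k)]
  have hrc : ∀ i, cd r i = cd w i - a * (if i = k ∧ i < n then 1 else 0) := fun i => by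
    rw [hr, cd_sub, cd_smul, cd_bv]
  have hr1 : cd r (k + 1) = ρ := by rw [hrc, if_neg (by omega), mul_zero, sub_zero]
  have hr2 : cd r (k + 1 + 1) = σ := by
    rw [hrc, if_neg (by omega), mul_zero, sub_zero]
  have hrz : ∀ i, i ≠ k + 1 → i ≠ k + 1 + 1 → cd r i = 0 := fun i h1 h2 => by
    rw [hrc]
    by_cases e0 : i = k
    · subst e0; rw [if_pos ⟨rfl, by omega⟩, mul_one, ha, sub_self]
    rw [if_neg (fun c => e0 c.1), mul_zero, sub_zero]
    rcases (show i < k ∨ k + 3 ≤ i by omega) with h' | h'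
    exacts [mem_W.1 hwW i h', hw0 i h']
  have hyr : app (S.π y) r = r := by rw [hr, app_sub', app_smul, hfix, hyk]
  let A := (S.L (k + 1)).comap (MulAut.conj t⁻¹).toMonoidHom
  have hA : ∀ z, z ∈ A ↔ t⁻¹ * z * t ∈ S.L (k + 1) := fun z => by
    show t⁻¹ * z * t⁻¹⁻¹ ∈ S.L (k + 1) ↔ _
    rw [inv_inv]
  have hmem : S.π y ∈ (S.L (k + 1) ⊓ A).map S.π := by
    refine null_stab_mem K (j := k + 1) (by omega) hrz (by rw [hr1, hr2]; exact hs)
      (by rw [hr1]; exact hρ0) _ (fun g hg hgr => ?_) (fun g hg => ?_) (S.mem_Fix hy) hyr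
    · have hok : Ok n (k + 1) (k + 1 + 3) := ⟨by omega, le_rfl, by omega⟩
      obtain ⟨z, hz, rfl⟩ := S.lift hok hg
      refine Subgroup.mem_map_of_mem _ ⟨S.B_le_L le_rfl hok hz, (hA z).2 ?_⟩
      refine S.win_fix K (by omega) (mul_mem (mul_mem (inv_mem htW) (Subgroup.mem_sup_right hz)) htW) ?_
      rw [map_mul, map_mul, app_mul, app_mul, ← hw, hrk (Blk_le_Fix le_rfl hg) hgr, hw, map_inv,
        app_inv]
    · obtain ⟨z, hz, rfl⟩ := S.surj K (k + 1 + 2) g hg
      refine Subgroup.mem_map_of_mem _ ⟨S.L_anti (by omega) hz, (hA z).2 ?_⟩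
      rw [mul_assoc, ← (S.comm_L hok3 (by omega) ht hz).eq, inv_mul_cancel_left]
      exact S.L_anti (by omega) hz
  obtain ⟨z, hz, hze⟩ := hmem
  obtain ⟨hz1, hz2⟩ := hz
  rw [← hP (SetLike.mem_coe.2 hz1) (SetLike.mem_coe.2 hy) hze]
  exact (hA z).1 hz2

include K hk hP in
theorem rep_unique {v : Fin n → F} {g g' : G} (hg : S.Rep k v g) (hg' : S.Rep k v g') :
    g⁻¹ * g' ∈ S.L (k + 1) := by
  obtain ⟨l, hl, t, ht, rfl, he⟩ := hg
  obtain ⟨l', hl', t', ht', rfl, he'⟩ := hg'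
  have hok3 : Ok n k (k + 3) := ⟨by omega, le_rfl, by omega⟩
  set y := l'⁻¹ * l with hydef
  have hyP : y ∈ S.L (k + 1) := mul_mem (inv_mem hl') hl
  have hyF := S.mem_Fix hyP
  set w := app (S.π t) (bv k : Fin n → F) with hw
  set w' := app (S.π t') (bv k : Fin n → F) with hw'
  have hyw : app (S.π y) w = w' := by
    rw [map_mul, app_mul] at he he'
    rw [hydef, map_mul, app_mul, hw, he, ← he', map_inv, app_inv]
  have supp : ∀ {u : G}, u ∈ S.B k (k + 3) → ∀ i, (i < k ∨ k + 3 ≤ i) →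
      cd (app (S.π u) (bv k : Fin n → F)) i = 0 := fun {u} hu i hi => by
    rw [Blk_cd K (S.mem_Blk hok3 hu) _ hi, cd_bv, if_neg (by omega)]
  have norm3 : ∀ {u : G}, u ∈ S.B k (k + 3) →
      nm K (cd (app (S.π u) (bv k : Fin n → F)) k) + nm K (cd (app (S.π u) (bv k : Fin n → F)) (k + 1)) +
        nm K (cd (app (S.π u) (bv k : Fin n → F)) (k + 2)) = 1 := fun {u} hu => by
    have hn := norm_range K 3 (mem_W.2 fun i hi => supp hu i (.inl hi))
      (fun i hi => supp hu i (.inr hi))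
    rw [h_app, h_bv K, cd_bv, if_pos ⟨rfl, by omega⟩, Finset.sum_range_succ, Finset.sum_range_succ,
      Finset.sum_range_one, add_zero] at hn
    exact hn.symm
  have hak : cd w' k = cd w k := by
    rw [← hyw, cd_app_of_fix K (hyF k (Nat.lt_succ_self k))]
  have hnw := norm3 ht
  have hnw' := norm3 ht'
  rw [← hw] at hnw
  rw [← hw', hak] at hnw'
  have hout : ∀ i, i < k + 1 ∨ k + 1 + 3 ≤ i → cd w' i = cd w i := fun i hi => by
    by_cases e : i = k
    · rw [e]; exact hak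
    · rw [hw, hw', supp ht i (by omega), supp ht' i (by omega)]
  have hfin : ∀ {z : G}, z ∈ S.B (k + 1) (k + 1 + 3) → app (S.π z) w = w' →
      (l * t)⁻¹ * (l' * t') ∈ S.L (k + 1) := fun {z} hz hzw => by
    have hok : Ok n (k + 1) (k + 1 + 3) := ⟨by omega, le_rfl, by omega⟩
    have hzP : z ∈ S.L (k + 1) := S.B_le_L le_rfl hok hz
    have h1 : t'⁻¹ * z * t ∈ S.L (k + 1) := by
      refine S.win_fix K (by omega) (mul_mem (mul_mem (inv_mem (Subgroup.mem_sup_left ht'))
        (Subgroup.mem_sup_right hz)) (Subgroup.mem_sup_left ht)) ?_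
      rw [map_mul, map_mul, app_mul, app_mul, ← hw, hzw, hw', map_inv, app_inv]
    have h2 : t⁻¹ * (z⁻¹ * y) * t ∈ S.L (k + 1) := by
      refine S.conj_stab K hk hP ht (mul_mem (inv_mem hzP) hyP) ?_
      rw [map_mul, app_mul, ← hw, hyw, ← hzw, map_inv, app_inv]
    have e : (l * t)⁻¹ * (l' * t') = ((t'⁻¹ * z * t) * (t⁻¹ * (z⁻¹ * y) * t))⁻¹ := by
      rw [hydef]; group
    rw [e]
    exact inv_mem (mul_mem h1 h2)
  by_cases hs : nm K (cd w (k + 1)) + nm K (cd w (k + 2)) = 0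
  · by_cases hρ0 : cd w (k + 1) = 0
    · have hσ0 : cd w (k + 2) = 0 := (nm_eq_zero K).1 (by rwa [hρ0, nm_zero, zero_add] at hs)
      refine hfin (one_mem _) ?_
      rw [map_one, app_one, ← hyw]
      refine (fix_of_supp fun i hi hne => hyF i ?_).symm
      by_contra hc
      rcases (show i = k + 1 ∨ i = k + 2 ∨ k + 3 ≤ i by omega) with rfl | rfl | h'
      exacts [hne hρ0, hne hσ0, hne (supp ht i (.inr h'))]
    have hρ0' : cd w' (k + 1) ≠ 0 := by
      intro e
      have hσ' : cd w' (k + 2) = 0 :=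
        (nm_eq_zero K).1 (by rw [e, nm_zero] at hnw'; linear_combination hnw' - hnw + hs)
      refine hρ0 ?_
      have : app (S.π y⁻¹) w' = w' := fix_of_supp fun i hi hne => S.mem_Fix (inv_mem hyP) i (by
        by_contra hc
        rcases (show i = k + 1 ∨ i = k + 2 ∨ k + 3 ≤ i by omega) with rfl | rfl | h'
        exacts [hne e, hne hσ', hne (supp ht' i (.inr h'))])
      conv_lhs at this => rw [← hyw, map_inv, app_inv]
      rw [this]; exact e
    obtain ⟨g, hg, hgw⟩ := exists_null_move K (show k + 1 + 3 ≤ n by omega) (v := w) (w := w')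
      (by rw [show k + 1 + 1 = k + 2 by omega]; exact hs) hρ0 (supp ht _ (.inr (by omega)))
      (by rw [show k + 1 + 1 = k + 2 by omega]; linear_combination hnw' - hnw + hs) hρ0'
      (supp ht' _ (.inr (by omega))) hout
    obtain ⟨z, hz, rfl⟩ := S.lift (show Ok n (k + 1) (k + 1 + 3) from ⟨by omega, le_rfl, by omega⟩) hg
    exact hfin hz hgw
  · obtain ⟨α, β, g1, g2, g3⟩ := exists_el_move K (b := cd w (k + 1)) (c := cd w (k + 2))
      (b' := cd w' (k + 1)) (c' := cd w' (k + 2)) hs (by linear_combination hnw' - hnw)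
    obtain ⟨z, hz, hze⟩ := S.lift_el K (show k + 1 + 2 ≤ n by omega) g1
    refine hfin (S.mono _ _ _ _ ⟨le_rfl, by omega, by omega⟩ ⟨by omega, le_rfl, by omega⟩ le_rfl
      (by omega) hz) (ext_cd fun i _ => ?_)
    by_cases e1 : i = k + 1
    · subst e1; rw [(hze.2.2 w).1]; exact g2
    by_cases e2 : i = k + 2
    · subst e2; rw [show k + 2 = k + 1 + 1 by omega, (hze.2.2 w).2]; exact g3
    rw [hze.cd_ne K w e1 (by omega)]
    by_cases e3 : i < k + 1 ∨ k + 1 + 3 ≤ i
    · exact (hout i e3).symm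
    · rw [hw, hw', supp ht i (by omega), supp ht' i (by omega)]

include K hk in
theorem exists_rep {v : Fin n → F} (hv : v ∈ W k) (h1 : H v v = 1) : ∃ g, S.Rep k v g := by
  obtain ⟨l, hl, t, ht, hlt⟩ := exists_reach K (show k + 3 ≤ n by omega) le_rfl hv h1
    fun i hi => by simp [cd, not_lt.2 hi]
  obtain ⟨x, hx, rfl⟩ := S.surj K (k + 1) l (Blk_le_Fix le_rfl hl)
  obtain ⟨y, hy, rfl⟩ := S.lift (show Ok n k (k + 3) from ⟨by omega, le_rfl, by omega⟩) ht
  exact ⟨x * y, x, hx, y, hy, rfl, by rw [map_mul]; exact hlt⟩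

include K hk hP in
/-- Inside a window every element represents the image of the axis. -/
theorem rep_win {u : Fin n → F} (hs : ∀ i, k + 4 ≤ i → cd u i = 0) {g g' : G} (hg : S.Rep k u g)
    (hg' : g' ∈ S.win k) (he : app (S.π g') (bv k : Fin n → F) = u) : g⁻¹ * g' ∈ S.L (k + 1) := by
  have hFg := Blk_le_Fix (le_refl k) (S.win_Blk (show k + 4 ≤ n by omega) hg')
  obtain ⟨l, hl, t, ht, hlt⟩ := exists_reach K (show k + 3 ≤ k + 4 by omega) (show k + 4 ≤ n by omega)
    (v := u) (he ▸ Fix_app_W K hFg (bv_mem_W le_rfl))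
    (by rw [← he, h_app, h_bv K, cd_bv, if_pos ⟨rfl, by omega⟩]) hs
  have hok : Ok n (k + 1) (k + 4) := ⟨by omega, le_rfl, by omega⟩
  obtain ⟨x, hx, rfl⟩ := S.lift hok hl
  obtain ⟨y, hy, rfl⟩ := S.lift (show Ok n k (k + 3) from ⟨by omega, le_rfl, by omega⟩) ht
  rw [← map_mul] at hlt
  have h1 := S.rep_unique K hk hP hg ⟨x, S.B_le_L le_rfl hok hx, y, hy, rfl, hlt⟩
  have h2 : (x * y)⁻¹ * g' ∈ S.L (k + 1) :=
    S.win_fix K (by omega) (mul_mem (inv_mem (mul_mem (Subgroup.mem_sup_right hx)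
      (Subgroup.mem_sup_left hy))) hg') (by rw [map_mul, app_mul, he, ← hlt, map_inv, app_inv])
  simpa [mul_assoc] using mul_mem h1 h2

/-- The elements respecting the representatives. -/
def Eqv (_hk : k + 5 ≤ n) : Subgroup G where
  carrier := {x | x ∈ S.L k ∧ ∀ v g g', v ∈ W k → H v v = 1 → S.Rep k v g →
    S.Rep k (app (S.π x) v) g' → (x * g)⁻¹ * g' ∈ S.L (k + 1)}
  one_mem' := ⟨one_mem _, fun v g g' _ _ hg hg' => by
    rw [map_one, app_one] at hg'; rw [one_mul]; exact S.rep_unique K _hk hP hg hg'⟩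
  mul_mem' := fun {a b} ha hb => ⟨mul_mem ha.1 hb.1, fun v g g' hv h1 hg hg' => by
    have hv' : app (S.π b) v ∈ W k := Fix_app_W K (S.mem_Fix hb.1) hv
    obtain ⟨m, hm⟩ := S.exists_rep K _hk hv' (by rw [h_app, h1])
    rw [map_mul, app_mul] at hg'
    have e1 := hb.2 v g m hv h1 hg hm
    have e2 := ha.2 _ m g' hv' (by rw [h_app, h1]) hm hg'
    have e : (a * b * g)⁻¹ * g' = ((b * g)⁻¹ * m) * ((a * m)⁻¹ * g') := by group
    rw [e]; exact mul_mem e1 e2⟩
  inv_mem' := fun {a} ha => ⟨inv_mem ha.1, fun v g g' hv h1 hg hg' => by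
    have hv' : app (S.π a⁻¹) v ∈ W k := Fix_app_W K (S.mem_Fix (inv_mem ha.1)) hv
    have e1 := ha.2 _ g' g hv' (by rw [h_app, h1]) hg' (by
      rwa [← app_mul, ← map_mul, mul_inv_cancel, map_one, app_one])
    have e : (a⁻¹ * g)⁻¹ * g' = ((a * g')⁻¹ * g)⁻¹ := by group
    rw [e]; exact inv_mem e1⟩

include K hk hP in
theorem L_le_Eqv : S.L k ≤ S.Eqv K hP hk := by
  have hPle : S.L (k + 1) ≤ S.Eqv K hP hk := fun x hx =>
    ⟨S.L_anti (Nat.le_succ k) hx, fun v g g' _ _ hg hg' => by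
      obtain ⟨l, hl, t, ht, rfl, he⟩ := hg
      refine S.rep_unique K hk hP ⟨x * l, mul_mem hx hl, t, ht, (mul_assoc _ _ _).symm, ?_⟩ hg'
      rw [map_mul, app_mul, he]⟩
  have hok2 : Ok n k (k + 2) := ⟨le_rfl, by omega, by omega⟩
  have hok3 : Ok n k (k + 3) := ⟨by omega, le_rfl, by omega⟩
  have hok4 : Ok n (k + 1) (k + 4) := ⟨by omega, le_rfl, by omega⟩
  have hU : S.B k (k + 2) ≤ S.Eqv K hP hk := fun x hx => by
    refine ⟨S.B_le_L le_rfl hok2 hx, fun v g g' hv h1 hg hg' => ?_⟩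
    obtain ⟨p, hp, hpv⟩ := exists_push K (j := k + 2) n le_rfl v fun i hi => by simp [cd, not_lt.2 hi]
    obtain ⟨y, hy, rfl⟩ := S.surj K (k + 2) p (Blk_le_Fix le_rfl hp)
    have hyP : y ∈ S.L (k + 1) := S.L_anti (Nat.le_succ _) hy
    have hyx : Commute x y := S.comm_L hok2 le_rfl hx hy
    set u := app (S.π y) v with hu
    have hus : ∀ i, k + 4 ≤ i → cd u i = 0 := fun i hi => hpv i (by omega)
    have huW : u ∈ W k := Fix_app_W K (S.mem_Fix (S.L_anti (by omega) hy)) hv
    obtain ⟨l, hl, t, ht, hlt⟩ := exists_reach K (show k + 3 ≤ k + 4 by omega)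
      (show k + 4 ≤ n by omega) huW (by rw [hu, h_app, h1]) hus
    obtain ⟨a, ha, rfl⟩ := S.lift hok4 hl
    obtain ⟨b, hb, rfl⟩ := S.lift hok3 ht
    rw [← map_mul] at hlt
    have hw0 : a * b ∈ S.win k := mul_mem (Subgroup.mem_sup_right ha) (Subgroup.mem_sup_left hb)
    have mv : ∀ {v g}, S.Rep k v g → S.Rep k (app (S.π y) v) (y * g) := by
      rintro v g ⟨l, hl, t, ht, rfl, he⟩
      exact ⟨y * l, mul_mem hyP hl, t, ht, (mul_assoc _ _ _).symm, by rw [map_mul, app_mul, he]⟩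
    have e1 := S.rep_win K hk hP hus (mv hg) hw0 hlt
    have hxu : app (S.π y) (app (S.π x) v) = app (S.π x) u := by
      rw [hu, ← app_mul, ← app_mul, ← map_mul, ← map_mul, hyx.eq]
    have e2 := S.rep_win K hk hP (fun i hi => ?_) (mv hg')
      (mul_mem (S.B_le_win (by omega) hok2 le_rfl (by omega) hx) hw0)
      (by rw [map_mul, app_mul, hlt, hxu])
    · have h := mul_mem e1 (inv_mem e2)
      have e : (y * g)⁻¹ * (a * b) * ((y * g')⁻¹ * (x * (a * b)))⁻¹ = g⁻¹ * y⁻¹ * x⁻¹ * y * g' := by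
        group
      rw [e] at h
      have e' : (x * g)⁻¹ * g' = g⁻¹ * y⁻¹ * x⁻¹ * y * g' := by
        have : y⁻¹ * x⁻¹ * y = x⁻¹ := by
          rw [mul_assoc, hyx.inv_left.eq, inv_mul_cancel_left]
        calc (x * g)⁻¹ * g' = g⁻¹ * x⁻¹ * g' := by group
          _ = g⁻¹ * (y⁻¹ * x⁻¹ * y) * g' := by rw [this]
          _ = _ := by group
      rw [e']; exact h
    · rw [hxu, Blk_cd K (S.mem_Blk hok2 hx) _ (.inr (by omega))]; exact hus i hi
  set M := S.B k (k + 2) ⊔ S.B (k + 1) (k + 4) with hMdef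
  have hMle : M ≤ S.Eqv K hP hk := sup_le hU ((S.B_le_L le_rfl hok4).trans hPle)
  have hT : S.B k (k + 3) ≤ M := fun x hx => by
    set u := app (S.π x) (bv k : Fin n → F) with hu
    have hB := S.mem_Blk hok3 hx
    have hus : ∀ i, i < k ∨ k + 3 ≤ i → cd u i = 0 := fun i hi => by
      rw [hu, Blk_cd K hB _ hi, cd_bv, if_neg (by omega)]
    have h01 : nm K (0 : F) + nm K (1 : F) = 1 := by rw [nm_zero, nm_one, zero_add]
    obtain ⟨s2, hs2, hs2e⟩ := S.lift_el K (show k + 2 + 2 ≤ n by omega) h01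
    obtain ⟨s1, hs1, hs1e⟩ := S.lift_el K (show k + 1 + 2 ≤ n by omega) h01
    obtain ⟨s0, hs0, hs0e⟩ := S.lift_el K (show k + 2 ≤ n by omega) h01
    set m := s0 * s1 * s2 with hm
    have hmM : m ∈ M := mul_mem (mul_mem (Subgroup.mem_sup_left hs0)
      (Subgroup.mem_sup_right (S.mono _ _ _ _ ⟨le_rfl, by omega, by omega⟩ hok4 le_rfl (by omega) hs1)))
      (Subgroup.mem_sup_right (S.mono _ _ _ _ ⟨le_rfl, by omega, by omega⟩ hok4 (by omega) le_rfl hs2))
    set u3 := app (S.π m) u with hu3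
    have hu3k : ∀ i, i ≤ k ∨ k + 4 ≤ i → cd u3 i = 0 := fun i hi => by
      rw [hu3, hm, map_mul, map_mul, app_mul, app_mul]
      rcases (show i < k ∨ k + 4 ≤ i ∨ i = k by omega) with h | h | rfl
      · rw [hs0e.cd_ne K _ (by omega) (by omega), hs1e.cd_ne K _ (by omega) (by omega),
          hs2e.cd_ne K _ (by omega) (by omega), hus i (.inl h)]
      · rw [hs0e.cd_ne K _ (by omega) (by omega), hs1e.cd_ne K _ (by omega) (by omega),
          hs2e.cd_ne K _ (by omega) (by omega), hus i (.inr (by omega))]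
      · rw [(hs0e.2.2 _).1, (hs1e.2.2 _).1, show i + 1 + 1 = i + 2 by omega,
          (hs2e.2.2 _).1, show i + 2 + 1 = i + 3 by omega, hus (i + 3) (.inr le_rfl)]
        simp
    have hn := norm_range K 3 (k := k + 1) (v := u3) (mem_W.2 fun i hi => hu3k i (.inl (by omega)))
      (fun i hi => hu3k i (.inr (by omega)))
    rw [hu3, h_app, hu, h_app, h_bv K, cd_bv, if_pos ⟨rfl, by omega⟩, ← hu3, Finset.sum_range_succ,
      Finset.sum_range_succ, Finset.sum_range_one, add_zero] at hn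
    obtain ⟨A, hA⟩ := exists_sphere_three K (v := ![cd u3 (k + 1), cd u3 (k + 1 + 1), cd u3 (k + 1 + 2)])
      (by rw [herm_three K]; exact hn.symm)
    obtain ⟨c, hc, hce⟩ := S.lift (show Ok n (k + 1) (k + 1 + 3) from hok4)
      (emb_mem_Blk K (show k + 1 + 3 ≤ n by omega) A)
    have hcv : app (S.π c) (bv (k + 1) : Fin n → F) = u3 := by
      rw [hce]
      refine emb_three K _ A (x := bv 0) (fun a => ?_) (fun a => ?_) fun i hi => ?_
      · rw [cd_bv, bv_apply]
        fin_cases a <;> simp [show k + 1 < n by omega]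
      · rw [hA]; fin_cases a <;> rfl
      · rw [cd_bv, if_neg (by omega)]
        exact hu3k i (by omega)
    set m' := m⁻¹ * c * s0 with hm'
    have hm'M : m' ∈ M := mul_mem (mul_mem (inv_mem hmM) (Subgroup.mem_sup_right hc))
      (Subgroup.mem_sup_left hs0)
    have hm'e : app (S.π m') (bv k : Fin n → F) = u := by
      rw [hm', map_mul, map_mul, app_mul, app_mul, hs0e.2.1, zero_smul, one_smul, zero_add, hcv,
        hu3, map_inv, app_inv]
    have hMwin : M ≤ S.win k := sup_le (S.B_le_win (by omega) hok2 le_rfl (by omega)) le_sup_right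
    have hrest := S.win_fix K (by omega) (mul_mem (inv_mem (hMwin hm'M)) (Subgroup.mem_sup_left hx))
      (by rw [map_mul, app_mul, ← hu, ← hm'e, map_inv, app_inv])
    have hB' : S.π (m'⁻¹ * x) ∈ Blk (k + 1) (k + 4) := fun i hi => by
      by_cases e : i < k + 1
      · exact S.mem_Fix hrest i e
      · exact S.win_Blk (show k + 4 ≤ n by omega) (mul_mem (inv_mem (hMwin hm'M)) (Subgroup.mem_sup_left hx))
          i (.inr (by omega))
    obtain ⟨z, hz, hze⟩ := S.lift hok4 hB'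
    rw [S.injW k (by omega) (SetLike.mem_coe.2 (Subgroup.mem_sup_right hz))
      (SetLike.mem_coe.2 (mul_mem (inv_mem (hMwin hm'M)) (Subgroup.mem_sup_left hx))) hze] at hz
    have := mul_mem hm'M (show m'⁻¹ * x ∈ M from Subgroup.mem_sup_right hz)
    rwa [mul_inv_cancel_left] at this
  refine S.L_le fun a b ha hok => ?_
  by_cases e : a = k
  · subst e
    have h1 := hok.1; have h2 := hok.2.1
    rcases (show b = a + 2 ∨ b = a + 3 by omega) with rfl | rfl
    exacts [hU, hT.trans hMle]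
  · exact (S.B_le_L (by omega) hok).trans hPle

include K hk hP in
theorem step : Set.InjOn S.π (↑(S.L k) : Set G) := by
  intro a ha b hb hab
  have hg : a⁻¹ * b ∈ S.L k := mul_mem (inv_mem ha) hb
  have hg1 : S.π (a⁻¹ * b) = 1 := by rw [map_mul, map_inv, hab, inv_mul_cancel]
  have hr : S.Rep k (bv k : Fin n → F) 1 :=
    ⟨1, one_mem _, 1, one_mem _, (mul_one _).symm, by rw [map_one, app_one]⟩
  have h := (S.L_le_Eqv K hk hP hg).2 (bv k) 1 1 (bv_mem_W le_rfl)
    (by rw [h_bv K, cd_bv, if_pos ⟨rfl, by omega⟩]) hr (by rw [hg1, app_one]; exact hr)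
  simp only [mul_one, inv_mem_iff] at h
  exact inv_mul_eq_one.1 (hP (SetLike.mem_coe.2 h) (SetLike.mem_coe.2 (one_mem _))
    (by rw [hg1, map_one]))

end Sys4

include K in
theorem Sys4.injOn (hn : 4 ≤ n) (k : ℕ) : Set.InjOn S.π (↑(S.L k) : Set G) := by
  induction hm : n - k generalizing k with
  | zero =>
    refine (S.injW (n - 4) (by omega)).mono (SetLike.coe_subset_coe.2 ?_)
    exact S.L_le fun a b ha hok => S.B_le_win (by omega) hok (by omega) (by have := hok.2.2; omega)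
  | succ m ih =>
    by_cases hk : k + 5 ≤ n
    · exact S.step K hk (ih (k + 1) (by omega))
    refine (S.injW (n - 4) (by omega)).mono (SetLike.coe_subset_coe.2 ?_)
    exact S.L_le fun a b ha hok => S.B_le_win (by omega) hok (by omega) (by have := hok.2.2; omega)

include K in
/-- A system gives homomorphisms out of the special unitary group. -/
theorem Sys4.exists_hom (hn : 4 ≤ n) {M : Type*} [Group M] (p : G →* M) :
    ∃ f : SU n F q →* M, f.range = (S.L 0).map p := by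
  let r : S.L 0 →* SU n F q := S.π.comp (S.L 0).subtype
  have hinj : Function.Injective r := fun a b h => Subtype.ext (S.injOn K hn 0 a.2 b.2 h)
  have hsur : Function.Surjective r := fun g => by
    obtain ⟨x, hx, hxe⟩ := S.surj K 0 g (by rw [Fix_zero]; exact Subgroup.mem_top g)
    exact ⟨⟨x, hx⟩, hxe⟩
  refine ⟨(p.comp (S.L 0).subtype).comp (MulEquiv.ofBijective r ⟨hinj, hsur⟩).symm.toMonoidHom, ?_⟩
  rw [MonoidHom.range_comp, MonoidHom.range_eq_top.2 (MulEquiv.surjective _),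
    ← MonoidHom.range_eq_map, MonoidHom.range_comp, Subgroup.range_subtype]

end CfsgLib.PhanSmall
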