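import Cfsg.Agent.Lib.PhanSmall.Lift
import Cfsg.Agent.Lib.PhanSmall.Sys
import Cfsg.Agent.Lib.Classical.Phan.Main

/-!
# Weak Phan systems over the fields with four and nine elements
-/

set_option autoImplicit false
set_option linter.unusedSectionVars false
set_option linter.style.haveILetI false

namespace CfsgLib.PhanSmall

open Matrix Cfsg
open CfsgLib.Classical.Herm
open CfsgLib.Classical.Phan hiding two_mul Sys exists_chain Fix
open CfsgLib.ClassicalAut (Unitary.Conj Unitary.space Unitary.herm_apply)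

universe u

variable {F : Type u} [Field F] [Finite F] {q : ℕ} (K : Unitary.Conj F q) {G : Type*} [Group G]

include K in
/-- A chain of compatible standard pairs. -/
theorem exists_chain (hq : q = 2 ∨ q = 3) (n : ℕ) (U : ℕ → Subgroup G) (V : ℕ → Subgroup G)
    (hpair : ∀ j, j + 1 < n → ∃ ψ, Pair K ψ (U j) (U (j + 1)) (V j))
    (hc : ∀ j, j + 2 < n → ∀ x ∈ U j, ∀ y ∈ U (j + 2), x * y = y * x) (m : ℕ) :
    ∃ Ψ : ℕ → (SU 3 F q →* G),
      (∀ j, j < m → j + 1 < n → Pair K (Ψ j) (U j) (U (j + 1)) (V j)) ∧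
      (∀ j, j + 1 < m → j + 2 < n → (Ψ (j + 1)).comp (bA K) = (Ψ j).comp (bB K)) := by
  classical
  induction m with
  | zero => exact ⟨fun _ => 1, fun j hj => by omega, fun j hj => by omega⟩
  | succ m ih =>
    obtain ⟨Ψ, hP, hC⟩ := ih
    by_cases hm : m + 1 < n
    swap
    · exact ⟨Ψ, fun j hj hj' => hP j (by omega) hj', fun j hj hj' => hC j (by omega) hj'⟩
    obtain ⟨χ, hχ⟩ := hpair m hm
    obtain ⟨χ', hχ', hglue⟩ : ∃ χ', Pair K χ' (U m) (U (m + 1)) (V m) ∧
        ∀ j, j + 1 = m → χ'.comp (bA K) = (Ψ j).comp (bB K) := by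
      rcases Nat.eq_zero_or_pos m with rfl | hpos
      · exact ⟨χ, hχ, fun j hj => by omega⟩
      obtain ⟨j, rfl⟩ : ∃ j, m = j + 1 := ⟨m - 1, by omega⟩
      obtain ⟨χ', h1, h2⟩ := glue_small K hq (hP j (by omega) (by omega)) hχ (hc j (by omega))
      exact ⟨χ', h1, fun i hi => by rw [show i = j by omega]; exact h2⟩
    refine ⟨Function.update Ψ m χ', fun j hj hj' => ?_, fun j hj hj' => ?_⟩
    · by_cases e : j = m
      · subst e; rw [Function.update_self]; exact hχ'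
      · rw [Function.update_of_ne e]; exact hP j (by omega) hj'
    · rw [Function.update_of_ne (show j ≠ m by omega)]
      by_cases e : j + 1 = m
      · rw [e, Function.update_self]; exact hglue j e
      · rw [Function.update_of_ne e]; exact hC j (by omega) hj'

include K in
/-- Over nine elements a standard pair generates its group. -/
theorem pair_le (h3 : q = 3) {ψ : SU 3 F q →* G} {A B V : Subgroup G} (h : Pair K ψ A B V) :
    V ≤ A ⊔ B := by
  have key := three_top K (Or.inr h3) ((A ⊔ B).comap ψ)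
    (by rw [← range_emb_two K h01]; rintro _ ⟨X, rfl⟩
        exact Subgroup.mem_sup_left (h.rangeA ▸ ⟨X, rfl⟩))
    (by rw [← range_emb_two K h12]; rintro _ ⟨X, rfl⟩
        exact Subgroup.mem_sup_right (h.rangeB ▸ ⟨X, rfl⟩))
    (fun e => absurd e (by omega))
  rw [← h.range]
  rintro _ ⟨x, rfl⟩
  exact Subgroup.mem_comap.1 (key ▸ Subgroup.mem_top x)

include K in
/-- A weak Phan system makes its group a quotient of the special unitary group. -/
theorem phan_small (hq : q = 2 ∨ q = 3) (n : ℕ) (hn : 4 ≤ n) (U : ℕ → Subgroup G) (V : ℕ → Subgroup G)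
    (hpair : ∀ j, j + 1 < n → ∃ ψ, Pair K ψ (U j) (U (j + 1)) (V j))
    (hc : ∀ i j, i + 2 ≤ j → j < n → ∀ x ∈ U i, ∀ y ∈ U j, x * y = y * x)
    (h4 : ∀ j, j + 2 < n → ∃ g : SU 4 F q →* ↥(V j ⊔ V (j + 1)), Function.Surjective g)
    (hUV : q = 2 → ∀ i j, i < n → j + 1 < n → (i + 2 ≤ j ∨ j + 3 ≤ i) →
      ∀ x ∈ U i, ∀ y ∈ V j, x * y = y * x)
    (hVV : q = 2 → ∀ i j, i + 3 ≤ j → j + 1 < n → ∀ x ∈ V i, ∀ y ∈ V j, x * y = y * x) :
    ∃ f : SU (n + 1) F q →* G,
      (∀ j, j < n → U j ≤ f.range) ∧ ∀ j, j + 1 < n → V j ≤ f.range := by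
  classical
  obtain ⟨Ψ, hP, hC⟩ := exists_chain K hq n U V hpair (fun j hj => hc j (j + 2) le_rfl hj) n
  let θ : ℕ → (SU 2 F q →* G) := fun j =>
    if j + 1 < n then (Ψ j).comp (bA K) else (Ψ (j - 1)).comp (bB K)
  have hθA : ∀ j, j + 1 < n → θ j = (Ψ j).comp (bA K) := fun j hj => if_pos hj
  have hθB : ∀ j, j + 1 < n → θ (j + 1) = (Ψ j).comp (bB K) := fun j hj => by
    by_cases h : j + 2 < n
    · rw [hθA _ h, hC j (by omega) h]
    · exact if_neg h
  have hθr : ∀ j, j < n → (θ j).range = U j := by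
    intro j hj
    by_cases h : j + 1 < n
    · rw [hθA j h]; exact (hP j hj h).rangeA
    · obtain ⟨i, rfl⟩ : ∃ i, j = i + 1 := ⟨j - 1, by omega⟩
      rw [hθB i hj]; exact (hP i (by omega) hj).rangeB
  have hVmem : ∀ j, j + 1 < n → (Ψ j).range = V j := fun j hj => (hP j (by omega) hj).range
  have hsup : q = 3 → ∀ j, j + 1 < n → V j ≤ U j ⊔ U (j + 1) := fun h3 j hj =>
    pair_le K h3 (hP j (by omega) hj)
  have hle_cent : ∀ {S T : Subgroup G}, (∀ x ∈ S, ∀ y ∈ T, x * y = y * x) →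
      T ≤ Subgroup.centralizer (S : Set G) := fun h y hy =>
    Subgroup.mem_centralizer_iff.2 fun x hx => h x hx y hy
  have cUV : ∀ i j, i < n → j + 1 < n → (i + 2 ≤ j ∨ j + 3 ≤ i) →
      ∀ x ∈ U i, ∀ y ∈ V j, x * y = y * x := by
    rcases hq with h2 | h3
    · exact hUV h2
    intro i j hi hj hij x hx y hy
    have := (hsup h3 j hj).trans (sup_le
      (hle_cent (S := U i) fun a ha b hb => ?_) (hle_cent (S := U i) fun a ha b hb => ?_)) hy
    · exact Subgroup.mem_centralizer_iff.1 this x hx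
    · rcases hij with h | h
      · exact hc i j h (by omega) a ha b hb
      · exact (hc j i (by omega) hi b hb a ha).symm
    · rcases hij with h | h
      · exact hc i (j + 1) (by omega) hj a ha b hb
      · exact (hc (j + 1) i (by omega) hi b hb a ha).symm
  have cVV : ∀ i j, i + 3 ≤ j → j + 1 < n → ∀ x ∈ V i, ∀ y ∈ V j, x * y = y * x := by
    rcases hq with h2 | h3
    · exact hVV h2
    intro i j hij hj x hx y hy
    have := (hsup h3 i (by omega)).trans (sup_le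
      (hle_cent (S := V j) fun a ha b hb => (cUV i j (by omega) hj (Or.inl (by omega)) b hb a ha).symm)
      (hle_cent (S := V j) fun a ha b hb => (cUV (i + 1) j (by omega) hj (Or.inl (by omega)) b hb a ha).symm)) hx
    exact (Subgroup.mem_centralizer_iff.1 this y hy).symm
  -- windows of four
  have hΦ : ∀ a, a + 2 < n → ∃ Φ : SU 4 F q →* G,
      Φ.comp (emb K h03) = Ψ a ∧ Φ.comp (emb K h14) = Ψ (a + 1) := fun a ha => by
    obtain ⟨g, hg⟩ := h4 a ha
    exact exists_four K hq (hP a (by omega) (by omega)) (hP (a + 1) (by omega) ha)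
      (hC a (by omega) ha) (hc a (a + 2) le_rfl ha) g hg
  let ρ2 : ∀ a, a + 2 ≤ n + 1 → (SU 2 F q →* SU (n + 1) F q × G) := fun a h => (emb K h).prod (θ a)
  let ρ3 : ∀ a, a + 3 ≤ n + 1 → (SU 3 F q →* SU (n + 1) F q × G) := fun a h => (emb K h).prod (Ψ a)
  let B : ℕ → ℕ → Subgroup (SU (n + 1) F q × G) := fun a b =>
    if h : a + 2 = b ∧ a + 2 ≤ n + 1 then (ρ2 a h.2).range
    else if h' : a + 3 = b ∧ a + 3 ≤ n + 1 then (ρ3 a h'.2).range else ⊥
  have hB2 : ∀ a (h : a + 2 ≤ n + 1), B a (a + 2) = ((emb K h).prod (θ a)).range := fun a h =>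
    dif_pos ⟨rfl, h⟩
  have hB3 : ∀ a (h : a + 3 ≤ n + 1), B a (a + 3) = ((emb K h).prod (Ψ a)).range := fun a h => by
    show (if h : a + 2 = a + 3 ∧ a + 2 ≤ n + 1 then (ρ2 a h.2).range else _) = _
    rw [dif_neg (fun e => by omega), dif_pos ⟨rfl, h⟩]
  have hok : ∀ {a b}, Ok (n + 1) a b → (b = a + 2 ∧ a + 2 ≤ n + 1) ∨ (b = a + 3 ∧ a + 3 ≤ n + 1) :=
    fun {a b} h => by obtain ⟨h1, h2, h3⟩ := h; omega
  have hsub : ∀ a j, j ≤ 1 → a + 3 ≤ n + 1 → B (a + j) (a + j + 2) ≤ B a (a + 3) := by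
    intro a j hj h
    rw [hB2 (a + j) (by omega), hB3 a h]
    rintro _ ⟨X, rfl⟩
    rcases (show j = 0 ∨ j = 1 by omega) with rfl | rfl
    · exact ⟨bA K X, Prod.ext (emb_emb K h01 h (by omega) X)
        (DFunLike.congr_fun (hθA a (by omega)) X).symm⟩
    · exact ⟨bB K X, Prod.ext (emb_emb K h12 h (by omega) X)
        (DFunLike.congr_fun (hθB a (by omega)) X).symm⟩
  let S : Sys4 (F := F) (q := q) (SU (n + 1) F q × G) (n + 1) :=
    { π := MonoidHom.fst _ _
      B := B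
      mapB := fun a b h => by
        rcases hok h with ⟨rfl, h'⟩ | ⟨rfl, h'⟩
        · rw [hB2 a h', ← MonoidHom.range_comp, MonoidHom.fst_comp_prod, range_emb_two K h']
        · rw [hB3 a h', ← MonoidHom.range_comp, MonoidHom.fst_comp_prod, range_emb_win K h']
      mono := fun a b a' b' h h' ha hb => by
        rcases hok h with ⟨rfl, e⟩ | ⟨rfl, e⟩ <;> rcases hok h' with ⟨rfl, e'⟩ | ⟨rfl, e'⟩
        · rw [show a = a' by omega]
        · obtain ⟨j, rfl⟩ : ∃ j, a = a' + j := ⟨a - a', by omega⟩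
          exact hsub a' j (by omega) e'
        · omega
        · rw [show a = a' by omega]
      comm := fun a b c d h h' hbc x hx y hy => by
        have emc : ∀ {m m'} (e : a + m ≤ n + 1) (e' : c + m' ≤ n + 1) (X : SU m F q) (Y : SU m' F q),
            a + m ≤ c → Commute (emb K e X) (emb K e' Y) := fun e e' X Y hle =>
          comm_Blk_Fix K hle (emb_mem_Blk K e X) (Blk_le_Fix le_rfl (emb_mem_Blk K e' Y))
        rcases hok h with ⟨rfl, e⟩ | ⟨rfl, e⟩ <;> rcases hok h' with ⟨rfl, e'⟩ | ⟨rfl, e'⟩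
        · rw [hB2 a e] at hx; rw [hB2 c e'] at hy
          obtain ⟨X, rfl⟩ := hx; obtain ⟨Y, rfl⟩ := hy
          exact Prod.ext (emc e e' X Y hbc) (hc a c hbc (by omega) _ (hθr a (by omega) ▸ ⟨X, rfl⟩) _
            (hθr c (by omega) ▸ ⟨Y, rfl⟩))
        · rw [hB2 a e] at hx; rw [hB3 c e'] at hy
          obtain ⟨X, rfl⟩ := hx; obtain ⟨Y, rfl⟩ := hy
          exact Prod.ext (emc e e' X Y hbc) (cUV a c (by omega) (by omega) (Or.inl hbc) _
            (hθr a (by omega) ▸ ⟨X, rfl⟩) _ (hVmem c (by omega) ▸ ⟨Y, rfl⟩))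
        · rw [hB3 a e] at hx; rw [hB2 c e'] at hy
          obtain ⟨X, rfl⟩ := hx; obtain ⟨Y, rfl⟩ := hy
          exact Prod.ext (emc e e' X Y hbc) (cUV c a (by omega) (by omega) (Or.inr hbc) _
            (hθr c (by omega) ▸ ⟨Y, rfl⟩) _ (hVmem a (by omega) ▸ ⟨X, rfl⟩)).symm
        · rw [hB3 a e] at hx; rw [hB3 c e'] at hy
          obtain ⟨X, rfl⟩ := hx; obtain ⟨Y, rfl⟩ := hy
          exact Prod.ext (emc e e' X Y hbc) (cVV a c hbc (by omega) _
            (hVmem a (by omega) ▸ ⟨X, rfl⟩) _ (hVmem c (by omega) ▸ ⟨Y, rfl⟩))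
      injW := fun a ha => by
        obtain ⟨Φ, h0, h1⟩ := hΦ a (by omega)
        have hle : B a (a + 3) ⊔ B (a + 1) (a + 4) ≤ ((emb K ha).prod Φ).range := by
          refine sup_le ?_ ?_
          · rw [hB3 a (by omega)]
            rintro _ ⟨X, rfl⟩
            exact ⟨emb K h03 X, Prod.ext (emb_emb K h03 ha (by omega) X) (DFunLike.congr_fun h0 X)⟩
          · rw [show a + 4 = a + 1 + 3 by omega, hB3 (a + 1) (by omega)]
            rintro _ ⟨X, rfl⟩
            exact ⟨emb K h14 X, Prod.ext (emb_emb K h14 ha (by omega) X) (DFunLike.congr_fun h1 X)⟩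
        refine Set.InjOn.mono (SetLike.coe_subset_coe.2 hle) ?_
        rintro _ ⟨X, rfl⟩ _ ⟨Y, rfl⟩ e
        rw [emb_injective K ha (show emb K ha X = emb K ha Y from e)] }
  obtain ⟨f, hf⟩ := S.exists_hom K (by omega) (MonoidHom.snd _ _)
  refine ⟨f, fun j hj => ?_, fun j hj => ?_⟩
  · rw [hf, ← hθr j hj]
    rintro _ ⟨X, rfl⟩
    refine ⟨(emb K (show j + 2 ≤ n + 1 by omega)).prod (θ j) X,
      S.B_le_L (Nat.zero_le j) (show Ok (n + 1) j (j + 2) from ⟨le_rfl, by omega, by omega⟩) ?_, rfl⟩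
    show _ ∈ B j (j + 2)
    rw [hB2 j (by omega)]; exact ⟨X, rfl⟩
  · rw [hf, ← hVmem j hj]
    rintro _ ⟨X, rfl⟩
    refine ⟨(emb K (show j + 3 ≤ n + 1 by omega)).prod (Ψ j) X,
      S.B_le_L (Nat.zero_le j) (show Ok (n + 1) j (j + 3) from ⟨by omega, le_rfl, by omega⟩) ?_, rfl⟩
    show _ ∈ B j (j + 3)
    rw [hB3 j (by omega)]; exact ⟨X, rfl⟩

end CfsgLib.PhanSmall
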