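import Cfsg.Agent.Lib.Classical.Phan.Embed

/-!
# Moves inside three consecutive coordinates, for every order of the field
-/

set_option autoImplicit false
set_option linter.unusedSectionVars false

namespace CfsgLib.PhanSmall

open Matrix Cfsg
open CfsgLib.Classical.Herm
open CfsgLib.Classical.Phan
open CfsgLib.ClassicalAut (Unitary.Conj Unitary.space Unitary.herm_apply)

variable {F : Type*} [Field F] [Finite F] {q : ℕ} (K : Unitary.Conj F q)

/-! ### Windows -/

include K in
theorem range_emb_win {N m j : ℕ} (h : j + m ≤ N) :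
    (emb K h : SU m F q →* SU N F q).range = Blk j (j + m) := by
  classical
  refine le_antisymm ?_ fun g hg => ?_
  · rintro _ ⟨A, rfl⟩
    exact emb_mem_Blk K h A
  set e := winEquiv N m j h
  let A : Matrix (Fin m) (Fin m) F := fun a b => mat g (e.symm (.inl a)) (e.symm (.inl b))
  have hout : ∀ r : {i : Fin N // ¬ (j ≤ (i : ℕ) ∧ (i : ℕ) < j + m)},
      ((r.1 : ℕ) < j ∨ j + m ≤ (r.1 : ℕ)) := fun r => by
    by_contra hc
    exact r.2 ⟨by omega, by omega⟩
  have hcol : ∀ (i : Fin N) (r : {i : Fin N // ¬ (j ≤ (i : ℕ) ∧ (i : ℕ) < j + m)}),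
      mat g i r.1 = if i = r.1 then 1 else 0 := by
    intro i r
    rw [mat_apply, hg _ (hout r), cd_bv]
    simp [Fin.ext_iff, i.2]
  have hrow : ∀ (l : Fin N) (r : {i : Fin N // ¬ (j ≤ (i : ℕ) ∧ (i : ℕ) < j + m)}),
      mat g r.1 l = if r.1 = l then 1 else 0 := by
    intro l r
    rw [mat_apply, Blk_cd K hg _ (hout r), cd_bv]
    simp [Fin.ext_iff, r.1.2]
  have hmat : winMat h A = mat g := by
    refine Matrix.ext fun i l => ?_
    obtain ⟨x, rfl⟩ := e.symm.surjective i
    obtain ⟨y, rfl⟩ := e.symm.surjective l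
    rw [winMat, Matrix.submatrix_apply, Equiv.apply_symm_apply, Equiv.apply_symm_apply]
    rcases x with a | r <;> rcases y with b | s
    · rfl
    · refine Eq.trans ?_ (hcol _ s).symm
      rw [if_neg]
      · rfl
      · exact fun c => by cases e.symm.injective (show e.symm (.inl a) = e.symm (.inr s) from c)
    · refine Eq.trans ?_ (hrow _ r).symm
      rw [if_neg]
      · rfl
      · exact fun c => by cases e.symm.injective (show e.symm (.inr r) = e.symm (.inl b) from c)
    · refine Eq.trans ?_ (hrow _ r).symm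
      show (1 : Matrix _ _ F) r s = if r.1 = s.1 then (1 : F) else 0
      simp [Matrix.one_apply, Subtype.ext_iff]
  have hdet : A.det = 1 := by
    rw [← det_winMat h A, hmat]; exact g.1.2
  have hA : (⟨A, hdet⟩ : Matrix.SpecialLinearGroup (Fin m) F) ∈ SU m F q := by
    intro u v
    show hermForm m F q (A *ᵥ u) (A *ᵥ v) = hermForm m F q u v
    let ext : (Fin m → F) → Fin N → F := fun x => Sum.elim x (fun _ => 0) ∘ e
    have he : ∀ x, (fun a => ext x (e.symm (.inl a))) = x := fun x => funext fun a => by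
      simp [ext]
    have he0 : ∀ x (r : {i : Fin N // ¬ (j ≤ (i : ℕ) ∧ (i : ℕ) < j + m)}), ext x r.1 = 0 := fun x r => by
      show Sum.elim x (fun _ => 0) (e (e.symm (.inr r))) = 0
      rw [Equiv.apply_symm_apply]; rfl
    have := g.2 (ext u) (ext v)
    change hermForm N F q (mat g *ᵥ ext u) (mat g *ᵥ ext v) = _ at this
    simp only [Unitary.herm_apply K, ← Equiv.sum_comp e.symm, Fintype.sum_sum_type, ← hmat,
      winMat_mulVec, Function.comp_apply] at this
    have hep : ∀ x a, ext x (e.symm (.inl a)) = x a := fun x a => congrFun (he x) a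
    have he1 : ∀ x r, ext x (e.symm (.inr r)) = 0 := fun x r => he0 x r
    simp only [show winEquiv N m j h = e from rfl, Equiv.apply_symm_apply, Sum.elim_inl, Sum.elim_inr,
      hep, he0, he1, zero_mul, Finset.sum_const_zero, add_zero] at this
    simpa only [Unitary.herm_apply K] using this
  exact ⟨⟨⟨A, hdet⟩, hA⟩, mat_ext hmat⟩

include K in
/-- Transporting an equation of three coordinates. -/
theorem emb_three {n j : ℕ} (h : j + 3 ≤ n) (A : SU 3 F q) {v w : Fin n → F} {x : Fin 3 → F}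
    (hx : ∀ a : Fin 3, cd v (j + a) = x a)
    (hw : ∀ a : Fin 3, cd w (j + a) = app A x a)
    (hout : ∀ i, i < j ∨ j + 3 ≤ i → cd w i = cd v i) : app (emb K h A) v = w := by
  refine ext_cd fun i _ => ?_
  by_cases hi : i < j ∨ j + 3 ≤ i
  · rw [cd_emb_out K h A v hi, hout i hi]
  · obtain ⟨a, rfl⟩ : ∃ a, i = j + a := ⟨i - j, by omega⟩
    have ha : a < 3 := by omega
    rw [cd_emb K h A v ha, funext hx]
    exact (cd_coe _ ⟨a, ha⟩).trans (hw ⟨a, ha⟩).symm

include K in
theorem herm_three (v : Fin 3 → F) :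
    hermForm 3 F q v v = nm K (v 0) + nm K (v 1) + nm K (v 2) := by
  rw [Unitary.herm_apply K, Fin.sum_univ_three]; rfl

/-! ### The field with four elements -/

include K in
theorem nm_two (hq : q = 2) {a : F} (ha : a ≠ 0) : nm K a = 1 := by
  cases nonempty_fintype F
  rw [nm, K.bar_apply, hq, ← pow_succ']
  have h1 := FiniteField.pow_card_sub_one_eq_one a ha
  rwa [← Nat.card_eq_fintype_card, K.card, hq] at h1

include K in
theorem bar_two (hq : q = 2) (a : F) : K.bar a = a * a := by rw [K.bar_apply, hq, sq]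

/-- The matrix of the discrete Fourier transform. -/
def fou (ω : F) : Matrix (Fin 3) (Fin 3) F := !![1, 1, 1; 1, ω, ω * ω; 1, ω * ω, ω]

include K in
theorem exists_fou (hq : q = 2) {ω : F} (hω : ω * ω + ω + 1 = 0) :
    ∃ M : SU 3 F q, mat M = fou ω := by
  have h2 := two_eq_zero K hq
  have hd : (fou ω).det = 1 := by
    simp [fou, Matrix.det_fin_three]
    linear_combination (-(ω * ω) + ω + 3) * hω + (-2 - 3 * ω) * h2
  refine ⟨⟨⟨fou ω, hd⟩, fun u v => ?_⟩, rfl⟩
  show hermForm 3 F q (fou ω *ᵥ u) (fou ω *ᵥ v) = hermForm 3 F q u v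
  simp only [Unitary.herm_apply K, Fin.sum_univ_three, fou]
  simp [mulVec, dotProduct, Fin.sum_univ_three, bar_two K hq]
  set a0 := u 0; set a1 := u 1; set a2 := u 2
  set b0 := v 0; set b1 := v 1; set b2 := v 2
  grobner

/-! ### Norm one vectors of three coordinates -/

include K in
theorem exists_sphere_three {v : Fin 3 → F} (hv : hermForm 3 F q v v = 1) :
    ∃ g : SU 3 F q, app g (bv 0 : Fin 3 → F) = v := by
  rw [herm_three K] at hv
  have e0 : ∀ {g : SU 3 F q} {a b : F}, IsEl K g 0 a b → app g (bv 0 : Fin 3 → F) = a • bv 0 + b • bv 1 :=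
    fun h => h.2.1
  have hsum : ∀ x : Fin 3 → F, x = x 0 • bv 0 + x 1 • bv 1 + x 2 • bv 2 := fun x => by
    funext i; fin_cases i <;> simp [bv_apply]
  by_cases h2 : v 2 = 0
  · obtain ⟨g, hg⟩ := exists_el K (n := 3) (j := 0) (by norm_num) (α := v 0) (β := v 1)
      (by rw [h2, nm_zero, add_zero] at hv; exact hv)
    refine ⟨g, ?_⟩
    rw [e0 hg, eq_comm]
    conv_lhs => rw [hsum v]
    rw [h2, zero_smul, add_zero]
  by_cases h1 : v 1 = 0
  · obtain ⟨g, hg⟩ := exists_el K (n := 3) (j := 0) (by norm_num) (α := v 0) (β := v 2)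
      (by rw [h1, nm_zero, add_zero] at hv; exact hv)
    obtain ⟨w, hw⟩ := exists_el K (n := 3) (j := 1) (by norm_num) (α := (0 : F)) (β := 1)
      (by rw [nm_zero, nm_one, zero_add])
    refine ⟨w * g, ?_⟩
    rw [app_mul, e0 hg, app_add, app_smul, app_smul, hw.1 0 (by omega), hw.2.1]
    conv_rhs => rw [hsum v]
    simp [h1]
  by_cases h0 : v 0 = 0
  · obtain ⟨g, hg⟩ := exists_el K (n := 3) (j := 1) (by norm_num) (α := v 1) (β := v 2)
      (by rw [h0, nm_zero, zero_add] at hv; exact hv)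
    obtain ⟨w, hw⟩ := exists_el K (n := 3) (j := 0) (by norm_num) (α := (0 : F)) (β := 1)
      (by rw [nm_zero, nm_one, zero_add])
    refine ⟨g * w, ?_⟩
    rw [app_mul, e0 hw, zero_smul, one_smul, zero_add, hg.2.1]
    conv_rhs => rw [hsum v]
    simp [h0]
  by_cases hq : q = 2
  swap
  · obtain ⟨g, -, hg⟩ := exists_move_sphere K (n := 3) (k := 0) (by norm_num) (fun e => absurd e hq)
      (v := v) (fun i hi => absurd hi (Nat.not_lt_zero _)) (by rw [herm_three K]; exact hv)
    exact ⟨g, by rw [bv, dif_pos (by norm_num)]; exact hg⟩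
  obtain ⟨ω, hω, -⟩ := exists_omega K hq
  obtain ⟨M, hM⟩ := exists_fou K hq hω
  set D : Fin 3 → Fˣ := ![1, Units.mk0 (v 1 / v 0) (div_ne_zero h1 h0),
    Units.mk0 (v 2 / v 0) (div_ne_zero h2 h0)]
  have hD : ∀ i, nm K (D i : F) = 1 := fun i => nm_two K hq (D i).ne_zero
  obtain ⟨g, hg⟩ := exists_el K (n := 3) (j := 0) (by norm_num) (α := v 0) (β := (0 : F))
    (by rw [nm_zero, add_zero, nm_two K hq h0])
  refine ⟨tw K D hD (RingEquiv.refl F) M * g, ?_⟩
  rw [app_mul, e0 hg, zero_smul, add_zero, app_smul]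
  funext i
  have e := mat_apply (tw K D hD (RingEquiv.refl F) M) i 0
  rw [Fin.val_zero] at e
  rw [Pi.smul_apply, ← cd_coe (app _ _) i, ← e, mat_tw, twMat, Matrix.of_apply, hM]
  fin_cases i <;> simp [fou, D]
  · rw [mul_div_cancel₀ _ h0]
  · rw [mul_div_cancel₀ _ h0]

/-! ### Inside a larger space -/

variable {n : ℕ}

local notation "H" => hermForm n F q

include K in
/-- A null triple with two non-null pairs or a non-zero norm loses its last entry. -/
theorem exists_kill {j : ℕ} (hj : j + 3 ≤ n) (v : Fin n → F) :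
    ∃ g ∈ (Blk j (j + 3) : Subgroup (SU n F q)), cd (app g v) (j + 2) = 0 := by
  set x := cd v j with hx
  set y := cd v (j + 1) with hy
  set z := cd v (j + 2) with hz
  -- a non-null last pair
  have pair : ∀ w : Fin n → F, nm K (cd w (j + 1)) + nm K (cd w (j + 2)) ≠ 0 →
      ∃ g ∈ (Blk j (j + 3) : Subgroup (SU n F q)), cd (app g w) (j + 2) = 0 := by
    intro w hw
    obtain ⟨c, hc⟩ := exists_nm K (s := nm K (cd w (j + 1)) + nm K (cd w (j + 2)))
      (by rw [map_add, bar_nm, bar_nm])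
    obtain ⟨α, β, h1, -, h3⟩ := exists_el_move K (b := cd w (j + 1)) (c := cd w (j + 2)) (b' := c)
      (c' := (0 : F)) hw (by rw [hc, nm_zero, add_zero])
    obtain ⟨g, hg⟩ := exists_el K (show j + 1 + 1 < n by omega) h1
    exact ⟨g, Blk_mono (by omega) (by omega) hg.1, by
      rw [show j + 2 = j + 1 + 1 by omega, (hg.2.2 w).2]; exact h3⟩
  by_cases hyz : nm K y + nm K z = 0
  swap
  · exact pair v hyz
  by_cases hx0 : x = 0
  · by_cases hz0 : z = 0
    · exact ⟨1, one_mem _, by rw [app_one]; exact hz0⟩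
    obtain ⟨w, hw⟩ := exists_el K (show j + 1 < n by omega) (α := (0 : F)) (β := 1)
      (by rw [nm_zero, nm_one, zero_add])
    obtain ⟨g, hg, hgv⟩ := pair (app w v) (by
      rw [(hw.2.2 v).2, hw.cd_ne K v (show j + 2 ≠ j by omega) (by omega), ← hx, ← hy, ← hz, hx0]
      simpa [nm_zero] using fun e => hz0 ((nm_eq_zero K).1 e))
    exact ⟨g * w, mul_mem hg (Blk_mono le_rfl (by omega) hw.1), by rw [app_mul]; exact hgv⟩
  obtain ⟨μ, hμ⟩ := exists_nm K (s := nm K x) (bar_nm K x)
  have hμ0 : μ ≠ 0 := fun e => hx0 ((nm_eq_zero K).1 (by rw [← hμ, e, nm_zero]))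
  have hs : hermForm 3 F q (μ⁻¹ • ![x, y, z]) (μ⁻¹ • ![x, y, z]) = 1 := by
    rw [herm_three K]
    simp only [Pi.smul_apply, smul_eq_mul, nm_mul, Matrix.cons_val_zero, Matrix.cons_val_one,
      Matrix.cons_val_two, Matrix.head_cons, Matrix.tail_cons]
    rw [show nm K μ⁻¹ * nm K x + nm K μ⁻¹ * nm K y + nm K μ⁻¹ * nm K z =
      nm K μ⁻¹ * (nm K x + (nm K y + nm K z)) by ring, hyz, add_zero, ← hμ, ← nm_mul,
      inv_mul_cancel₀ hμ0, nm_one]
  obtain ⟨A, hA⟩ := exists_sphere_three K hs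
  refine ⟨emb K hj A⁻¹, emb_mem_Blk K hj _, ?_⟩
  rw [cd_emb K hj _ _ (show 2 < 3 by norm_num)]
  have : (fun b : Fin 3 => cd v (j + b)) = μ • app A (bv 0 : Fin 3 → F) := by
    rw [hA, smul_smul, mul_inv_cancel₀ hμ0, one_smul]
    funext b; fin_cases b <;> rfl
  rw [this, app_smul, app_inv, cd_smul, cd_bv, if_neg (by omega), mul_zero]

include K in
/-- A vector is pushed onto two coordinates by the elements of an interval. -/
theorem exists_push {j : ℕ} (b : ℕ) (hb : b ≤ n) (v : Fin n → F)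
    (hv : ∀ i, b ≤ i → cd v i = 0) :
    ∃ g ∈ (Blk j b : Subgroup (SU n F q)), ∀ i, j + 2 ≤ i → cd (app g v) i = 0 := by
  induction b generalizing v with
  | zero => exact ⟨1, one_mem _, fun i _ => by rw [app_one]; exact hv i (Nat.zero_le i)⟩
  | succ b ih =>
    by_cases hjb : j + 2 ≤ b
    swap
    · exact ⟨1, one_mem _, fun i hi => by rw [app_one]; exact hv i (by omega)⟩
    obtain ⟨a, rfl⟩ : ∃ a, b = a + 2 := ⟨b - 2, by omega⟩
    obtain ⟨g, hg, hgv⟩ := exists_kill K (show a + 3 ≤ n by omega) v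
    obtain ⟨g', hg', hgv'⟩ := ih (by omega) (app g v) fun i hi => by
      rcases (show i = a + 2 ∨ a + 3 ≤ i by omega) with rfl | hi'
      · exact hgv
      · rw [Blk_cd K hg v (.inr hi')]; exact hv i hi'
    exact ⟨g' * g, mul_mem (Blk_mono le_rfl (Nat.le_succ _) hg') (Blk_mono (by omega) le_rfl hg),
      by rw [app_mul]; exact hgv'⟩

include K in
/-- Null vectors of the first two of three coordinates are conjugate. -/
theorem exists_null_move {j : ℕ} (hj : j + 3 ≤ n) {v w : Fin n → F}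
    (hv : nm K (cd v j) + nm K (cd v (j + 1)) = 0) (hv0 : cd v j ≠ 0) (hv2 : cd v (j + 2) = 0)
    (hw : nm K (cd w j) + nm K (cd w (j + 1)) = 0) (hw0 : cd w j ≠ 0) (hw2 : cd w (j + 2) = 0)
    (hout : ∀ i, i < j ∨ j + 3 ≤ i → cd w i = cd v i) :
    ∃ g ∈ (Blk j (j + 3) : Subgroup (SU n F q)), app g v = w := by
  set ρ := cd v j with hρ
  set σ := cd v (j + 1) with hσ
  set ρ' := cd w j with hρ'
  set σ' := cd w (j + 1) with hσ'
  obtain ⟨s, hs⟩ := exists_el K (show j + 1 + 1 < n by omega) (α := (0 : F)) (β := 1)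
    (by rw [nm_zero, nm_one, zero_add])
  set v1 := app s v with hv1
  have a0 : cd v1 j = ρ := hs.cd_ne K v (by omega) (by omega)
  have a1 : cd v1 (j + 1) = 0 := by
    rw [hv1, (hs.2.2 v).1, show j + 1 + 1 = j + 2 by omega, hv2]; ring
  have a2 : cd v1 (j + 2) = σ := by
    rw [hv1, show j + 2 = j + 1 + 1 by omega, (hs.2.2 v).2, show j + 1 + 1 = j + 2 by omega, hv2, ← hσ]; ring
  obtain ⟨b, hb⟩ := exists_nm K (s := nm K ρ - nm K ρ') (by rw [map_sub, bar_nm, bar_nm])
  obtain ⟨α, β, g1, g2, g3⟩ := exists_el_move K (b := ρ) (c := (0 : F)) (b' := ρ') (c' := b)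
    (by rw [nm_zero, add_zero]; exact fun e => hv0 ((nm_eq_zero K).1 e))
    (by rw [nm_zero, hb]; ring)
  obtain ⟨t, ht⟩ := exists_el K (show j + 1 < n by omega) g1
  set v2 := app t v1 with hv2'
  have b0 : cd v2 j = ρ' := by rw [hv2', (ht.2.2 v1).1, a0, a1, g2]
  have b1 : cd v2 (j + 1) = b := by rw [hv2', (ht.2.2 v1).2, a0, a1, g3]
  have b2 : cd v2 (j + 2) = σ := by rw [hv2', ht.cd_ne K v1 (by omega) (by omega), a2]
  obtain ⟨α', β', k1, k2, k3⟩ := exists_el_move K (b := b) (c := σ) (b' := σ') (c' := (0 : F))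
    (fun e => hw0 ((nm_eq_zero K).1 (show nm K ρ' = 0 by linear_combination hv + hb - e)))
    (by rw [nm_zero]; linear_combination hw - hv - hb)
  obtain ⟨u, hu⟩ := exists_el K (show j + 1 + 1 < n by omega) k1
  refine ⟨u * t * s, mul_mem (mul_mem (Blk_mono (by omega) (by omega) hu.1)
    (Blk_mono le_rfl (by omega) ht.1)) (Blk_mono (by omega) (by omega) hs.1), ?_⟩
  rw [app_mul, app_mul, ← hv1, ← hv2']
  refine ext_cd fun i _ => ?_
  by_cases e0 : i = j
  · subst e0; rw [hu.cd_ne K v2 (by omega) (by omega), b0]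
  by_cases e1 : i = j + 1
  · subst e1; rw [(hu.2.2 v2).1, show j + 1 + 1 = j + 2 by omega, b1, b2, k2]
  by_cases e2 : i = j + 2
  · subst e2
    rw [show j + 2 = j + 1 + 1 by omega, (hu.2.2 v2).2, show j + 1 + 1 = j + 2 by omega, b1, b2, k3, hw2]
  rw [hu.cd_ne K v2 (by omega) (by omega), hv2', ht.cd_ne K v1 (by omega) (by omega), hv1,
    hs.cd_ne K v (by omega) (by omega), hout i (by omega)]

/-! ### The stabiliser of a null vector -/

include K in
theorem exists_eichler {ρ σ : F} (h : nm K ρ + nm K σ = 0) (c : F) :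
    ∃ E : SU 3 F q, app E ![ρ, σ, 0] = ![ρ, σ, 0] ∧
      ∀ x : Fin 3 → F, app E x 2 = x 2 + (x 0 * K.bar ρ + x 1 * K.bar σ) * c := by
  obtain ⟨lam, hlam⟩ := exists_trace_eq K (s := nm K c) (bar_nm K c)
  have hn : ρ * K.bar ρ + σ * K.bar σ = 0 := h
  let Mx : Matrix (Fin 3) (Fin 3) F :=
    !![1 - lam * K.bar ρ * ρ, -(lam * K.bar σ * ρ), -(K.bar c * ρ);
       -(lam * K.bar ρ * σ), 1 - lam * K.bar σ * σ, -(K.bar c * σ);
       c * K.bar ρ, c * K.bar σ, 1]
  have hd : Mx.det = 1 := by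
    simp [Mx, Matrix.det_fin_three]
    linear_combination (c * K.bar c - lam) * hn
  have happ : ∀ x : Fin 3 → F, Mx *ᵥ x =
      ![x 0 - (K.bar c * x 2 + lam * (x 0 * K.bar ρ + x 1 * K.bar σ)) * ρ,
        x 1 - (K.bar c * x 2 + lam * (x 0 * K.bar ρ + x 1 * K.bar σ)) * σ,
        x 2 + (x 0 * K.bar ρ + x 1 * K.bar σ) * c] := fun x => by
    funext i
    fin_cases i <;> simp [Mx, mulVec, dotProduct, Fin.sum_univ_three] <;> ring
  refine ⟨⟨⟨Mx, hd⟩, fun u v => ?_⟩, ?_, fun x => ?_⟩
  · show hermForm 3 F q (Mx *ᵥ u) (Mx *ᵥ v) = hermForm 3 F q u v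
    simp only [Unitary.herm_apply K, Fin.sum_univ_three, happ]
    simp only [Matrix.cons_val_zero, Matrix.cons_val_one, Matrix.cons_val_two, Matrix.head_cons,
      Matrix.tail_cons, map_sub, map_add, map_mul, K.bar_bar]
    rw [nm] at hlam
    set a := u 0 * K.bar ρ + u 1 * K.bar σ
    linear_combination ((K.bar c * u 2 + lam * a) *
        (c * K.bar (v 2) + K.bar lam * (K.bar (v 0) * ρ + K.bar (v 1) * σ))) * hn
      - (a * (K.bar (v 0) * ρ + K.bar (v 1) * σ)) * hlam
  · show Mx *ᵥ _ = _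
    rw [happ]
    funext i
    fin_cases i <;> simp [hn]
  · show (Mx *ᵥ x) 2 = _
    rw [happ]; rfl

include K in
/-- The stabiliser of a null vector of two coordinates, by generators. -/
theorem null_stab_mem {j : ℕ} (hj : j + 4 ≤ n) {r : Fin n → F}
    (hr : ∀ i, i ≠ j → i ≠ j + 1 → cd r i = 0)
    (hn : nm K (cd r j) + nm K (cd r (j + 1)) = 0) (hr0 : cd r j ≠ 0) (Hs : Subgroup (SU n F q))
    (hwin : ∀ g ∈ (Blk j (j + 3) : Subgroup (SU n F q)), app g r = r → g ∈ Hs)
    (hfar : (Fix (j + 2) : Subgroup (SU n F q)) ≤ Hs) {g : SU n F q} (hg : g ∈ Fix j)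
    (hgr : app g r = r) : g ∈ Hs := by
  set ρ := cd r j with hρ
  set σ := cd r (j + 1) with hσ
  have hσ0 : σ ≠ 0 := fun e => hr0 ((nm_eq_zero K).1 (by rwa [e, nm_zero, add_zero] at hn))
  have hρb : K.bar ρ ≠ 0 := (map_ne_zero K.bar).2 hr0
  have hfarfix : ∀ l ∈ (Fix (j + 2) : Subgroup (SU n F q)), app l r = r := fun l hl =>
    fix_of_supp fun i _ hi => hl i (by by_contra hc; exact hi (hr i (by omega) (by omega)))
  -- reduce the tail of the image of the first axis
  have main : ∀ g ∈ (Fix j : Subgroup (SU n F q)), app g r = r →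
      (∀ i, j + 2 ≤ i → cd (app g (bv j : Fin n → F)) i = 0) → g ∈ Hs := by
    intro g hg hgr hz
    set u := app g (bv j : Fin n → F) with hu
    have hh : hermForm n F q u r = K.bar ρ := by
      conv_lhs => rw [← hgr, hu, h_app, h_swap K r (bv j), h_bv K]
    have hrW : ∀ x : Fin n → F, hermForm n F q x r = cd x j * K.bar ρ + cd x (j + 1) * K.bar σ := by
      intro x
      rw [Unitary.herm_apply K, Finset.sum_eq_add (⟨j, by omega⟩ : Fin n) ⟨j + 1, by omega⟩
        (by simp) (fun i _ hi => ?_) (by simp) (by simp)]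
      · have ej : ∀ (y : Fin n → F) (l : ℕ) (hl : l < n), y ⟨l, hl⟩ = cd y l := fun y l hl =>
          (cd_coe y ⟨l, hl⟩).symm
        rw [ej x j, ej r j, ej x (j + 1), ej r (j + 1)]
      · rw [← cd_coe r i, hr i (fun e => hi.1 (Fin.ext e)) (fun e => hi.2 (Fin.ext e)), map_zero,
          mul_zero]
    rw [hrW] at hh
    have huW : u ∈ W j := Fix_app_W K hg (bv_mem_W le_rfl)
    have hn1 := norm_range K 2 huW hz
    rw [hu, h_app, h_bv K, cd_bv, if_pos ⟨rfl, by omega⟩, ← hu, Finset.sum_range_succ,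
      Finset.sum_range_one, add_zero] at hn1
    set a := cd u j
    set b := cd u (j + 1)
    obtain ⟨e, he⟩ := exists_el K (show j + 1 < n by omega) (α := a) (β := b) hn1.symm
    have h1 : a * K.bar ρ + b * K.bar σ = K.bar ρ := hh
    have h1' : K.bar a * ρ + K.bar b * σ = ρ := by
      simpa [K.bar_bar] using congrArg K.bar h1
    have hn' : ρ * K.bar ρ + σ * K.bar σ = 0 := hn
    have hd : a * K.bar a + b * K.bar b = 1 := hn1.symm
    have her : app e r = r := by
      refine ext_cd fun i _ => ?_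
      by_cases e0 : i = j
      · subst e0
        rw [(he.2.2 r).1, ← hρ, ← hσ]
        refine mul_left_cancel₀ hρb ?_
        linear_combination (K.bar b * σ) * h1 - (a * K.bar ρ) * h1' - (b * K.bar b) * hn' +
          (ρ * K.bar ρ) * hd
      by_cases e1 : i = j + 1
      · subst e1
        rw [(he.2.2 r).2, ← hρ, ← hσ]
        refine mul_left_cancel₀ ((map_ne_zero K.bar).2 hσ0) ?_
        linear_combination (ρ - K.bar b * σ) * h1 - (K.bar ρ * (1 - a)) * h1' +
          (b * K.bar b + K.bar a - 1) * hn' - (ρ * K.bar ρ) * hd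
      rw [he.cd_ne K r e0 e1]
    have heu : app e (bv j : Fin n → F) = u := by
      refine ext_cd fun i _ => ?_
      rw [he.2.1, cd_add, cd_smul, cd_smul, cd_bv, cd_bv]
      by_cases e0 : i = j
      · subst e0; rw [if_pos ⟨rfl, by omega⟩, if_neg (by omega), mul_one, mul_zero, add_zero]
      by_cases e1 : i = j + 1
      · subst e1; rw [if_neg (by omega), if_pos ⟨rfl, by omega⟩, mul_one, mul_zero, zero_add]
      rw [if_neg (fun c => e0 c.1), if_neg (fun c => e1 c.1), mul_zero, mul_zero, add_zero]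
      rcases (show i < j ∨ j + 2 ≤ i by omega) with h' | h'
      exacts [(mem_W.1 huW i h').symm, (hz i h').symm]
    have hrest : e⁻¹ * g ∈ (Fix (j + 2) : Subgroup (SU n F q)) := fun i hi => by
      have hF : e⁻¹ * g ∈ (Fix j : Subgroup (SU n F q)) := mul_mem (inv_mem (Blk_le_Fix le_rfl he.1)) hg
      have hj0 : app (e⁻¹ * g) (bv j : Fin n → F) = bv j := by rw [app_mul, ← hu, ← heu, app_inv]
      have hr' : app (e⁻¹ * g) r = r := by rw [app_mul, hgr]; conv_lhs => rw [← her, app_inv]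
      rcases (show i < j ∨ i = j ∨ i = j + 1 by omega) with h' | rfl | rfl
      · exact hF i h'
      · exact hj0
      · have hsum : r = ρ • bv j + σ • bv (j + 1) := ext_cd fun l hl => by
          rw [cd_add, cd_smul, cd_smul, cd_bv, cd_bv]
          by_cases e0 : l = j
          · subst e0; rw [if_pos ⟨rfl, hl⟩, if_neg (by omega), mul_one, mul_zero, add_zero]
          by_cases e1 : l = j + 1
          · subst e1; rw [if_neg (by omega), if_pos ⟨rfl, hl⟩, mul_one, mul_zero, zero_add]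
          rw [if_neg (fun c => e0 c.1), if_neg (fun c => e1 c.1), mul_zero, mul_zero, add_zero]
          exact hr l e0 e1
        rw [hsum, app_add, app_smul, app_smul, hj0] at hr'
        have := congrArg (fun x => σ⁻¹ • x) (add_left_cancel hr')
        simpa [smul_smul, inv_mul_cancel₀ hσ0] using this
    rw [← mul_inv_cancel_left e g]
    exact mul_mem (hwin e (Blk_mono le_rfl (by omega) he.1) her) (hfar hrest)
  -- killing one entry
  have kill : ∀ x : Fin n → F, hermForm n F q x r = K.bar ρ →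
      ∃ e ∈ (Blk j (j + 3) : Subgroup (SU n F q)), app e r = r ∧ cd (app e x) (j + 2) = 0 ∧
        hermForm n F q (app e x) r = K.bar ρ := by
    intro x hx
    obtain ⟨E, hE1, hE2⟩ := exists_eichler K hn (-(cd x (j + 2)) / K.bar ρ)
    have her : app (emb K (show j + 3 ≤ n by omega) E) r = r := by
      refine emb_three K _ E (x := ![ρ, σ, 0]) (fun a => ?_) (fun a => ?_) fun _ _ => rfl
      · fin_cases a <;> first | rfl | exact hr _ (by simp) (by simp)
      · rw [hE1]; fin_cases a <;> first | rfl | exact hr _ (by simp) (by simp)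
    refine ⟨_, emb_mem_Blk K _ E, her, ?_, by conv_lhs => rw [← her, h_app]; exact hx⟩
    have hxr : cd x j * K.bar ρ + cd x (j + 1) * K.bar σ = K.bar ρ := by
      conv_rhs => rw [← hx]
      rw [Unitary.herm_apply K, Finset.sum_eq_add (⟨j, by omega⟩ : Fin n) ⟨j + 1, by omega⟩
        (by simp) (fun i _ hi => ?_) (by simp) (by simp)]
      · have ej : ∀ (y : Fin n → F) (l : ℕ) (hl : l < n), y ⟨l, hl⟩ = cd y l := fun y l hl =>
          (cd_coe y ⟨l, hl⟩).symm
        rw [ej x j, ej r j, ej x (j + 1), ej r (j + 1)]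
      · rw [← cd_coe r i, hr i (fun e => hi.1 (Fin.ext e)) (fun e => hi.2 (Fin.ext e)), map_zero,
          mul_zero]
    rw [cd_emb K _ _ _ (show 2 < 3 by norm_num), cd, dif_pos (show 2 < 3 by norm_num)]
    refine (hE2 _).trans ?_
    show cd x (j + 2) + (cd x (j + 0) * K.bar ρ + cd x (j + 1) * K.bar σ) * _ = 0
    rw [add_zero, hxr, mul_div_cancel₀ _ hρb, add_neg_cancel]
  set u := app g (bv j : Fin n → F) with hu
  have hu0 : hermForm n F q u r = K.bar ρ := by
    conv_lhs => rw [← hgr, hu, h_app, h_swap K r (bv j), h_bv K]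
  have huW : u ∈ W j := Fix_app_W K hg (bv_mem_W le_rfl)
  obtain ⟨l1, hl1, hl1u⟩ := exists_push K (j := j + 2) n le_rfl u (fun i hi => by simp [cd, not_lt.2 hi])
  have hl1F : l1 ∈ (Fix (j + 2) : Subgroup (SU n F q)) := Blk_le_Fix le_rfl hl1
  have hu1 : hermForm n F q (app l1 u) r = K.bar ρ := by
    conv_lhs => rw [← hfarfix l1 hl1F, h_app, hu0]
  obtain ⟨e1, he1, he1r, he1z, hu2⟩ := kill (app l1 u) hu1
  obtain ⟨s, hs⟩ := exists_el K (show j + 2 + 1 < n by omega) (α := (0 : F)) (β := 1)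
    (by rw [nm_zero, nm_one, zero_add])
  have hsF : s ∈ (Fix (j + 2) : Subgroup (SU n F q)) := Blk_le_Fix le_rfl hs.1
  have hu3 : hermForm n F q (app s (app e1 (app l1 u))) r = K.bar ρ := by
    conv_lhs => rw [← hfarfix s hsF, h_app, hu2]
  obtain ⟨e2, he2, he2r, he2z, -⟩ := kill _ hu3
  set m := e2 * s * e1 * l1
  have hmr : app m r = r := by
    simp only [m, app_mul]
    rw [hfarfix l1 hl1F, he1r, hfarfix s hsF, he2r]
  have hmH : m ∈ Hs := mul_mem (mul_mem (mul_mem (hwin e2 he2 he2r) (hfar hsF)) (hwin e1 he1 he1r))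
    (hfar hl1F)
  have hmF : m ∈ (Fix j : Subgroup (SU n F q)) := mul_mem (mul_mem (mul_mem (Blk_le_Fix le_rfl he2) (Fix_anti (by omega) hsF))
    (Blk_le_Fix le_rfl he1)) (Fix_anti (by omega) hl1F)
  have := main (m * g) (mul_mem hmF hg) (by rw [app_mul, hgr, hmr]) fun i hi => by
    rw [app_mul, ← hu]
    simp only [m, app_mul]
    rcases (show i = j + 2 ∨ j + 3 ≤ i by omega) with rfl | hi'
    · exact he2z
    rw [Blk_cd K he2 _ (.inr hi')]
    rcases (show i = j + 2 + 1 ∨ j + 4 ≤ i by omega) with rfl | hi''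
    · rw [(hs.2.2 _).2, he1z, map_zero, zero_mul, add_zero, mul_zero]
    rw [hs.cd_ne K _ (by omega) (by omega), Blk_cd K he1 _ (.inr hi')]
    exact hl1u i (by omega)
  rw [← inv_mul_cancel_left m g]
  exact mul_mem (inv_mem hmH) this

end CfsgLib.PhanSmall
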