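import Mathlib.Data.ZMod.Basic
import Mathlib.Data.Fintype.Pi
import Mathlib.Data.Fin.VecNotation

/-!
# The patterns of exponents of three commuting tori in four dimensions
-/

set_option autoImplicit false

namespace CfsgLib.PhanSmall

/-- Four exponents with sum zero. -/
def quad {m : ℕ} (a b c : ZMod m) : Fin 4 → ZMod m := ![a, b, c, -(a + b + c)]

/-- The number of occurrences. -/
def cnt {m : ℕ} (e : Fin 4 → ZMod m) (z : ZMod m) : ℕ :=
  (if e 0 = z then 1 else 0) + (if e 1 = z then 1 else 0) + (if e 2 = z then 1 else 0) +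
    (if e 3 = z then 1 else 0)

/-- The same exponents up to order. -/
abbrev Sim {m : ℕ} (e f : Fin 4 → ZMod m) : Prop := ∀ z, cnt e z = cnt f z

/-- Three distinct places carrying `1, -1, 0` and `0, 1, -1`. -/
abbrev Placed {m : ℕ} (s t : Fin 4 → ZMod m) : Prop :=
  ∃ i j k : Fin 4, i ≠ j ∧ i ≠ k ∧ j ≠ k ∧
    s i = 1 ∧ s j = -1 ∧ s k = 0 ∧ t i = 0 ∧ t j = 1 ∧ t k = -1

/-- The statement about a pair of tori. -/
abbrev PatPair (m : ℕ) [NeZero m] : Prop :=
  ∀ a b c : ZMod m, quad a b c ≠ -quad a b c → Sim (quad a b c) (-quad a b c) →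
    ∀ a' b' c' : ZMod m, quad a b c ≠ quad a' b' c' →
      quad a b c + quad a' b' c' ≠ -(quad a b c + quad a' b' c') →
      Sim (quad a' b' c') (quad a b c) → Sim (quad a b c + quad a' b' c') (quad a b c) →
      Placed (quad a b c) (quad a' b' c') ∨ Placed (-quad a b c) (-quad a' b' c')

/-- The statement about the third torus. -/
abbrev PatThird (m : ℕ) [NeZero m] : Prop :=
  ∀ a b c : ZMod m, quad a b c ≠ ![0, 1, -1, 0] → quad a b c ≠ ![1, -1, 0, 0] →
    quad a b c ≠ -![1, -1, 0, 0] → quad a b c ≠ -quad a b c →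
    Sim (quad a b c) ![0, 1, -1, 0] → Sim (![0, 1, -1, 0] + quad a b c) ![0, 1, -1, 0] →
    Sim (![1, -1, 0, 0] + quad a b c) (-![1, -1, 0, 0] + quad a b c) →
    quad a b c = ![0, 0, 1, -1]

set_option synthInstance.maxSize 4096
set_option synthInstance.maxHeartbeats 400000
set_option maxHeartbeats 4000000

theorem patPair_three : PatPair 3 := by decide +kernel

theorem patPair_four : PatPair 4 := by decide +kernel

theorem patThird_three : PatThird 3 := by decide +kernel

theorem patThird_four : PatThird 4 := by decide +kernel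

end CfsgLib.PhanSmall
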