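import Cfsg.Agent.Lib.PhanSmall.Eigen
import Cfsg.Agent.Lib.PhanSmall.Pattern

/-!
# The eigenframe of the three tori
-/

set_option autoImplicit false
set_option linter.unusedSectionVars false

namespace CfsgLib.PhanSmall

open Matrix Cfsg
open CfsgLib.Classical.Herm
open CfsgLib.Classical.Phan hiding two_mul
open CfsgLib.ClassicalAut (Unitary.Conj Unitary.space Unitary.herm_apply)

variable {F : Type*} [Field F] [Finite F] {q : ℕ} (K : Unitary.Conj F q)

/-- The powers of `l` along residues. -/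
def pw (l : F) (z : ZMod (q + 1)) : F := l ^ z.val

variable (hq : q = 2 ∨ q = 3) {l : F} (hl : nm K l = 1) (hl' : K.bar l ≠ l)

include K hl in
theorem pw_add (a b : ZMod (q + 1)) : pw l (a + b) = pw l a * pw l b := by
  rw [pw, pw, pw, ← pow_add, ZMod.val_add]
  exact (pow_eq_pow_mod _ (l_pow K hl)).symm

include K hl in
theorem pw_zero : pw l (0 : ZMod (q + 1)) = 1 := by rw [pw, ZMod.val_zero, pow_zero]

include K hq hl hl' in
theorem pw_inj : Function.Injective (pw l : ZMod (q + 1) → F) := fun a b e =>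
  ZMod.val_injective (q + 1) (l_pow_inj K hq hl hl' (ZMod.val_lt a) (ZMod.val_lt b) e)

include K hl in
theorem pw_natCast (n : ℕ) : pw l (n : ZMod (q + 1)) = l ^ n := by
  rw [pw, ZMod.val_natCast]
  exact (pow_eq_pow_mod _ (l_pow K hl)).symm

include K hl in
theorem pw_one : pw l (1 : ZMod (q + 1)) = l := by
  have := pw_natCast K hl 1
  rwa [Nat.cast_one, pow_one] at this

include K hl in
theorem pw_neg_one : pw l (-1 : ZMod (q + 1)) = K.bar l := by
  have h : pw l (-1 : ZMod (q + 1)) * l = 1 := by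
    conv_lhs => arg 2; rw [← pw_one K hl]
    rw [← pw_add K hl, neg_add_cancel, pw_zero K hl]
  have h0 : l ≠ 0 := fun e => by rw [e, mul_zero] at h; exact zero_ne_one h
  exact mul_right_cancel₀ h0 (h.trans ((mul_comm _ _).trans hl).symm)

include K hq hl hl' in
theorem exists_exp {c : F} (hc : nm K c = 1) : ∃ z : ZMod (q + 1), pw l z = c := by
  suffices ∃ n : ℕ, l ^ n = c by
    obtain ⟨n, hn⟩ := this
    exact ⟨n, by rw [pw_natCast K hl, hn]⟩
  by_cases hb : K.bar c = c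
  · rcases fixed_norm_one K hq hc hb with rfl | rfl
    · exact ⟨0, pow_zero l⟩
    rcases hq with h | h
    · exact ⟨0, by rw [pow_zero]; linear_combination two_eq_zero K h⟩
    · exact ⟨2, by rw [pow_two]; exact ((bar_root K (.inr h) hl hl').2 h).1⟩
  · rcases norm_one_cases K hq hc hb hl hl' with rfl | rfl
    · exact ⟨1, pow_one c⟩
    · exact ⟨q, (K.bar_apply l).symm⟩

/-- Diagonal with the exponents `e`. -/
def IsE (l : F) (x : SU 4 F q) (e : Fin 4 → ZMod (q + 1)) : Prop :=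
  IsDg x fun i => if h : i < 4 then pw l (e ⟨i, h⟩) else 0

include K hl in
theorem IsE.mul {x y : SU 4 F q} {d e : Fin 4 → ZMod (q + 1)} (hx : IsE l x d) (hy : IsE l y e) :
    IsE l (x * y) (d + e) := fun i hi => by
  rw [IsDg.mul hx hy i hi]
  simp only [dif_pos hi, Pi.add_apply, pw_add K hl]

include K hl in
theorem IsE.inv {x : SU 4 F q} {d : Fin 4 → ZMod (q + 1)} (hx : IsE l x d) :
    IsE l x⁻¹ (-d) :=
  IsDg.inv hx fun i hi => by
    simp only [dif_pos hi, Pi.neg_apply]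
    rw [← pw_add K hl, neg_add_cancel, pw_zero K hl]

theorem IsE.eq {x y : SU 4 F q} {d : Fin 4 → ZMod (q + 1)} (hx : IsE l x d) (hy : IsE l y d) :
    x = y :=
  IsDg.eq hx hy fun _ _ => rfl

include K hq hl hl' in
theorem exists_IsE {x : SU 4 F q} {d : ℕ → F} (hx : IsDg x d) :
    ∃ a b c : ZMod (q + 1), IsE l x (quad a b c) := by
  have h : ∀ i : Fin 4, ∃ z : ZMod (q + 1), pw l z = d i := fun i =>
    exists_exp K hq hl hl' (hx.nm K i.2)
  choose e he using h
  have hs : e 0 + e 1 + e 2 + e 3 = 0 := by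
    apply pw_inj K hq hl hl'
    rw [pw_add K hl, pw_add K hl, pw_add K hl, pw_zero K hl, he, he, he, he]
    exact hx.prod
  refine ⟨e 0, e 1, e 2, fun i hi => ?_⟩
  have hq4 : quad (e 0) (e 1) (e 2) = e := funext fun j => by
    fin_cases j
    · rfl
    · rfl
    · rfl
    · exact neg_eq_of_add_eq_zero_right hs
  rw [hq4, hx i hi]
  simp only [dif_pos hi, he]

include K hq hl hl' in
theorem IsE.sim {x y g : SU 4 F q} {d e : Fin 4 → ZMod (q + 1)} (hx : IsE l x d) (hy : IsE l y e)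
    (h : g * x = y * g) : Sim d e := by
  have h1 := dg_roots hx hy h
  simp only [Fin.is_lt, dite_true, Fin.eta] at h1
  have h2 : (Finset.univ : Finset (Fin 4)).val.map d = (Finset.univ : Finset (Fin 4)).val.map e := by
    refine Multiset.map_injective (pw_inj K hq hl hl') ?_
    rw [Multiset.map_map, Multiset.map_map]
    exact h1
  intro z
  have h3 := congrArg (fun M => (M.map fun a => if a = z then (1 : ℕ) else 0).sum) h2
  simp only [Multiset.map_map] at h3
  have key : ∀ f : Fin 4 → ZMod (q + 1),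
      (((Finset.univ : Finset (Fin 4)).val.map ((fun a => if a = z then (1 : ℕ) else 0) ∘ f))).sum = cnt f z :=
    fun f => Fin.sum_univ_four (fun i => if f i = z then (1 : ℕ) else 0)
  rwa [key, key] at h3

include K hq hl hl' in
/-- The exponents after a change of frame by three places. -/
theorem exists_reframe (i j k : Fin 4) (hij : i ≠ j) (hik : i ≠ k) (hjk : j ≠ k) :
    ∃ g : SU 4 F q, ∀ (x : SU 4 F q) (e : Fin 4 → ZMod (q + 1)), IsE l x e →
      e 0 + e 1 + e 2 + e 3 = 0 →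
      IsE l (g⁻¹ * x * g) ![e i, e j, e k, -(e i + e j + e k)] := by
  classical
  set S := Unitary.space (n := 4) K
  let σ : ℕ → Fin 4 := fun a => if a = 0 then i else if a = 1 then j else k
  have hH : ∀ a b, a < 3 → b < 3 →
      hermForm 4 F q (bv (σ a : ℕ) : Fin 4 → F) (bv (σ b : ℕ)) = if a = b then 1 else 0 := by
    intro a b ha hb
    rw [h_bv K, cd_bv]
    have : σ b = σ a ↔ a = b := by
      rcases (show a = 0 ∨ a = 1 ∨ a = 2 by omega) with rfl | rfl | rfl <;>
        rcases (show b = 0 ∨ b = 1 ∨ b = 2 by omega) with rfl | rfl | rfl <;>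
        simp [σ, hij, hik, hjk, hij.symm, hik.symm, hjk.symm]
    by_cases e : a = b
    · rw [if_pos e, if_pos ⟨congrArg Fin.val (this.2 e), (σ b).2⟩]
    · rw [if_neg e, if_neg (fun c => e (this.1 (Fin.ext c.1)))]
  obtain ⟨g, hg⟩ := exists_frame K (fun a => (bv (σ a : ℕ) : Fin 4 → F)) hH
  obtain ⟨m, hmi, hmj, hmk⟩ : ∃ m : Fin 4, m ≠ i ∧ m ≠ j ∧ m ≠ k :=
    (by decide : ∀ i j k : Fin 4, i ≠ j → i ≠ k → j ≠ k → ∃ m : Fin 4, m ≠ i ∧ m ≠ j ∧ m ≠ k)
      i j k hij hik hjk
  have h3 : ∀ p : Fin 4, p ≠ m → cd (app g (bv 3 : Fin 4 → F)) p = 0 := fun p hp => by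
    obtain ⟨a, ha, rfl⟩ : ∃ a, a < 3 ∧ σ a = p := by
      have : p = i ∨ p = j ∨ p = k :=
        (by decide : ∀ i j k m p : Fin 4, i ≠ j → i ≠ k → j ≠ k → m ≠ i → m ≠ j → m ≠ k → p ≠ m →
          p = i ∨ p = j ∨ p = k) i j k m p hij hik hjk hmi hmj hmk hp
      rcases this with rfl | rfl | rfl
      exacts [⟨0, by norm_num, rfl⟩, ⟨1, by norm_num, rfl⟩, ⟨2, by norm_num, rfl⟩]
    rw [← h_bv K, ← hg a ha, h_app, h_bv K, cd_bv, if_neg (by omega)]
  refine ⟨g, fun x e hx hs p hp => ?_⟩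
  have hm : e m = -(e i + e j + e k) := by
    have : e i + e j + e k + e m = e 0 + e 1 + e 2 + e 3 := by
      have hbij : Function.Bijective ![i, j, k, m] := by
        refine Finite.injective_iff_bijective.1 ?_
        intro a b h
        fin_cases a <;> fin_cases b <;> simp_all [Ne.symm]
      have := Function.Bijective.sum_comp hbij e
      rwa [Fin.sum_univ_four, Fin.sum_univ_four] at this
    exact (neg_eq_of_add_eq_zero_right (this.trans hs)).symm
  have hgm : app g (bv 3 : Fin 4 → F) = cd (app g (bv 3 : Fin 4 → F)) m • bv (m : ℕ) := ext_cd fun r hr => by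
    rw [cd_smul, cd_bv]
    by_cases c : r = m
    · subst c; rw [if_pos ⟨rfl, hr⟩, mul_one]
    · rw [if_neg (fun h => c h.1), mul_zero]
      exact h3 ⟨r, hr⟩ fun h => c (congrArg Fin.val h)
  simp only [dif_pos hp, app_mul]
  have hx' : ∀ r : Fin 4, app x (bv (r : ℕ) : Fin 4 → F) = pw l (e r) • bv (r : ℕ) := fun r => by
    rw [hx r r.2]; simp only [dif_pos r.2]
  have fin : ∀ (t : F) (r : Fin 4), app g (bv p : Fin 4 → F) = t • bv (r : ℕ) →
      app g⁻¹ (app x (app g (bv p : Fin 4 → F))) = pw l (e r) • bv p := fun t r h => by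
    rw [h, app_smul, hx', smul_comm, ← h, app_smul, app_inv]
  rcases (show p = 0 ∨ p = 1 ∨ p = 2 ∨ p = 3 by omega) with rfl | rfl | rfl | rfl
  · exact fin 1 i ((hg 0 (by norm_num)).trans (one_smul _ _).symm)
  · exact fin 1 j ((hg 1 (by norm_num)).trans (one_smul _ _).symm)
  · exact fin 1 k ((hg 2 (by norm_num)).trans (one_smul _ _).symm)
  · rw [fin _ m hgm, hm]; rfl

include K hq hl hl' in
/-- The frame of three tori with the relations of the blocks. -/
theorem exists_torus_frame {a b c w₁ w₂ w₃ w₄ w₅ : SU 4 F q}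
    (hpa : a ^ (q + 1) = 1) (hpb : b ^ (q + 1) = 1) (hpc : c ^ (q + 1) = 1)
    (hab : Commute a b) (hac : Commute a c) (hbc : Commute b c)
    (r1 : w₁ * a = a⁻¹ * w₁) (r2 : w₂ * a = (a * b) * w₂) (r3 : w₃ * b = (a * b) * w₃)
    (r4 : w₄ * b = (b * c) * w₄) (r5 : w₅ * c = (b * c) * w₅) (r6 : w₁ * c = c * w₁)
    (na : a ≠ a⁻¹) (nab : a ≠ b) (nbc : b ≠ c) (nc : c ≠ c⁻¹) :
    ∃ g : SU 4 F q, ∃ pos : Bool,
      IsE l (if pos then g⁻¹ * a * g else g⁻¹ * a⁻¹ * g) ![1, -1, 0, 0] ∧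
      IsE l (if pos then g⁻¹ * b * g else g⁻¹ * b⁻¹ * g) ![0, 1, -1, 0] ∧
      IsE l (if pos then g⁻¹ * c * g else g⁻¹ * c⁻¹ * g) ![0, 0, 1, -1] := by
  have hP1 : PatPair (q + 1) := by
    rcases hq with rfl | rfl
    exacts [patPair_three, patPair_four]
  have hP2 : PatThird (q + 1) := by
    rcases hq with rfl | rfl
    exacts [patThird_three, patThird_four]
  obtain ⟨g, hg⟩ := exists_diag K hq hl hl' hpa hpb hpc hab hac hbc
  let φ := MulAut.conj g⁻¹
  have hφ : ∀ x, φ x = g⁻¹ * x * g := fun x => by simp [φ]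
  obtain ⟨da, hda⟩ := hg a (.inl rfl)
  obtain ⟨db, hdb⟩ := hg b (.inr (.inl rfl))
  obtain ⟨dc, hdc⟩ := hg c (.inr (.inr rfl))
  rw [← hφ] at hda hdb hdc
  obtain ⟨a1, a2, a3, ha⟩ := exists_IsE K hq hl hl' hda
  obtain ⟨b1, b2, b3, hb⟩ := exists_IsE K hq hl hl' hdb
  obtain ⟨c1, c2, c3, hc⟩ := exists_IsE K hq hl hl' hdc
  set s := quad a1 a2 a3
  set t := quad b1 b2 b3
  set u := quad c1 c2 c3
  have hne : ∀ {x y : SU 4 F q} {d e}, IsE l (φ x) d → IsE l (φ y) e → x ≠ y → d ≠ e :=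
    fun hx hy hn e => hn (φ.injective (IsE.eq hx (e ▸ hy)))
  have hmul : ∀ {x y : SU 4 F q} {d e}, IsE l (φ x) d → IsE l (φ y) e → IsE l (φ (x * y)) (d + e) :=
    fun hx hy => by rw [map_mul]; exact hx.mul K hl hy
  have hinv : ∀ {x : SU 4 F q} {d}, IsE l (φ x) d → IsE l (φ x⁻¹) (-d) :=
    fun hx => by rw [map_inv]; exact hx.inv K hl
  have hsim : ∀ {x y w : SU 4 F q} {d e}, IsE l (φ x) d → IsE l (φ y) e → w * x = y * w → Sim d e :=
    fun {x y w d e} hx hy h => IsE.sim K hq hl hl' (g := φ w) hx hy (by rw [← map_mul, h, map_mul])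
  have sim1 := hsim ha (hinv ha) r1
  have sim2 := hsim ha (hmul ha hb) r2
  have sim3 := hsim hb (hmul ha hb) r3
  have nst : s + t ≠ -(s + t) := by
    refine hne (hmul ha hb) (hinv (hmul ha hb)) fun e => na ?_
    have h1 : w₂ * a * w₂⁻¹ = a * b := by rw [r2, mul_inv_cancel_right]
    have h2 : w₂ * a⁻¹ * w₂⁻¹ = (a * b)⁻¹ := by rw [← h1]; group
    rw [← h2, ← h1] at e
    have := congrArg (fun z => w₂⁻¹ * z * w₂) e
    simpa [mul_assoc] using this
  have hpl := hP1 a1 a2 a3 (hne ha (hinv ha) na) sim1 b1 b2 b3 (hne ha hb nab) nst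
    (fun z => (sim3 z).trans (sim2 z).symm) (fun z => (sim2 z).symm)
  -- the frame of the first two
  have hsum : ∀ x y z : ZMod (q + 1), quad x y z 0 + quad x y z 1 + quad x y z 2 + quad x y z 3 = 0 :=
    fun x y z => by simp [quad]
  obtain ⟨pos, hgood⟩ : ∃ pos : Bool, ∃ i j k : Fin 4, i ≠ j ∧ i ≠ k ∧ j ≠ k ∧
      (if pos then s else -s) i = 1 ∧ (if pos then s else -s) j = -1 ∧ (if pos then s else -s) k = 0 ∧
      (if pos then t else -t) i = 0 ∧ (if pos then t else -t) j = 1 ∧ (if pos then t else -t) k = -1 := by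
    rcases hpl with h | h
    exacts [⟨true, h⟩, ⟨false, h⟩]
  obtain ⟨i, j, k, hij, hik, hjk, si, sj, sk, ti, tj, tk⟩ := hgood
  obtain ⟨g', hg'⟩ := exists_reframe K hq hl hl' i j k hij hik hjk
  set e : SU 4 F q → SU 4 F q := fun x => if pos then x else x⁻¹
  have he : ∀ {x : SU 4 F q} {x1 x2 x3 : ZMod (q + 1)}, IsE l (φ x) (quad x1 x2 x3) →
      IsE l ((g * g')⁻¹ * e x * (g * g'))
        ![(if pos then quad x1 x2 x3 else -quad x1 x2 x3) i,
          (if pos then quad x1 x2 x3 else -quad x1 x2 x3) j,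
          (if pos then quad x1 x2 x3 else -quad x1 x2 x3) k,
          -((if pos then quad x1 x2 x3 else -quad x1 x2 x3) i +
            (if pos then quad x1 x2 x3 else -quad x1 x2 x3) j +
            (if pos then quad x1 x2 x3 else -quad x1 x2 x3) k)] := by
    intro x x1 x2 x3 hx
    have h1 : IsE l (φ (e x)) (if pos then quad x1 x2 x3 else -quad x1 x2 x3) := by
      cases pos
      exacts [hinv hx, hx]
    have h2 := hg' _ _ h1 (by
      cases pos
      · simp only [Bool.false_eq_true, if_false, Pi.neg_apply]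
        linear_combination -(hsum x1 x2 x3)
      · simpa using hsum x1 x2 x3)
    rw [hφ] at h2
    rwa [show (g * g')⁻¹ * e x * (g * g') = g'⁻¹ * (g⁻¹ * e x * g) * g' by group]
  have hA := he ha
  have hB := he hb
  have hC := he hc
  rw [si, sj, sk] at hA
  rw [ti, tj, tk] at hB
  rw [show (![1, -1, 0, -((1 : ZMod (q + 1)) + -1 + 0)]) = ![1, -1, 0, 0] by simp] at hA
  rw [show (![0, 1, -1, -((0 : ZMod (q + 1)) + 1 + -1)]) = ![0, 1, -1, 0] by simp] at hB
  set φ' := MulAut.conj (g * g')⁻¹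
  have hφ' : ∀ x, φ' x = (g * g')⁻¹ * x * (g * g') := fun x => by
    show (g * g')⁻¹ * x * ((g * g')⁻¹)⁻¹ = _
    rw [inv_inv]
  rw [← hφ'] at hA hB hC
  -- transported relations
  have ecomm : ∀ {x y w : SU 4 F q}, w * x = y * w → w * e x = e y * w := fun {x y w} h => by
    cases pos
    · show w * x⁻¹ = y⁻¹ * w
      rw [show y = w * x * w⁻¹ by rw [h, mul_inv_cancel_right]]; group
    · exact h
  have emul : ∀ {x y : SU 4 F q}, Commute x y → e (x * y) = e x * e y := fun {x y} h => by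
    cases pos
    · show (x * y)⁻¹ = x⁻¹ * y⁻¹
      rw [_root_.mul_inv_rev, h.inv_inv.eq]
    · rfl
  have einv : ∀ x : SU 4 F q, e x⁻¹ = (e x)⁻¹ := fun x => by cases pos <;> rfl
  have einj : Function.Injective e := by
    cases pos
    exacts [inv_injective, Function.injective_id]
  set u' := ![(if pos then u else -u) i, (if pos then u else -u) j, (if pos then u else -u) k,
    -((if pos then u else -u) i + (if pos then u else -u) j + (if pos then u else -u) k)]
  have hsim' : ∀ {x y w : SU 4 F q} {d d'}, IsE l (φ' x) d → IsE l (φ' y) d' → w * x = y * w → Sim d d' :=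
    fun {x y w d d'} hx hy h => IsE.sim K hq hl hl' (g := φ' w) hx hy (by rw [← map_mul, h, map_mul])
  have hne' : ∀ {x y : SU 4 F q} {d d'}, IsE l (φ' (e x)) d → IsE l (φ' (e y)) d' → x ≠ y → d ≠ d' :=
    fun hx hy hn h => hn (einj (φ'.injective (IsE.eq hx (h ▸ hy))))
  have hI : ∀ {x : SU 4 F q} {d}, IsE l (φ' (e x)) d → IsE l (φ' (e x⁻¹)) (-d) := fun hx => by
    rw [einv, map_inv]; exact hx.inv K hl
  have hBC : IsE l (φ' (e (b * c))) (![0, 1, -1, 0] + u') := by
    rw [emul hbc, map_mul]; exact hB.mul K hl hC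
  have hAC : IsE l (φ' (e (a * c))) (![1, -1, 0, 0] + u') := by
    rw [emul hac, map_mul]; exact hA.mul K hl hC
  have hA'C : IsE l (φ' (e (a⁻¹ * c))) (-![1, -1, 0, 0] + u') := by
    rw [emul hac.inv_left, map_mul]; exact (hI hA).mul K hl hC
  have n1 : c ≠ a := fun h => by
    rw [h, r1] at r6
    exact na (mul_right_cancel r6).symm
  have n2 : c ≠ a⁻¹ := fun h => by
    rw [h] at r6
    exact na (mul_left_cancel (r1.trans r6.symm))
  have hu : u' = ![0, 0, 1, -1] := hP2 _ _ _ (hne' hC hB fun h => nbc h.symm) (hne' hC hA n1)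
    (hne' hC (hI hA) n2) (hne' hC (hI hC) nc)
    (fun z => ((hsim' hC hBC (ecomm r5)) z).trans ((hsim' hB hBC (ecomm r4)) z).symm)
    (fun z => ((hsim' hB hBC (ecomm r4)) z).symm)
    (hsim' hAC hA'C (ecomm (show w₁ * (a * c) = (a⁻¹ * c) * w₁ by
      rw [← mul_assoc, r1, mul_assoc, r6, mul_assoc])))
  rw [hu] at hC
  rw [hφ'] at hA hB hC
  refine ⟨g * g', pos, ?_⟩
  cases pos
  exacts [⟨hA, hB, hC⟩, ⟨hA, hB, hC⟩]

end CfsgLib.PhanSmall
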